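import Cfsg.Agent.ZN.ChoiceBase
import Cfsg.Agent.PLocal.OffenderStep

section


/-!
# TEXT LL (helper584 #20624): the blocks of a parabolic `Y` of lower stage on `X`

`T` is a 2-group normalising the elementary abelian group `X`; `K l` are the blocks of `Y` over `B₀ = C_T(X)`. Only the
groups `c l` and `N l` (`= C_X(K l)`, for instance) are used here: `T` permutes the pairs `(c l, N l)`,
`X = c l × (X ∩ N l)`, and `c l ≤ N m` for `m ≠ l`.

* `YB T X N c` : these facts, and the stabiliser of `l` in `T` acts on `c l` as a cyclic group;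
* `Mv N c t l m` : `N l ^ t = N m`, `c l ^ t = c m`;
* `Cp`, `Np` : for a set `p` of indices `X = (∏_{m ∈ p} c m) × (X ∩ ⋂_{m ∈ p} N m)`, invariant if `p` is invariant;
* `Orb` : the orbit of `Q ≤ T` on the indices; `restr`, `exists_single` : **(1)**, the `Q`-fixed elements.
-/

set_option autoImplicit false

namespace Cfsg.Agent.Omega.OM.Lev.Low

open Subgroup Cfsg Cfsg.Agent.ZN.ChoiceBase

universe u

variable {G : Type u} [Group G] {Λ : Type*}

/-- `t` moves `l` to `m`. -/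
def Mv (N c : Λ → Subgroup G) (t : G) (l m : Λ) : Prop := cj t (N l) = N m ∧ cj t (c l) = c m

/-- The action of the blocks of a parabolic over `T` on `X` (`N l = C_X(K l)`). -/
structure YB (T X : Subgroup G) (N c : Λ → Subgroup G) : Prop where
  /-- `X` is elementary abelian, `T` normalises `X` -/
  ab : ∀ x ∈ X, ∀ y ∈ X, x * y = y * x
  sq : ∀ x ∈ X, x ^ 2 = 1
  norm : T ≤ normalizer (X : Set G)
  cX : ∀ l, c l ≤ X
  ne : ∀ l, c l ≠ ⊥
  /-- `X = c l × (X ∩ N l)` -/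
  fix : ∀ l, ∀ x ∈ X, ∃ a ∈ c l, a * x ∈ N l
  triv : ∀ l, c l ⊓ N l = ⊥
  comm : ∀ l m, l ≠ m → c l ≤ N m
  perm : ∀ t ∈ T, ∀ l, ∃ m, Mv N c t l m
  /-- the stabiliser of `l` acts on `c l` as a cyclic 2-group -/
  cyc : ∀ l, ∀ s ∈ T, ∀ t ∈ T, Mv N c s l l → Mv N c t l l →
    ∃ n : ℕ, (∀ x ∈ c l, s * t ^ n * x = x * (s * t ^ n)) ∨ ∀ x ∈ c l, t * s ^ n * x = x * (t * s ^ n)

namespace Mv

variable {N c : Λ → Subgroup G}

theorem one (l : Λ) : Mv N c 1 l l := ⟨cj_one _, cj_one _⟩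

theorem mul {s t : G} {l m n : Λ} (h : Mv N c s m n) (h' : Mv N c t l m) : Mv N c (s * t) l n :=
  ⟨by rw [← cj_cj, h'.1, h.1], by rw [← cj_cj, h'.2, h.2]⟩

theorem inv {t : G} {l m : Λ} (h : Mv N c t l m) : Mv N c t⁻¹ m l :=
  ⟨by rw [← h.1, cj_inv_cj], by rw [← h.2, cj_inv_cj]⟩

theorem pow {t : G} {l : Λ} (h : Mv N c t l l) (n : ℕ) : Mv N c (t ^ n) l l := by
  induction n with
  | zero => rw [pow_zero]; exact Mv.one l
  | succ n ih => rw [pow_succ]; exact ih.mul h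

/-- `N l` moves to `N m` -/
theorem cen {t : G} {l m : Λ} (h : Mv N c t l m) {x : G} :
    t * x * t⁻¹ ∈ N m ↔ x ∈ N l := by
  rw [← h.1, mem_cj]
  have e : t⁻¹ * (t * x * t⁻¹) * t = x := by group
  rw [e]

end Mv

namespace YB

variable {T X : Subgroup G} {N c : Λ → Subgroup G}

theorem cm (h : YB T X N c) {x y : G} (hx : x ∈ X) (hy : y ∈ X) : x * y = y * x := h.ab x hx y hy

theorem inv_eq (h : YB T X N c) {x : G} (hx : x ∈ X) : x⁻¹ = x := by
  have h1 := h.sq x hx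
  rw [pow_two] at h1
  exact inv_eq_of_mul_eq_one_left h1

theorem mul_self (h : YB T X N c) {x : G} (hx : x ∈ X) : x * x = 1 := by rw [← pow_two]; exact h.sq x hx

theorem memX (h : YB T X N c) {t x : G} (ht : t ∈ T) (hx : x ∈ X) : t * x * t⁻¹ ∈ X :=
  (mem_normalizer_iff.1 (h.norm ht) x).1 hx

/-- the target is unique -/
theorem uniq (h : YB T X N c) {t : G} {l m m' : Λ} (h1 : Mv N c t l m) (h2 : Mv N c t l m') : m = m' := by
  by_contra hne
  have h3 := h.comm m m' hne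
  have h4 : c m = c m' := h1.2.symm.trans h2.2
  have h5 := h.triv m'
  rw [inf_eq_left.2 (h4 ▸ h3)] at h5
  exact h.ne m' h5

theorem uniq' (h : YB T X N c) {t : G} {l l' m : Λ} (h1 : Mv N c t l m) (h2 : Mv N c t l' m) : l = l' :=
  h.uniq h1.inv h2.inv

variable [Finite Λ]

/-! ### The decomposition of `X` for a set of indices -/

/-- `∏_{m ∈ p} c m` -/
def Cp (c : Λ → Subgroup G) (p : Set Λ) : Subgroup G := ⨆ m ∈ p, c m

/-- `X ∩ ⋂_{m ∈ p} N m` -/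
def Np (X : Subgroup G) (N : Λ → Subgroup G) (p : Set Λ) : Subgroup G :=
  X ⊓ ⨅ m ∈ p, N m

omit [Finite Λ] in
theorem mem_Np {p : Set Λ} {x : G} : x ∈ Np X N p ↔ x ∈ X ∧ ∀ m ∈ p, x ∈ N m := by
  rw [Np, mem_inf]
  simp only [mem_iInf]

omit [Finite Λ] in
theorem Cp_le (h : YB T X N c) (p : Set Λ) : Cp c p ≤ X := iSup₂_le fun m _ => h.cX m

omit [Finite Λ] in
theorem Np_le (p : Set Λ) : Np X N p ≤ X := inf_le_left

omit [Finite Λ] in
theorem Cp_cen (h : YB T X N c) {p : Set Λ} {l : Λ} (hl : l ∉ p) : Cp c p ≤ N l :=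
  iSup₂_le fun m hm => h.comm m l fun e => hl (e ▸ hm)

omit [Finite Λ] in
theorem le_Cp {p : Set Λ} {l : Λ} (hl : l ∈ p) : c l ≤ Cp c p := le_iSup₂_of_le l hl le_rfl

omit [Finite Λ] in
theorem Cp_insert (p : Set Λ) (l : Λ) : Cp c (insert l p) = c l ⊔ Cp c p := by
  rw [Cp, Cp, iSup_insert]

omit [Finite Λ] in
theorem mem_sup_cm (h : YB T X N c) {A B : Subgroup G} (hA : A ≤ X) (hB : B ≤ X) {x : G} (hx : x ∈ A ⊔ B) :
    ∃ a ∈ A, ∃ b ∈ B, x = a * b := by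
  let N : Subgroup G :=
    { carrier := {x | ∃ a ∈ A, ∃ b ∈ B, x = a * b}
      one_mem' := ⟨1, one_mem _, 1, one_mem _, by simp⟩
      mul_mem' := by
        rintro _ _ ⟨a, ha, b, hb, rfl⟩ ⟨a', ha', b', hb', rfl⟩
        refine ⟨a * a', mul_mem ha ha', b * b', mul_mem hb hb', ?_⟩
        have e := h.cm (hB hb) (hA ha')
        calc a * b * (a' * b') = a * (b * a') * b' := by group
          _ = a * a' * (b * b') := by rw [e]; group
      inv_mem' := by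
        rintro _ ⟨a, ha, b, hb, rfl⟩
        refine ⟨a⁻¹, inv_mem ha, b⁻¹, inv_mem hb, ?_⟩
        have e := h.cm (hB (inv_mem hb)) (hA (inv_mem ha))
        rw [mul_inv_rev, e] }
  have h1 : A ⊔ B ≤ N := sup_le (fun a ha => ⟨a, ha, 1, one_mem _, by simp⟩) fun b hb => ⟨1, one_mem _, b, hb, by simp⟩
  exact h1 hx

/-- `X = C_p N_p` -/
theorem exists_split (h : YB T X N c) (p : Set Λ) {x : G} (hx : x ∈ X) : ∃ a ∈ Cp c p, ∃ b ∈ Np X N p, x = a * b := by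
  have key : ∀ s : Set Λ, s.Finite → ∀ x ∈ X, ∃ a ∈ Cp c s, ∃ b ∈ Np X N s, x = a * b := by
    intro s hs
    induction s, hs using Set.Finite.induction_on with
    | empty => exact fun x hx => ⟨1, one_mem _, x, mem_Np.2 ⟨hx, fun m hm => absurd hm (Set.notMem_empty m)⟩, by simp⟩
    | @insert l s hl _ ih =>
      intro x hx
      obtain ⟨a, ha, b, hb, rfl⟩ := ih x hx
      obtain ⟨hbX, hbs⟩ := mem_Np.1 hb
      obtain ⟨a', ha', hc⟩ := h.fix l b hbX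
      refine ⟨a * a'⁻¹, ?_, a' * b, mem_Np.2 ⟨mul_mem (h.cX l ha') hbX, fun m hm => ?_⟩, by group⟩
      · rw [Cp_insert]
        exact mul_mem (mem_sup_right ha) (inv_mem (mem_sup_left ha'))
      · rcases hm with rfl | hm
        · exact hc
        · exact mul_mem (h.comm l m (fun e => hl (e ▸ hm)) ha') (hbs m hm)
  exact key p (Set.toFinite p) x hx

/-- `C_p ∩ N_p = 1` -/
theorem eq_one (h : YB T X N c) {p : Set Λ} {x : G} (hx : x ∈ Cp c p)
    (hc : ∀ m ∈ p, x ∈ N m) : x = 1 := by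
  have key : ∀ s : Set Λ, s.Finite → ∀ x ∈ Cp c s, (∀ m ∈ s, x ∈ N m) → x = 1 := by
    intro s hs
    induction s, hs using Set.Finite.induction_on with
    | empty =>
      intro x hx _
      have h1 : x ∈ (⊥ : Subgroup G) := by simpa [Cp] using hx
      exact mem_bot.1 h1
    | @insert l s hl _ ih =>
      intro x hx hxc
      rw [Cp_insert] at hx
      obtain ⟨a, ha, y, hy, rfl⟩ := h.mem_sup_cm (h.cX l) (h.Cp_le s) hx
      have h1 : y ∈ N l := h.Cp_cen hl hy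
      have h2 : a ∈ c l ⊓ N l := by
        refine mem_inf.2 ⟨ha, ?_⟩
        have h3 := mul_mem (hxc l (Set.mem_insert l s)) (inv_mem h1)
        rwa [mul_inv_cancel_right] at h3
      rw [h.triv l, mem_bot] at h2
      rw [h2, one_mul]
      refine ih y hy fun m hm => ?_
      have h3 := hxc m (Set.mem_insert_of_mem l hm)
      rwa [h2, one_mul] at h3
  exact key p (Set.toFinite p) x hx hc

/-- uniqueness of the decomposition -/
theorem split_uniq (h : YB T X N c) {p : Set Λ} {a a' b b' : G} (ha : a ∈ Cp c p) (ha' : a' ∈ Cp c p)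
    (hb : b ∈ Np X N p) (hb' : b' ∈ Np X N p) (e : a * b = a' * b') : a = a' ∧ b = b' := by
  have e1 : a'⁻¹ * a = b' * b⁻¹ := by
    calc a'⁻¹ * a = a'⁻¹ * (a * b) * b⁻¹ := by group
      _ = a'⁻¹ * (a' * b') * b⁻¹ := by rw [e]
      _ = b' * b⁻¹ := by group
  have h1 : a'⁻¹ * a = 1 := h.eq_one (p := p) (mul_mem (inv_mem ha') ha) fun m hm => by
    rw [e1]
    exact mul_mem ((mem_Np.1 hb').2 m hm) (inv_mem ((mem_Np.1 hb).2 m hm))
  have h2 : a = a' := (inv_mul_eq_one.1 h1).symm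
  subst h2
  exact ⟨rfl, mul_left_cancel e⟩

/-- `p` is invariant under `t` -/
def Inv (N c : Λ → Subgroup G) (t : G) (p : Set Λ) : Prop := ∀ l ∈ p, ∀ m, Mv N c t l m → m ∈ p

omit [Finite Λ] in
theorem Cp_conj (h : YB T X N c) {p p' : Set Λ} {t : G} (ht : t ∈ T)
    (hp : ∀ l ∈ p, ∀ m, Mv N c t l m → m ∈ p') {x : G} (hx : x ∈ Cp c p) : t * x * t⁻¹ ∈ Cp c p' := by
  have h1 : cj t (Cp c p) ≤ Cp c p' := by
    show Subgroup.map _ (⨆ m ∈ p, c m) ≤ _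
    rw [Subgroup.map_iSup]
    refine iSup_le fun m => ?_
    rw [Subgroup.map_iSup]
    refine iSup_le fun hm => ?_
    obtain ⟨m', hm'⟩ := h.perm t ht m
    exact hm'.2.le.trans (le_Cp (hp m hm m' hm'))
  exact h1 ⟨x, hx, rfl⟩

omit [Finite Λ] in
theorem Np_conj (h : YB T X N c) {p p' : Set Λ} {t : G} (ht : t ∈ T)
    (hp : ∀ l, ∀ m ∈ p', Mv N c t l m → l ∈ p) {x : G} (hx : x ∈ Np X N p) : t * x * t⁻¹ ∈ Np X N p' := by
  obtain ⟨hxX, hxp⟩ := mem_Np.1 hx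
  refine mem_Np.2 ⟨h.memX ht hxX, fun m hm => ?_⟩
  obtain ⟨l, hl⟩ := h.perm t⁻¹ (inv_mem ht) m
  have hl' : Mv N c t l m := by
    have := hl.inv
    rwa [inv_inv] at this
  exact hl'.cen.2 (hxp l (hp l m hm hl'))

/-! ### The orbits of `Q` -/

/-- the `Q`-orbit of `l` -/
def Orb (Q : Subgroup G) (N c : Λ → Subgroup G) (l : Λ) : Set Λ := {m | ∃ q ∈ Q, Mv N c q l m}

omit [Finite Λ] in
theorem self_mem (Q : Subgroup G) (l : Λ) : l ∈ Orb Q N c l := ⟨1, one_mem _, Mv.one l⟩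

variable {Q V : Subgroup G}

omit [Finite Λ] in
/-- an element of `N_T(Q)` which moves `l` to `m` moves the orbits -/
theorem orb_mv {t : G} (htQ : t ∈ normalizer (Q : Set G)) {l m l' m' : Λ}
    (h1 : Mv N c t l m) (h2 : l' ∈ Orb Q N c l) (h3 : Mv N c t l' m') : m' ∈ Orb Q N c m := by
  obtain ⟨q, hq, hm⟩ := h2
  refine ⟨t * q * t⁻¹, (mem_normalizer_iff.1 htQ q).1 hq, ?_⟩
  have h4 := (h3.mul hm).mul h1.inv
  exact h4

omit [Finite Λ] in
theorem orb_mv_iff {t : G} (htQ : t ∈ normalizer (Q : Set G)) {l m l' m' : Λ}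
    (h1 : Mv N c t l m) (h3 : Mv N c t l' m') : m' ∈ Orb Q N c m ↔ l' ∈ Orb Q N c l := by
  refine ⟨fun h2 => ?_, fun h2 => orb_mv htQ h1 h2 h3⟩
  exact orb_mv (inv_mem htQ) h1.inv h2 h3.inv

omit [Finite Λ] in
theorem orb_symm {l m : Λ} (h : m ∈ Orb Q N c l) : l ∈ Orb Q N c m := by
  obtain ⟨q, hq, hm⟩ := h
  exact ⟨q⁻¹, inv_mem hq, hm.inv⟩

omit [Finite Λ] in
theorem orb_trans {l m n : Λ} (h : m ∈ Orb Q N c l) (h' : n ∈ Orb Q N c m) : n ∈ Orb Q N c l := by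
  obtain ⟨q, hq, hm⟩ := h
  obtain ⟨q', hq', hn⟩ := h'
  exact ⟨q' * q, mul_mem hq' hq, hn.mul hm⟩

/-- the data of `Q` : `Q ≤ T` is normal and `V = C_X(Q)` -/
structure QV (T X Q V : Subgroup G) : Prop where
  QT : Q ≤ T
  TQ : T ≤ normalizer (Q : Set G)
  mem : ∀ x, x ∈ V ↔ x ∈ X ∧ ∀ q ∈ Q, q * x = x * q
  two : IsPGroup 2 T

omit [Finite Λ] in
theorem QV.VX (hV : QV T X Q V) : V ≤ X := fun x hx => ((hV.mem x).1 hx).1

omit [Finite Λ] in
theorem QV.fix (hV : QV T X Q V) {x q : G} (hx : x ∈ V) (hq : q ∈ Q) : q * x * q⁻¹ = x := by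
  rw [((hV.mem x).1 hx).2 q hq]; group

omit [Finite Λ] in
theorem QV.of_fix (hV : QV T X Q V) {x : G} (hx : x ∈ X) (hf : ∀ q ∈ Q, q * x * q⁻¹ = x) : x ∈ V :=
  (hV.mem x).2 ⟨hx, fun q hq => mul_inv_eq_iff_eq_mul.1 (hf q hq)⟩

omit [Finite Λ] in
theorem QV.memV (h : YB T X N c) (hV : QV T X Q V) {t x : G} (ht : t ∈ T) (hx : x ∈ V) : t * x * t⁻¹ ∈ V := by
  refine hV.of_fix (h.memX ht (hV.VX hx)) fun q hq => ?_
  have h1 : t⁻¹ * q * t ∈ Q := by
    have := (mem_normalizer_iff.1 (inv_mem (hV.TQ ht)) q).1 hq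
    rwa [inv_inv] at this
  have h2 := hV.fix hx h1
  calc q * (t * x * t⁻¹) * q⁻¹ = t * ((t⁻¹ * q * t) * x * (t⁻¹ * q * t)⁻¹) * t⁻¹ := by group
    _ = t * x * t⁻¹ := by rw [h2]

omit [Finite Λ] in
/-- `x ∈ V` lies in `N m` iff it lies in `N l`, `m` in the `Q`-orbit of `l` -/
theorem QV.cen_iff (hV : QV T X Q V) {l m : Λ} (hm : m ∈ Orb Q N c l) {x : G} (hx : x ∈ V) :
    x ∈ N m ↔ x ∈ N l := by
  obtain ⟨q, hq, h1⟩ := hm
  have h2 := h1.cen (x := x)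
  rwa [hV.fix hx hq] at h2

/-- **(1)** the restriction of an element of `V` to a `Q`-invariant set of indices -/
theorem restr (h : YB T X N c) (hV : QV T X Q V) {p : Set Λ} (hp : ∀ q ∈ Q, ∀ l m, Mv N c q l m → (l ∈ p ↔ m ∈ p))
    {v : G} (hv : v ∈ V) : ∃ a ∈ V, ∃ b ∈ V, a ∈ Cp c p ∧ b ∈ Np X N p ∧ v = a * b := by
  obtain ⟨a, ha, b, hb, e⟩ := h.exists_split p (hV.VX hv)
  have key : ∀ q ∈ Q, q * a * q⁻¹ = a ∧ q * b * q⁻¹ = b := by
    intro q hq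
    refine h.split_uniq (h.Cp_conj (hV.QT hq) (fun l hl m hm => (hp q hq l m hm).1 hl) ha) ha
      (h.Np_conj (hV.QT hq) (fun l m hm hlm => (hp q hq l m hlm).2 hm) hb) hb ?_
    rw [← e]
    calc q * a * q⁻¹ * (q * b * q⁻¹) = q * (a * b) * q⁻¹ := by group
      _ = v := by rw [← e]; exact hV.fix hv hq
  exact ⟨a, hV.of_fix (h.Cp_le p ha) fun q hq => (key q hq).1, b, hV.of_fix (Np_le p hb) fun q hq => (key q hq).2,
    ha, hb, e⟩

omit [Finite Λ] in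
theorem orb_inv (l : Λ) : ∀ q ∈ Q, ∀ l' m, Mv N c q l' m → (l' ∈ Orb Q N c l ↔ m ∈ Orb Q N c l) := by
  intro q hq l' m hm
  constructor
  · exact fun h1 => orb_trans h1 ⟨q, hq, hm⟩
  · exact fun h1 => orb_trans h1 ⟨q⁻¹, inv_mem hq, hm.inv⟩

/-- there is an element of `V` supported on the orbit of `l` and nontrivial there -/
theorem exists_single [Finite G] (h : YB T X N c) (hV : QV T X Q V) (l : Λ) :
    ∃ x ∈ V, x ∈ Cp c (Orb Q N c l) ∧ x ∉ N l := by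
  set p := Orb Q N c l with hp
  have hQn : Q ≤ normalizer (Cp c p : Set G) := by
    intro q hq
    refine mem_normalizer_of_cj_le ?_
    rintro _ ⟨x, hx, rfl⟩
    exact h.Cp_conj (hV.QT hq) (fun l' hl' m hm => (orb_inv l q hq l' m hm).1 hl') hx
  have h2X : IsPGroup 2 (Cp c p) := fun x => ⟨1, Subtype.ext (by
    rw [pow_one]
    exact h.sq x (h.Cp_le p x.2))⟩
  have hne : Cp c p ≠ ⊥ := fun e => h.ne l (eq_bot_iff.2 ((le_Cp (self_mem Q l)).trans e.le))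
  have h1 := PLocal.OffenderStep.inf_centralizer_ne_bot (Cp c p) Q h2X (hV.two.to_le hV.QT) hQn hne
  obtain ⟨⟨x, hx⟩, hx1⟩ := (Subgroup.ne_bot_iff_exists_ne_one).1 h1
  obtain ⟨hxp, hxQ⟩ := mem_inf.1 hx
  have hxV : x ∈ V := (hV.mem x).2 ⟨h.Cp_le p hxp, fun q hq => mem_centralizer_iff.1 hxQ q hq⟩
  refine ⟨x, hxV, hxp, fun hc => hx1 (Subtype.ext ?_)⟩
  exact h.eq_one hxp fun m hm => (hV.cen_iff hm hxV).2 hc

end YB

end Cfsg.Agent.Omega.OM.Lev.Low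

end

section


/-!
# TEXT LL (helper584 #20624) (3): `q ≥ 4` is impossible

`V = C_X(Q)`, `b`, `b'`, `b b'` act on `V` as root elements with the same commutator group `Z = [V, b] = [V, b'] =
[V, b b']` (this exists if `q ≥ 4`). Then `Z ≤ N l` for all `l`.

* `Rt T V Z b` : `[V, b] = Z ≤ C(b)`, `b ∈ T`;
* `YB.four` : **(3)**.
-/

set_option autoImplicit false

namespace Cfsg.Agent.Omega.OM.Lev.Low

open Subgroup Cfsg Cfsg.Agent.ZN.ChoiceBase

universe u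

variable {G : Type u} [Group G] {Λ : Type*}

/-- `b` acts on `V` with `[V, b] = Z ≤ C(b)`. -/
structure Rt (T V Z : Subgroup G) (b : G) : Prop where
  bT : b ∈ T
  cen : ∀ z ∈ Z, b * z * b⁻¹ = z
  com : ∀ v ∈ V, v * (b * v * b⁻¹) ∈ Z
  all : ∀ z ∈ Z, ∃ v ∈ V, v * (b * v * b⁻¹) = z

namespace YB

variable {T X Q V Z : Subgroup G} {N c : Λ → Subgroup G}

/-- `b` is an involution on `V`. -/
theorem rt_sq (h : YB T X N c) (hV : QV T X Q V) {b : G} (r : Rt T V Z b) {v : G} (hv : v ∈ V) :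
    b * (b * v * b⁻¹) * b⁻¹ = v := by
  have h1 := r.cen _ (r.com v hv)
  have hbv := QV.memV h hV r.bT hv
  have h2 : (b * v * b⁻¹) * (b * (b * v * b⁻¹) * b⁻¹) = v * (b * v * b⁻¹) := by
    rw [← h1]; group
  rw [h.cm (hV.VX hv) (hV.VX hbv)] at h2
  exact mul_left_cancel h2

/-- if `s` fixes `l` and centralises `c l`, then `x x^s ∈ N l` -/
theorem cen_of (h : YB T X N c) {s : G} {l : Λ} (hm : Mv N c s l l)
    (hc : ∀ x ∈ c l, s * x = x * s) {x : G} (hx : x ∈ X) : x * (s * x * s⁻¹) ∈ N l := by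
  obtain ⟨a, ha, h1⟩ := h.fix l x hx
  have haX := h.cX l ha
  have h2 := hm.cen.2 h1
  have h3 : s * a * s⁻¹ = a := by rw [hc a ha]; group
  have h4 : s * (a * x) * s⁻¹ = a * (s * x * s⁻¹) := by
    calc s * (a * x) * s⁻¹ = (s * a * s⁻¹) * (s * x * s⁻¹) := by group
      _ = _ := by rw [h3]
  have h5 := mul_mem h1 h2
  rw [h4] at h5
  have h6 : a * x * (a * (s * x * s⁻¹)) = x * (s * x * s⁻¹) := by
    calc a * x * (a * (s * x * s⁻¹)) = a * (x * a) * (s * x * s⁻¹) := by group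
      _ = (a * a) * x * (s * x * s⁻¹) := by rw [h.cm hx haX]; group
      _ = _ := by rw [h.mul_self haX, one_mul]
  rwa [h6] at h5

/-- `r` preserves the orbit of `l` -/
theorem orb_inv_of {Q : Subgroup G} {r : G} (hr : r ∈ normalizer (Q : Set G)) {l m : Λ} (hm : Mv N c r l m)
    (hml : m ∈ Orb Q N c l) : (∀ l' ∈ Orb Q N c l, ∀ m', Mv N c r l' m' → m' ∈ Orb Q N c l) ∧
      ∀ l', ∀ m' ∈ Orb Q N c l, Mv N c r l' m' → l' ∈ Orb Q N c l := by
  refine ⟨fun l' hl' m' hm' => orb_trans hml (orb_mv hr hm hl' hm'), fun l' m' hm' hlm => ?_⟩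
  exact (orb_mv_iff hr hm hlm).1 (orb_trans (orb_symm hml) hm')

variable [Finite Λ]

/-- the `l`-part of `v v^r` comes from the `l`-part of `v` if `r` preserves the orbit of `l` -/
theorem exists_part (h : YB T X N c) (hV : QV T X Q V) {r : G} (hr : Rt T V Z r) {l m : Λ} (hm : Mv N c r l m)
    (hml : m ∈ Orb Q N c l) {z : G} (hz : z ∈ Z) :
    ∃ a ∈ V, a ∈ Cp c (Orb Q N c l) ∧ (a * (r * a * r⁻¹) ∈ N l → z ∈ N l) := by
  obtain ⟨v, hv, rfl⟩ := hr.all z hz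
  obtain ⟨a, haV, d, hdV, ha, hd, rfl⟩ := h.restr hV (p := Orb Q N c l) (orb_inv l) hv
  refine ⟨a, haV, ha, fun h1 => ?_⟩
  obtain ⟨-, i2⟩ := orb_inv_of (hV.TQ hr.bT) hm hml
  have h2 : d * (r * d * r⁻¹) ∈ N l :=
    mul_mem ((mem_Np.1 hd).2 l (self_mem Q l)) ((mem_Np.1 (h.Np_conj hr.bT i2 hd)).2 l (self_mem Q l))
  have h3 := mul_mem h1 h2
  have hra := QV.memV h hV hr.bT haV
  have e : a * (r * a * r⁻¹) * (d * (r * d * r⁻¹)) = a * d * (r * (a * d) * r⁻¹) := by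
    calc a * (r * a * r⁻¹) * (d * (r * d * r⁻¹)) = a * ((r * a * r⁻¹) * d) * (r * d * r⁻¹) := by group
      _ = a * d * (r * (a * d) * r⁻¹) := by rw [h.cm (hV.VX hra) (hV.VX hdV)]; group
  rwa [e] at h3

/-- **(3), first step**: if `b` moves the orbit of `l`, then every other root element at `i` moves it. -/
theorem move (h : YB T X N c) [Finite G] (hV : QV T X Q V) {b b' : G} (r : Rt T V Z b) (r' : Rt T V Z b') {l m m' : Λ}
    (hm : Mv N c b l m) (hml : m ∉ Orb Q N c l) (hm' : Mv N c b' l m') (hml' : m' ∈ Orb Q N c l) : False := by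
  obtain ⟨x, hx, hxp, hxl⟩ := h.exists_single hV l
  have hbx : b * x * b⁻¹ ∈ Cp c (Orb Q N c m) :=
    h.Cp_conj r.bT (fun l' hl' m' hm' => orb_mv (hV.TQ r.bT) hm hl' hm') hxp
  have h1 : b * x * b⁻¹ ∈ N l := h.Cp_cen (fun e => hml (orb_symm e)) hbx
  obtain ⟨a, haV, ha, h2⟩ := h.exists_part hV r' hm' hml' (r.com x hx)
  have h3 : x * (b * x * b⁻¹) ∈ N l := by
    refine h2 ?_
    have h4 := r'.com a haV
    obtain ⟨i1, -⟩ := orb_inv_of (hV.TQ r'.bT) hm' hml'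
    have h5 : a * (b' * a * b'⁻¹) ∈ N m :=
      h.Cp_cen hml (mul_mem ha (h.Cp_conj r'.bT i1 ha))
    rw [← r.cen _ h4] at h5
    exact hm.cen.1 h5
  refine hxl ?_
  have h4 := mul_mem h3 (inv_mem h1)
  rwa [mul_inv_cancel_right] at h4

/-- all root elements preserve the orbits -/
theorem fixes (h : YB T X N c) [Finite G] (hV : QV T X Q V) {b b' : G} (r : Rt T V Z b) (r' : Rt T V Z b')
    (r'' : Rt T V Z (b * b')) {l m : Λ} (hm : Mv N c b l m) : m ∈ Orb Q N c l := by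
  by_contra hml
  obtain ⟨m', hm'⟩ := h.perm b' r'.bT l
  have hml' : m' ∉ Orb Q N c l := fun e => h.move hV r r' hm hml hm' e
  obtain ⟨x, hx, hxp, hxl⟩ := h.exists_single hV l
  have hbx : b * x * b⁻¹ ∈ Cp c (Orb Q N c m) :=
    h.Cp_conj r.bT (fun l' hl' m' hm' => orb_mv (hV.TQ r.bT) hm hl' hm') hxp
  have h1 : b * x * b⁻¹ ∈ N l := h.Cp_cen (fun e => hml (orb_symm e)) hbx
  -- `z = x x^b` is not trivial at `l`, so not at `m'`
  have hz := r.com x hx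
  have hzl : x * (b * x * b⁻¹) ∉ N l := fun h3 => hxl (by
    have h4 := mul_mem h3 (inv_mem h1)
    rwa [mul_inv_cancel_right] at h4)
  have hzm : x * (b * x * b⁻¹) ∉ N m' := fun h3 => hzl (by
    rw [← r'.cen _ hz] at h3
    exact hm'.cen.1 h3)
  have hmm : m' ∈ Orb Q N c m := by
    by_contra h3
    exact hzm (mul_mem (h.Cp_cen hml' hxp) (h.Cp_cen h3 hbx))
  -- `b²` preserves the orbit of `l`
  obtain ⟨m3, hm3⟩ := h.perm b r.bT m
  have h3l : m3 ∈ Orb Q N c l := by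
    by_contra h3
    have h4 := h.rt_sq hV r hx
    have h5 : x ∈ N m3 := h.Cp_cen h3 hxp
    rw [← h4] at h5
    exact hxl (hm.cen.1 (hm3.cen.1 h5))
  obtain ⟨m2, hm2⟩ := h.perm b r.bT m'
  have h2l : m2 ∈ Orb Q N c l := orb_trans h3l (orb_mv (hV.TQ r.bT) hm3 hmm hm2)
  exact h.move hV r r'' hm hml (hm2.mul hm') h2l

omit [Finite Λ] in
/-- an element which fixes `l` and acts on `V` as `r` -/
theorem exists_rep (h : YB T X N c) (hV : QV T X Q V) {r : G} (hr : Rt T V Z r) {l m : Λ} (hm : Mv N c r l m)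
    (hml : m ∈ Orb Q N c l) : ∃ s ∈ T, Mv N c s l l ∧ ∀ x ∈ V, s * x * s⁻¹ = r * x * r⁻¹ := by
  obtain ⟨q, hq, hqm⟩ := hml
  refine ⟨q⁻¹ * r, mul_mem (inv_mem (hV.QT hq)) hr.bT, hqm.inv.mul hm, fun x hx => ?_⟩
  have h1 := hV.fix (QV.memV h hV hr.bT hx) (inv_mem hq)
  calc q⁻¹ * r * x * (q⁻¹ * r)⁻¹ = q⁻¹ * (r * x * r⁻¹) * q⁻¹⁻¹ := by group
    _ = _ := h1

/-- **(3)** -/
theorem four (h : YB T X N c) [Finite G] (hV : QV T X Q V) {b b' : G} (r : Rt T V Z b)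
    (r' : Rt T V Z b') (r'' : Rt T V Z (b * b')) {z : G} (hz : z ∈ Z) (l : Λ) : z ∈ N l := by
  -- `b⁻¹` and `b'⁻¹` act as `b` and `b'`
  have sq1 := fun {x : G} (hx : x ∈ V) => h.rt_sq hV r hx
  have sq2 := fun {x : G} (hx : x ∈ V) => h.rt_sq hV r' hx
  have mV1 := fun {x : G} (hx : x ∈ V) => QV.memV h hV r.bT hx
  have mV2 := fun {x : G} (hx : x ∈ V) => QV.memV h hV r'.bT hx
  have comm : ∀ x ∈ V, b' * (b * x * b⁻¹) * b'⁻¹ = b * (b' * x * b'⁻¹) * b⁻¹ := by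
    intro x hx
    have h1 := h.rt_sq hV r'' hx
    have h2 : b * (b' * (b * (b' * x * b'⁻¹) * b⁻¹) * b'⁻¹) * b⁻¹ = x := by
      have e : b * (b' * (b * (b' * x * b'⁻¹) * b⁻¹) * b'⁻¹) * b⁻¹ =
          b * b' * (b * b' * x * (b * b')⁻¹) * (b * b')⁻¹ := by group
      rw [e, h1]
    have h3 : b' * (b * (b' * x * b'⁻¹) * b⁻¹) * b'⁻¹ = b * x * b⁻¹ := by
      have h4 := congrArg (fun t => b * t * b⁻¹) h2
      rw [sq1 (mV2 (mV1 (mV2 hx)))] at h4
      exact h4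
    have h4 := congrArg (fun t => b' * t * b'⁻¹) h3
    rw [sq2 (mV1 (mV2 hx))] at h4
    exact h4.symm
  obtain ⟨m, hm⟩ := h.perm b r.bT l
  obtain ⟨m', hm'⟩ := h.perm b' r'.bT l
  have r3 : Rt T V Z (b' * b) := by
    refine ⟨mul_mem r'.bT r.bT, fun z hz => ?_, fun v hv => ?_, fun z hz => ?_⟩
    · have e : b' * b * z * (b' * b)⁻¹ = b' * (b * z * b⁻¹) * b'⁻¹ := by group
      rw [e, r.cen z hz, r'.cen z hz]
    · have e : b' * b * v * (b' * b)⁻¹ = b' * (b * v * b⁻¹) * b'⁻¹ := by group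
      have e2 : b * b' * v * (b * b')⁻¹ = b * (b' * v * b'⁻¹) * b⁻¹ := by group
      rw [e, comm v hv, ← e2]
      exact r''.com v hv
    · obtain ⟨v, hv, e1⟩ := r''.all z hz
      refine ⟨v, hv, ?_⟩
      have e : b' * b * v * (b' * b)⁻¹ = b' * (b * v * b⁻¹) * b'⁻¹ := by group
      have e2 : b * b' * v * (b * b')⁻¹ = b * (b' * v * b'⁻¹) * b⁻¹ := by group
      rw [e, comm v hv, ← e2]
      exact e1
  have hml := h.fixes hV r r' r'' hm
  have hml' := h.fixes hV r' r r3 hm'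
  obtain ⟨m2, hm2⟩ := h.perm (b * b') r''.bT l
  have hml2 : m2 ∈ Orb Q N c l := by
    obtain ⟨n, hn⟩ := h.perm b r.bT m'
    have h1 := h.uniq hm2 (hn.mul hm')
    subst h1
    exact orb_trans hml (orb_mv (hV.TQ r.bT) hm hml' hn)
  obtain ⟨s, hs, hsl, hsV⟩ := h.exists_rep hV r hm hml
  obtain ⟨s', hs', hsl', hsV'⟩ := h.exists_rep hV r' hm' hml'
  -- powers of `s`, `s'` on `V`
  have pw : ∀ {t g : G}, Rt T V Z g → (∀ x ∈ V, t * x * t⁻¹ = g * x * g⁻¹) → ∀ n : ℕ,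
      (∀ x ∈ V, t ^ n * x * (t ^ n)⁻¹ = x) ∨ ∀ x ∈ V, t ^ n * x * (t ^ n)⁻¹ = g * x * g⁻¹ := by
    intro t g hg ht n
    induction n with
    | zero => exact Or.inl fun x _ => by simp
    | succ n ih =>
      have e : ∀ x, t ^ (n + 1) * x * (t ^ (n + 1))⁻¹ = t * (t ^ n * x * (t ^ n)⁻¹) * t⁻¹ := fun x => by
        rw [pow_succ']; group
      rcases ih with ih | ih
      · right
        intro x hx
        rw [e, ih x hx, ht x hx]
      · left
        intro x hx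
        rw [e, ih x hx, ht _ (QV.memV h hV hg.bT hx), h.rt_sq hV hg hx]
  have fin : ∀ {g : G} (_ : Rt T V Z g) {n : Λ}, Mv N c g l n → n ∈ Orb Q N c l →
      (∀ x ∈ V, x * (g * x * g⁻¹) ∈ N l) → z ∈ N l := by
    intro g hg n h1 h2 h3
    obtain ⟨a, haV, -, h4⟩ := h.exists_part hV hg h1 h2 hz
    exact h4 (h3 a haV)
  obtain ⟨n, hn | hn⟩ := h.cyc l s hs s' hs' hsl hsl'
  · have hM : Mv N c (s * s' ^ n) l l := hsl.mul (hsl'.pow n)
    have h1 := fun {x : G} (hx : x ∈ V) => h.cen_of hM hn (hV.VX hx)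
    have e : ∀ x, s * s' ^ n * x * (s * s' ^ n)⁻¹ = s * (s' ^ n * x * (s' ^ n)⁻¹) * s⁻¹ := fun x => by group
    rcases pw r' hsV' n with h2 | h2
    · refine fin r hm hml fun x hx => ?_
      have h3 := h1 hx
      rwa [e, h2 x hx, hsV x hx] at h3
    · refine fin r'' hm2 hml2 fun x hx => ?_
      have h3 := h1 hx
      rw [e, h2 x hx, hsV _ (mV2 hx)] at h3
      have e2 : b * b' * x * (b * b')⁻¹ = b * (b' * x * b'⁻¹) * b⁻¹ := by group
      rwa [e2]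
  · have hM : Mv N c (s' * s ^ n) l l := hsl'.mul (hsl.pow n)
    have h1 := fun {x : G} (hx : x ∈ V) => h.cen_of hM hn (hV.VX hx)
    have e : ∀ x, s' * s ^ n * x * (s' * s ^ n)⁻¹ = s' * (s ^ n * x * (s ^ n)⁻¹) * s'⁻¹ := fun x => by group
    rcases pw r hsV n with h2 | h2
    · refine fin r' hm' hml' fun x hx => ?_
      have h3 := h1 hx
      rwa [e, h2 x hx, hsV' x hx] at h3
    · refine fin r'' hm2 hml2 fun x hx => ?_
      have h3 := h1 hx
      rw [e, h2 x hx, hsV' _ (mV1 hx), comm x hx] at h3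
      have e2 : b * b' * x * (b * b')⁻¹ = b * (b' * x * b'⁻¹) * b⁻¹ := by group
      rwa [e2]

end YB

end Cfsg.Agent.Omega.OM.Lev.Low

end
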