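import Cfsg.Agent.Mrg.Omega.OM.Lev.Uni
import Cfsg.Agent.Mrg.Omega.OM.Lev.Low.Data


/-!
# TEXT LL (helper584 #20624) (3) over the frame of `P`

* `zj_le` : a subgroup containing all `Z i` contains `Z_J`;
* `rt` : an element of `A i` which moves `W i` is a root element: `[V, b] = Z i`;
* `no_low` : **(3)**: if `q > 2`, then the blocks of a parabolic of lower stage centralise `Z_J`.
-/

set_option autoImplicit false

namespace Cfsg.Agent.Omega.OM.Lev.Low

open Subgroup Cfsg Cfsg.Agent.ZN Cfsg.Agent.ZN.ChoiceBase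
open Cfsg.Agent.Omega.OM.Uni Cfsg.Agent.Omega.OM.Lev.Uni
open Cfsg.Agent.Omega.SQ1.Bau (mem_sup_comm card_sup_comm elem_comm elem_sq)

universe u

variable {G : Type u} [Group G] {ι Λ : Type*} {B Q V X ZJ : Subgroup G} {L W Z C A : ι → Subgroup G} {q : ℕ}

/-- a subgroup which contains all `Z i` contains `Z_J` -/
theorem zj_le (h : FrL B Q V X ZJ L W Z C A q) [Finite ι] {H : Subgroup G} (hZ : ∀ i, Z i ≤ H) : ZJ ≤ H := by
  have key : ∀ s : Set ι, s.Finite → ∀ z ∈ ZJ, ∃ w ∈ H, ∃ c ∈ ZJ, (∀ i ∈ s, c ∈ C i) ∧ z = w * c := by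
    intro s hs
    induction s, hs using Set.Finite.induction_on with
    | empty => exact fun z hz => ⟨1, one_mem _, z, hz, fun i hi => absurd hi (Set.notMem_empty i), by simp⟩
    | @insert i s hi _ ih =>
      intro z hz
      obtain ⟨w, hw, c, hc, hcs, rfl⟩ := ih z hz
      obtain ⟨w', hw', c', hc', hcJ, rfl⟩ := h.split_ZJ i hc
      refine ⟨w * w', mul_mem hw (hZ i hw'), c', hcJ, fun j hj => ?_, by group⟩
      rcases hj with rfl | hj
      · exact hc'
      · have h1 : w' ∈ C j := h.WjC j i (fun e => hi (e ▸ hj)) ((h.blk i).ZV hw')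
        have h2 := mul_mem (inv_mem h1) (hcs j hj)
        rwa [inv_mul_cancel_left] at h2
  intro z hz
  obtain ⟨w, hw, c, hc, hcs, rfl⟩ := key Set.univ (Set.toFinite _) z hz
  have h1 : c = 1 := h.C0 c (h.ZJV hc) fun i => hcs i (Set.mem_univ i)
  rwa [h1, mul_one]

/-- `[W i, b] = Z i` -/
theorem exists_comm (h : FrL B Q V X ZJ L W Z C A q) [Finite G] {i : ι} {b : G} (hb : b ∈ B)
    (hne : ¬ ∀ v ∈ W i, b * v = v * b) {z : G} (hz : z ∈ Z i) : ∃ w ∈ W i, w * (b * w * b⁻¹) = z := by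
  have hi := h.blk i
  have hsq : ∀ w ∈ W i, w⁻¹ = w := fun w hw => inv_eq_of_mul_eq_one_left (by
    rw [← pow_two]; exact elem_sq hi.el w hw)
  let f : ↥(W i) →* G :=
    { toFun := fun w => (w : G) * (b * w * b⁻¹)
      map_one' := by simp
      map_mul' := by
        rintro ⟨w, hw⟩ ⟨w', hw'⟩
        show w * w' * (b * (w * w') * b⁻¹) = w * (b * w * b⁻¹) * (w' * (b * w' * b⁻¹))
        have e := hi.comm hw' (hi.BV hb hw)
        calc w * w' * (b * (w * w') * b⁻¹) = w * (w' * (b * w * b⁻¹)) * (b * w' * b⁻¹) := by group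
          _ = _ := by rw [e]; group }
  have hf : ∀ w : ↥(W i), f w = (w : G) * (b * w * b⁻¹) := fun w => rfl
  have hker : f.ker = (Z i).subgroupOf (W i) := by
    ext ⟨w, hw⟩
    rw [MonoidHom.mem_ker, mem_subgroupOf, hf]
    constructor
    · intro h1
      refine hi.mem_Z hb hne hw ?_
      have h2 : b * w * b⁻¹ = w := by
        have h3 := inv_eq_of_mul_eq_one_right h1
        rw [← h3, hsq w hw]
      exact mul_inv_eq_iff_eq_mul.1 h2
    · intro h1
      have h2 := hi.cZ b hb w h1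
      show w * (b * w * b⁻¹) = 1
      rw [h2, mul_inv_cancel_right, ← pow_two]
      exact elem_sq hi.el w hw
  have hran : f.range ≤ Z i := by
    rintro _ ⟨⟨w, hw⟩, rfl⟩
    rw [hf]
    have h1 := hi.com b hb w hw
    rw [hsq w hw, hi.comm (hi.BV hb hw) hw] at h1
    exact h1
  have hc1 : Nat.card f.ker = Nat.card (Z i) := by
    rw [hker]
    exact Nat.card_congr (subgroupOfEquivOfLe hi.ZV).toEquiv
  have hc2 := Subgroup.card_mul_index f.ker
  rw [Subgroup.index_ker, hc1, hi.card, h.cardZ i] at hc2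
  have hq := hi.one
  have hc3 : Nat.card f.range = q := Nat.eq_of_mul_eq_mul_left (by omega) hc2
  have h1 : f.range = Z i := Subgroup.eq_of_le_of_card_ge hran (by rw [hc3, h.cardZ i])
  rw [← h1] at hz
  obtain ⟨⟨w, hw⟩, e⟩ := hz
  exact ⟨w, hw, e⟩

/-- **an element of `A i` which moves `W i` is a root element** -/
theorem rt (h : FrL B Q V X ZJ L W Z C A q) [Finite G] {T : Subgroup G} (hT : B ≤ T) {i : ι} {b : G} (hb : b ∈ A i)
    (hne : ¬ ∀ v ∈ W i, b * v = v * b) : Rt T V (Z i) b := by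
  refine ⟨hT (h.AB i hb), fun z hz => ?_, fun v hv => ?_, fun z hz => ?_⟩
  · rw [(h.blk i).cZ b (h.AB i hb) z hz]; group
  · have h1 := h.A_comm hb hv
    have h2 : v⁻¹ = v := inv_eq_of_mul_eq_one_left (by rw [← pow_two]; exact elem_sq h.el v hv)
    have h3 : b * v * b⁻¹ ∈ V := h.LV i b ((h.blk i).BL (h.AB i hb)) v hv
    rw [h2, h.Vc h3 hv] at h1
    exact h1
  · obtain ⟨w, hw, e⟩ := exists_comm h (h.AB i hb) hne hz
    exact ⟨w, h.WV i hw, e⟩

/-- root elements `b`, `b'`, `b b'` -/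
theorem exists_three (h : FrL B Q V X ZJ L W Z C A q) [Finite G] (hq : 2 < q) (i : ι) :
    ∃ b ∈ A i, ∃ b' ∈ A i, (¬ ∀ v ∈ W i, b * v = v * b) ∧ (¬ ∀ v ∈ W i, b' * v = v * b') ∧
      ¬ ∀ v ∈ W i, b * b' * v = v * (b * b') := by
  obtain ⟨-, -, hc⟩ := h.A_full i
  set D := A i ⊓ centralizer (W i : Set G) with hD
  have memD : ∀ {a : G}, a ∈ A i → ((∀ v ∈ W i, a * v = v * a) ↔ a ∈ D) := fun {a} ha => by
    rw [hD, mem_inf, mem_centralizer_iff]
    exact ⟨fun h1 => ⟨ha, fun v hv => (h1 v hv).symm⟩, fun h1 v hv => (h1.2 v hv).symm⟩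
  have hDA : D ≤ A i := inf_le_left
  obtain ⟨b, hb, hbD⟩ : ∃ b ∈ A i, b ∉ D := by
    by_contra hcon
    push Not at hcon
    have h1 := Subgroup.card_le_of_le (show A i ≤ D from hcon)
    have h2 : 0 < Nat.card D := Nat.card_pos
    nlinarith
  -- `A i` is not the union of `D` and `b⁻¹ D`
  obtain ⟨b', hb', h1, h2⟩ : ∃ b' ∈ A i, b' ∉ D ∧ b * b' ∉ D := by
    by_contra hcon
    push Not at hcon
    have h1 : (A i : Set G) ⊆ (D : Set G) ∪ ((fun x => b⁻¹ * x) '' (D : Set G)) := by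
      intro x hx
      by_cases hxD : x ∈ D
      · exact Or.inl hxD
      · exact Or.inr ⟨b * x, hcon x hx hxD, by group⟩
    have h2 := Set.ncard_le_ncard h1 (Set.toFinite _)
    have h3 := Set.ncard_union_le (D : Set G) ((fun x => b⁻¹ * x) '' (D : Set G))
    have h4 := Set.ncard_image_le (f := fun x => b⁻¹ * x) (Set.toFinite (D : Set G))
    have h5 : (A i : Set G).ncard = Nat.card (A i) := rfl
    have h6 : (D : Set G).ncard = Nat.card D := rfl
    rw [h5] at h2
    rw [h6] at h3 h4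
    have h7 : 0 < Nat.card D := Nat.card_pos
    nlinarith
  exact ⟨b, hb, b', hb', fun e => hbD ((memD hb).1 e), fun e => h1 ((memD hb').1 e),
    fun e => h2 ((memD (mul_mem hb hb')).1 e)⟩

/-- **TEXT LL (3): if `q > 2`, the blocks of a parabolic of lower stage centralise `Z_J`.** -/
theorem no_low (h : FrL B Q V X ZJ L W Z C A q) [Finite G] [Finite ι] (hq : 2 < q) {T Y : Subgroup G}
    {N c : Λ → Subgroup G} [Finite Λ] (hY : YB T Y N c) (hV : YB.QV T Y Q V) (hBT : B ≤ T) (l : Λ) :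
    ZJ ≤ N l := by
  refine zj_le h fun i z hz => ?_
  obtain ⟨b, hb, b', hb', h1, h2, h3⟩ := exists_three h hq i
  exact hY.four hV (rt h hBT hb h1) (rt h hBT hb' h2) (rt h hBT (mul_mem hb hb') h3) hz l

end Cfsg.Agent.Omega.OM.Lev.Low
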