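import Cfsg.Agent.Mrg.Omega.OM.Lev.Low.Data
import Cfsg.Agent.Mrg.Omega.OM.Lev.GSym
import Cfsg.Agent.Mrg.Omega.NO3S.ThmB.Cyc

section


/-!
# `YB` for a parabolic of natural type

`LD M B ZJ L j` : one block `L` for the `j`-th summand. `Ni i` : the elements of `Z_J` centralised by all `T`-conjugates
of `L` for the `i`-th summand.

* `LD.eq` : **LEMMA EQ** (helper584): one of them is enough;
* `LD.yb` : `YB T ZJ Ni c`.
-/

set_option autoImplicit false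
set_option linter.unusedSectionVars false

namespace Cfsg.Agent.Omega.OM.Lev.Low

open Subgroup Cfsg Cfsg.Agent.ZN Cfsg.Agent.ZN.ChoiceBase Cfsg.Agent.ZN.ChoiceSit
open Cfsg.Agent.Omega.NatPair (ap ap_zero' ap_one' ap_one ap_mul ext2 ap_inv_ap ap_inj)
open Cfsg.Agent.Lib.SL2Mat
open Cfsg.Agent.Omega.SQ1.FFOne (MinH)
open Cfsg.Agent.Omega.NO3S.OneLine (NatC single_acts natC_of)
open Cfsg.Agent.Omega.OM.Lev.Nat (Wn mem_Wn ap_z exists_up)
open Cfsg.Agent.Omega.FFThm (NatK NatKM ActsSL)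
open Cfsg.Agent.Omega.SQ1.Bau (elem_comm elem_sq)
open Cfsg.Agent.Omega.NO3S.ThmB (Nb Fx Pf)

universe u

variable {G : Type u} [Group G] [Finite G] {F : Type} [Field F] {T H V D : Subgroup G} {k : ℕ}
  {M : NatC F T H V D k} {B ZJ L : Subgroup G} {j : Fin k}

/-- the elements of `Z_J` centralised by all `T`-conjugates of `L` for the `i`-th summand -/
def Ni (M : NatC F T H V D k) (ZJ L : Subgroup G) (j i : Fin k) : Subgroup G :=
  ZJ ⊓ ⨅ (t : G) (_ : t ∈ T ∧ MvI M t j i), centralizer (cj t L : Set G)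

theorem mem_Ni {i : Fin k} {x : G} : x ∈ Ni M ZJ L j i ↔ x ∈ ZJ ∧ ∀ t ∈ T, MvI M t j i → ∀ l ∈ L,
    l * (t⁻¹ * x * t) = t⁻¹ * x * t * l := by
  rw [Ni, mem_inf]
  simp only [mem_iInf]
  refine and_congr_right fun _ => ⟨fun h t ht hm l hl => ?_, fun h t ht => ?_⟩
  · have h1 := mem_centralizer_iff.1 (h t ⟨ht, hm⟩) (t * l * t⁻¹) ⟨l, hl, rfl⟩
    have h2 := congrArg (fun y => t⁻¹ * y * t) h1
    simpa [mul_assoc] using h2
  · rw [mem_centralizer_iff]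
    rintro _ ⟨l, hl, rfl⟩
    have h1 := h t ht.1 ht.2 l hl
    have h2 := congrArg (fun y => t * y * t⁻¹) h1
    show t * l * t⁻¹ * x = x * (t * l * t⁻¹)
    simpa [mul_assoc] using h2

namespace LD

variable (h : LD M B ZJ L j)
include h

theorem conjZ {t x : G} (ht : t ∈ T) (hx : x ∈ ZJ) : t * x * t⁻¹ ∈ ZJ := (mem_normalizer_iff.1 (h.TZ ht) x).1 hx

theorem conjZ' {t x : G} (ht : t ∈ T) (hx : x ∈ ZJ) : t⁻¹ * x * t ∈ ZJ := by
  have := h.conjZ (inv_mem ht) hx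
  rwa [inv_inv] at this

/-- an element of the `j`-th line centralised by `L` lies in `D` -/
theorem Lj_D {n : G} (hn : n ∈ Li M j) (hc : ∀ l ∈ L, l * n = n * l) : n ∈ D := by
  refine Li_D hn ?_
  obtain ⟨l, hl, hlA⟩ := h.cov (lo 1)
  have h1 : l * n * l⁻¹ = n := by rw [hc l hl]; group
  have h2 := hlA.e_i hn.1
  rw [h1] at h2
  have h3 := congrFun h2 1
  rw [ap_one', hn.2.2] at h3
  simpa using h3.symm

/-- a 2-element of `C_H(V)` normalises `Z_J` -/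
theorem two_norm [CharP F 2] {y : G} (hy : y ∈ H) (hyV : ∀ v ∈ V, y * v = v * y) {n : ℕ} (hn : y ^ 2 ^ n = 1) :
    y ∈ T := by
  have hys : y ∈ M.stab := by
    refine ⟨hy, fun v hv i => ?_, fun d hd => hyV d (M.DV hd)⟩
    rw [hyV v hv, mul_inv_cancel_right, Pi.one_apply, ap_one]
  have hTs : T ⊓ M.stab ≤ o2 H := h.hm.inf_le (fun _ h => h.1) M.stab_norm (M.stab_sup_ne h.hm.syl)
  have hp : IsPGroup 2 (zpowers y) := by
    rintro ⟨z, hz⟩
    obtain ⟨m, rfl⟩ := mem_zpowers_iff.1 hz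
    refine ⟨n, Subtype.ext ?_⟩
    show (y ^ m) ^ 2 ^ n = 1
    rw [← zpow_natCast, ← zpow_mul, mul_comm, zpow_mul, zpow_natCast, hn, one_zpow]
  obtain ⟨S, hS, hyS⟩ := exists_syl hp ((zpowers_le (H := H)).2 hy)
  obtain ⟨g, hg, e⟩ := syl_conj hS h.hm.syl
  have h1 : g * y * g⁻¹ ∈ T := by
    rw [← e]
    exact ⟨y, hyS (mem_zpowers y), rfl⟩
  have h3 := hTs ⟨h1, M.stab_norm g hg y hys⟩
  have h4 := (mem_normalizer_iff.1 (ChoiceSit.le_normalizer_o2 H (inv_mem hg)) _).1 h3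
  have e1 : g⁻¹ * (g * y * g⁻¹) * g⁻¹⁻¹ = y := by group
  rw [e1] at h4
  exact o2_le_syl h.hm.syl h4

/-- **LEMMA EQ** (helper584) -/
theorem eq [CharP F 2] {t s : G} (ht : t ∈ T) (hs : s ∈ T) {i : Fin k} (mt : MvI M t j i) (ms : MvI M s j i) {x : G}
    (hx : x ∈ ZJ) (hc : ∀ l ∈ L, l * (t⁻¹ * x * t) = t⁻¹ * x * t * l) :
    ∀ l ∈ L, l * (s⁻¹ * x * s) = s⁻¹ * x * s * l := by
  obtain ⟨c, hcZ, hcL, n, hn, e0⟩ := h.split _ (h.conjZ' hs hx)
  have hnD : n ∈ D := by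
    refine Li_D hn ?_
    by_contra hne
    obtain ⟨l', hl', hlA⟩ := h.cov (lo 1)
    have hsH := h.TH hs
    have htH := h.TH ht
    -- `g' = s l' s⁻¹`, `g = t l t⁻¹` act in the same way on `V`
    obtain ⟨A', hA'⟩ := hlA.conj hsH ms
    obtain ⟨A'', hA''⟩ := hA'.conj (inv_mem htH) (mt.inv htH)
    obtain ⟨l, hl, hlA''⟩ := h.cov A''
    have hgg : ∀ v ∈ V, (s * l' * s⁻¹) * v * (s * l' * s⁻¹)⁻¹ = (t * l * t⁻¹) * v * (t * l * t⁻¹)⁻¹ := by
      intro v hv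
      have h3 := hA''.same h.hm hlA'' (M.Vn t⁻¹ (inv_mem htH) v hv)
      have h4 := congrArg (fun y => t * y * t⁻¹) h3
      have e1 : t * (t⁻¹ * (s * l' * s⁻¹) * t⁻¹⁻¹ * (t⁻¹ * v * t⁻¹⁻¹) * (t⁻¹ * (s * l' * s⁻¹) * t⁻¹⁻¹)⁻¹) * t⁻¹ =
        (s * l' * s⁻¹) * v * (s * l' * s⁻¹)⁻¹ := by group
      have e2 : t * (l * (t⁻¹ * v * t⁻¹⁻¹) * l⁻¹) * t⁻¹ = (t * l * t⁻¹) * v * (t * l * t⁻¹)⁻¹ := by group
      rw [← e1, ← e2]
      exact h4
    set g' := s * l' * s⁻¹ with hg'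
    set g := t * l * t⁻¹ with hg
    have hgx : g * x * g⁻¹ = x := by
      have h3 := congrArg (fun y => t * y * t⁻¹) (hc l hl)
      have h4 : g * x = x * g := by
        rw [hg]
        simpa [mul_assoc] using h3
      rw [h4]; group
    have hgH : g ∈ H := mul_mem (mul_mem htH (h.LH hl)) (inv_mem htH)
    have hg'H : g' ∈ H := mul_mem (mul_mem hsH (h.LH hl')) (inv_mem hsH)
    set y := g' * g⁻¹ with hy
    have hyH : y ∈ H := mul_mem hg'H (inv_mem hgH)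
    have hyV : ∀ v ∈ V, y * v = v * y := by
      intro v hv
      have h3 := hgg _ (M.Vn g⁻¹ (inv_mem hgH) v hv)
      have h4 : y * v * y⁻¹ = v := by
        calc y * v * y⁻¹ = g' * (g⁻¹ * v * g⁻¹⁻¹) * g'⁻¹ := by rw [hy]; group
          _ = g * (g⁻¹ * v * g⁻¹⁻¹) * g⁻¹ := h3
          _ = v := by group
      exact mul_inv_eq_iff_eq_mul.1 h4
    set w0 := n⁻¹ * (l' * n * l'⁻¹) with hw0
    have hl'n : l' * n * l'⁻¹ ∈ V := M.Vn l' (h.LH hl') n hn.1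
    have hw0V : w0 ∈ V := mul_mem (inv_mem hn.1) hl'n
    set w := s * w0 * s⁻¹ with hw
    have hwV : w ∈ V := M.Vn s hsH _ hw0V
    have hyx : y * x * y⁻¹ = x * w := by
      have h3 : l' * (s⁻¹ * x * s) * l'⁻¹ = s⁻¹ * x * s * w0 := by
        rw [e0, hw0]
        calc l' * (c * n) * l'⁻¹ = (l' * c) * n * l'⁻¹ := by group
          _ = (c * l') * n * l'⁻¹ := by rw [hcL l' hl']
          _ = _ := by group
      calc y * x * y⁻¹ = g' * (g⁻¹ * x * g) * g'⁻¹ := by rw [hy]; group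
        _ = g' * x * g'⁻¹ := by
          have h4 : g⁻¹ * x * g = x := by
            calc g⁻¹ * x * g = g⁻¹ * (g * x * g⁻¹) * g := by rw [hgx]
              _ = x := by group
          rw [h4]
        _ = s * (l' * (s⁻¹ * x * s) * l'⁻¹) * s⁻¹ := by rw [hg']; group
        _ = s * (s⁻¹ * x * s * w0) * s⁻¹ := by rw [h3]
        _ = x * w := by rw [hw]; group
    have hww : w * w = 1 := by
      have := M.Vsq w hwV
      rwa [pow_two] at this
    -- powers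
    have hpow : ∀ m : ℕ, y ^ m * x * (y ^ m)⁻¹ = x * w ^ m := by
      intro m
      induction m with
      | zero => simp
      | succ m ih =>
        have h3 := hyV _ (pow_mem hwV m)
        calc y ^ (m + 1) * x * (y ^ (m + 1))⁻¹ = y * (y ^ m * x * (y ^ m)⁻¹) * y⁻¹ := by rw [pow_succ']; group
          _ = y * (x * w ^ m) * y⁻¹ := by rw [ih]
          _ = (y * x * y⁻¹) * (y * w ^ m) * y⁻¹ := by group
          _ = (y * x * y⁻¹) * w ^ m := by rw [h3]; group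
          _ = x * w ^ (m + 1) := by rw [hyx, pow_succ', mul_assoc]
    obtain ⟨a, m, hm1, hm2⟩ := Nat.exists_eq_two_pow_mul_odd (isOfFinOrder_of_finite y).orderOf_pos.ne'
    have hyT : y ^ m ∈ T := by
      refine h.two_norm (pow_mem hyH m) (fun v hv => ?_) (n := a) ?_
      · have c1 : Commute y v := hyV v hv
        exact (c1.pow_left m).eq
      · rw [← pow_mul, mul_comm, ← hm2, pow_orderOf_eq_one]
    have hwm : w ^ m = w := by
      obtain ⟨r, rfl⟩ := hm1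
      rw [pow_succ, pow_mul, pow_two, hww, one_pow, one_mul]
    have hwZ : w ∈ ZJ := by
      have h3 := h.conjZ hyT hx
      rw [hpow, hwm] at h3
      have h4 := mul_mem (inv_mem hx) h3
      rwa [inv_mul_cancel_left] at h4
    have hw0Z : w0 ∈ ZJ := by
      have h3 := h.conjZ' hs hwZ
      have e1 : s⁻¹ * w * s = w0 := by rw [hw]; group
      rwa [e1] at h3
    have h5 := (h.mem w0 hw0V).1 hw0Z j
    rw [hw0, M.nat.mul _ (inv_mem hn.1) _ hl'n, Pi.add_apply, Pi.add_apply, M.map_inv hn.1, Pi.neg_apply, Pi.neg_apply,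
      hlA.e_i hn.1, ap_one', hn.2.2] at h5
    apply hne
    simpa using h5
  intro l hl
  rw [e0]
  have c1 : Commute l c := hcL l hl
  have c2 : Commute l n := h.cD l hl n hnD
  exact (c1.mul_right c2).eq

/-- one conjugate of `L` is enough -/
theorem mem_Ni_of [CharP F 2] {t : G} (ht : t ∈ T) {i : Fin k} (mt : MvI M t j i) {x : G}
    (hx : x ∈ ZJ) (hc : ∀ l ∈ L, l * (t⁻¹ * x * t) = t⁻¹ * x * t * l) : x ∈ Ni M ZJ L j i :=
  mem_Ni.2 ⟨hx, fun _ hs ms => h.eq ht hs mt ms hx hc⟩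

theorem Ni_conj {s : G} (hs : s ∈ T) {i m : Fin k} (hm : MvI M s i m) {x : G} (hx : x ∈ Ni M ZJ L j i) :
    s * x * s⁻¹ ∈ Ni M ZJ L j m := by
  obtain ⟨hxZ, hxt⟩ := mem_Ni.1 hx
  refine mem_Ni.2 ⟨h.conjZ hs hxZ, fun t ht mt l hl => ?_⟩
  have h1 := hxt (s⁻¹ * t) (mul_mem (inv_mem hs) ht) ((hm.inv (h.TH hs)).mul (h.TH ht) mt) l hl
  have e : (s⁻¹ * t)⁻¹ * x * (s⁻¹ * t) = t⁻¹ * (s * x * s⁻¹) * t := by group
  rwa [e] at h1

theorem Ni_cj {s : G} (hs : s ∈ T) {i m : Fin k} (hm : MvI M s i m) : cj s (Ni M ZJ L j i) = Ni M ZJ L j m := by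
  apply le_antisymm
  · rintro _ ⟨x, hx, rfl⟩
    exact h.Ni_conj hs hm hx
  · intro x hx
    rw [mem_cj]
    have := h.Ni_conj (inv_mem hs) (hm.inv (h.TH hs)) hx
    rwa [inv_inv] at this

/-- **`YB`, without the cyclic action** -/
theorem yb_aux [CharP F 2] {c : Fin k → Subgroup G} (hc : Co M c)
    (hcyc : ∀ i, ∀ s ∈ T, ∀ t ∈ T, MvI M s i i → MvI M t i i →
      ∃ n : ℕ, (∀ x ∈ Li M i, s * t ^ n * x * (s * t ^ n)⁻¹ * x⁻¹ ∈ D) ∨
        ∀ x ∈ Li M i, t * s ^ n * x * (t * s ^ n)⁻¹ * x⁻¹ ∈ D) : YB T ZJ (Ni M ZJ L j) c := by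
  have hTH := h.TH
  have hne : ∀ i, c i ≠ ⊥ := by
    intro i hi
    obtain ⟨v, hv, e⟩ := exists_line M i 1
    obtain ⟨a, ha, d, hd, rfl⟩ := hc.cov i v hv
    rw [hi, mem_bot] at ha
    rw [ha, one_mul, D_e (M := M) hd] at e
    exact zero_ne_one e
  have htriv : ∀ i, c i ⊓ Ni M ZJ L j i = ⊥ := by
    intro i
    rw [eq_bot_iff]
    rintro v ⟨hv, hvN⟩
    obtain ⟨t, ht, htr⟩ := M.nat.trans j i
    have hm : MvI M t j i := htr
    have h1 := (mem_Ni.1 hvN).2 t ht hm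
    have hvL := hc.le i hv
    have h2 : t⁻¹ * v * t ∈ Li M j := by
      have := (hm.inv (hTH ht)).Li hTH (inv_mem ht) hvL
      rwa [inv_inv] at this
    have h3 := M.Dn t (hTH ht) _ (h.Lj_D h2 h1)
    have e : t * (t⁻¹ * v * t) * t⁻¹ = v := by group
    rw [e] at h3
    exact mem_bot.2 (hc.dis i v hv h3)
  have hcomm : ∀ l m, l ≠ m → c l ≤ Ni M ZJ L j m := by
    intro l m hlm v hv
    have hvL := hc.le l hv
    refine mem_Ni.2 ⟨h.LiZ l hvL, fun t ht mt l' hl' => ?_⟩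
    obtain ⟨i', hi'⟩ := MvI.ex M (inv_mem (hTH ht)) l
    have h2 : t⁻¹ * v * t ∈ Li M i' := by
      have := hi'.Li hTH (inv_mem ht) hvL
      rwa [inv_inv] at this
    refine h.LW l' hl' i' (fun e => hlm ?_) _ h2
    subst e
    have h3 := hi'.inv (inv_mem (hTH ht))
    rw [inv_inv] at h3
    exact MvI.uniq h3 mt (hTH ht)
  refine ⟨fun x hx y hy => elem_comm h.el x hx y hy, fun x hx => elem_sq h.el x hx, h.TZ,
    fun i => (hc.le i).trans (h.LiZ i), hne, fun i x hx => ?_, htriv, hcomm, fun t ht i => ?_, ?_⟩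
  · obtain ⟨t, ht, htr⟩ := M.nat.trans j i
    have hm : MvI M t j i := htr
    obtain ⟨y, hyZ, hyL, n, hn, e⟩ := h.split _ (h.conjZ' ht hx)
    obtain ⟨a, ha, d, hd, e2⟩ := hc.cov i _ (hm.Li hTH ht hn)
    have hnZ := h.LiZ j hn
    have e3 : x = (t * y * t⁻¹) * (a * d) := by
      rw [← e2]
      calc x = t * (t⁻¹ * x * t) * t⁻¹ := by group
        _ = t * (y * n) * t⁻¹ := by rw [e]
        _ = _ := by group
    have haZ : a ∈ ZJ := h.LiZ i (hc.le i ha)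
    have hdZ := h.DZ hd
    have htyZ := h.conjZ ht hyZ
    refine ⟨a⁻¹, inv_mem ha, ?_⟩
    have e4 : a⁻¹ * x = (t * y * t⁻¹) * d := by
      have c1 := elem_comm h.el _ htyZ a haZ
      rw [e3]
      calc a⁻¹ * (t * y * t⁻¹ * (a * d)) = a⁻¹ * ((t * y * t⁻¹) * a) * d := by group
        _ = a⁻¹ * (a * (t * y * t⁻¹)) * d := by rw [c1]
        _ = _ := by group
    rw [e4]
    refine h.mem_Ni_of ht hm (mul_mem htyZ hdZ) fun l hl => ?_
    have hd' : t⁻¹ * d * t ∈ D := by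
      have := M.Dn t⁻¹ (inv_mem (hTH ht)) d hd
      rwa [inv_inv] at this
    have e5 : t⁻¹ * (t * y * t⁻¹ * d) * t = y * (t⁻¹ * d * t) := by group
    rw [e5]
    have c1 : Commute l y := hyL l hl
    have c2 : Commute l (t⁻¹ * d * t) := h.cD l hl _ hd'
    exact (c1.mul_right c2).eq
  · obtain ⟨m, hm⟩ := MvI.ex M (hTH ht) i
    exact ⟨m, h.Ni_cj ht hm, hc.conj t ht i m hm⟩
  · intro i s hs t ht hsi hti
    have hfix : ∀ g ∈ T, Mv (Ni M ZJ L j) c g i i → MvI M g i i := by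
      intro g hg hgi
      obtain ⟨m, hm⟩ := MvI.ex M (hTH hg) i
      have h1 := hc.conj g hg i m hm
      rw [hgi.2] at h1
      have h2 : i = m := by
        by_contra hne'
        have h3 := hcomm i m hne'
        have h4 := htriv m
        rw [← h1, inf_eq_left.2 h3] at h4
        exact hne i h4
      rw [← h2] at hm
      exact hm
    have hms := hfix s hs hsi
    have hmt := hfix t ht hti
    have fin : ∀ g ∈ T, MvI M g i i → (∀ x ∈ Li M i, g * x * g⁻¹ * x⁻¹ ∈ D) → ∀ x ∈ c i, g * x = x * g := by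
      intro g hg hgi h1 x hx
      have h2 : g * x * g⁻¹ ∈ c i := by
        rw [← hc.conj g hg i i hgi]
        exact ⟨x, hx, rfl⟩
      have h3 := hc.dis i _ (mul_mem h2 (inv_mem hx)) (h1 x (hc.le i hx))
      exact mul_inv_eq_iff_eq_mul.1 (mul_inv_eq_one.1 h3)
    obtain ⟨n, hn | hn⟩ := hcyc i s hs t ht hms hmt
    · exact ⟨n, Or.inl (fin _ (mul_mem hs (pow_mem ht n))
        (hms.mul (hTH (pow_mem ht n)) (hmt.pow (hTH ht) n)) hn)⟩
    · exact ⟨n, Or.inr (fin _ (mul_mem ht (pow_mem hs n))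
        (hmt.mul (hTH (pow_mem hs n)) (hms.pow (hTH hs) n)) hn)⟩

end LD

end Cfsg.Agent.Omega.OM.Lev.Low

end

section


/-!
# `YB` for a parabolic of natural type at a level

`(T, H)` with `GE T H X AA`, `BZ T X AA B ZJ`, `NatKM`.

* `chain_line` : the stabiliser of the `i`-th summand acts on the `i`-th line as a cyclic group;
* `exists_ld` : the input `LD`;
* `exists_yb` : **`YB T ZJ N c`, and `⟨T, ..⟩`-data: `zc T ≰ N i` for some `i`.**
-/

set_option autoImplicit false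
set_option linter.unusedSectionVars false

namespace Cfsg.Agent.Omega.OM.Lev.Low

open Subgroup Cfsg Cfsg.Agent.ZN Cfsg.Agent.ZN.ChoiceBase Cfsg.Agent.ZN.ChoiceSit
open Cfsg.Agent.Omega.NatPair (ap ap_zero' ap_one' ap_one ap_mul ext2 ap_inv_ap ap_inj)
open Cfsg.Agent.Lib.SL2Mat
open Cfsg.Agent.Omega.SQ1.FFOne (MinH)
open Cfsg.Agent.Omega.NO3S.OneLine (NatC single_acts natC_of zc_elem)
open Cfsg.Agent.Omega.NO3S.OneLine.NatC (acts_mul acts_inv acts_one acts_unique)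
open Cfsg.Agent.Omega.OM.Lev.Nat (Wn mem_Wn Xn mem_Xn ap_z exists_up)
open Cfsg.Agent.Omega.OM.GNat (sl2_all line_le exists_root exists_nxi)
open Cfsg.Agent.Omega.OM.GLev
open Cfsg.Agent.Omega.FFThm (NatK NatKM ActsSL)
open Cfsg.Agent.Omega.SQ1.Bau (elem_comm elem_sq)
open Cfsg.Agent.Omega.NO3S.ThmB (Nb Fx Pf)
open Cfsg.Agent.Omega.NO3S.ThmB.Nb (Rel rel_one rel_uniq)
open Cfsg.Agent.Omega.FrameFF (cv)

universe u

variable {G : Type u} [Group G] [Finite G] {F : Type} [Field F] {T H : Subgroup G} {k : ℕ}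

section nb

variable (hm : MinH H T) (N : NatKM F T H (zl T H) (cv T H) k) (hk : 0 < k)
include hm N hk

theorem nb [CharP F 2] : Nb N := by
  set M := natC_of hm hk N.toNatK with hM
  have hV2 : IsElementaryAbelian 2 (zl T H) :=
    PLocal.OffenderStep.isElementaryAbelian_of_comm (fun x hx y hy => M.Vcomm hx hy) M.Vsq
  refine ⟨hm.syl.1, hV2, MinSimple.VModule.le_normalizer_zl T H, M.DV, fun g hg => ?_, fun g hg h1 h2 v hv => ?_⟩
  · rw [mem_normalizer_iff]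
    refine fun x => ⟨M.Dn g hg x, fun hx => ?_⟩
    have h1 := M.Dn g⁻¹ (inv_mem hg) _ hx
    have e : g⁻¹ * (g * x * g⁻¹) * g⁻¹⁻¹ = x := by group
    rwa [e] at h1
  · refine M.cent_of_stab hm (x := g) ⟨hg, fun v hv i => ?_, h2⟩ hv
    have h3 : M.nat.e (g * v * g⁻¹) = M.nat.e v := h1 v hv
    rw [h3, Pi.one_apply, ap_one]

/-- `Fx` from `MvI` -/
theorem fx_of {i : Fin k} {s : G} (hs : s ∈ T) (h : MvI (natC_of hm hk N.toNatK) s i i) : Fx N i s := by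
  have hTH := hm.syl.1
  refine ⟨hTH hs, fun v hv h0 => (h v hv).2 h0, fun v hv h0 l hl => ?_, fun v hv h0 => (h.line hTH hs hv).2 h0⟩
  exact (h.Wn (hTH hs) ⟨hv, h0⟩).2 l hl

/-- **the stabiliser of the `i`-th summand acts on the line as a cyclic group** -/
theorem chain_line [Finite F] [CharP F 2] {i : Fin k} {s t : G} (hs : s ∈ T)
    (hsm : MvI (natC_of hm hk N.toNatK) s i i) (ht : t ∈ T) (htm : MvI (natC_of hm hk N.toNatK) t i i) :
    ∃ n : ℕ, (∀ x : F, Pf N i (s * t ^ n) ![x, 0] 0 = x) ∨ ∀ x : F, Pf N i (t * s ^ n) ![x, 0] 0 = x := by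
  have h := nb hm N hk
  have hTH := hm.syl.1
  set P : G → Prop := fun g => g ∈ T ∧ MvI (natC_of hm hk N.toNatK) g i i with hP
  have Pinv : ∀ {g}, P g → P g⁻¹ := fun {g} hg => ⟨inv_mem hg.1, hg.2.inv (hTH hg.1)⟩
  have Ppow : ∀ {g}, P g → ∀ n : ℕ, P (g ^ n) := fun {g} hg n => ⟨pow_mem hg.1 n, hg.2.pow (hTH hg.1) n⟩
  have Pmul : ∀ {g g'}, P g → P g' → P (g * g') := fun {g g'} hg hg' =>
    ⟨mul_mem hg.1 hg'.1, hg.2.mul (hTH hg'.1) hg'.2⟩
  have hfx : ∀ g, P g → Fx N i g := fun g hg => fx_of hm N hk hg.1 hg.2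
  have hp2 : ∀ g ∈ T, ∃ j : ℕ, g ^ 2 ^ j = 1 := fun g hg => by
    obtain ⟨j, hj⟩ := hm.syl.2.1 ⟨g, hg⟩
    exact ⟨j, by simpa using congrArg Subtype.val hj⟩
  have hrel : ∀ g, P g → ∃ c σ, c ≠ 0 ∧ Rel N i g c σ := fun g hg => by
    have f1 := hfx g hg
    have f2 := hfx g⁻¹ (Pinv hg)
    obtain ⟨σ, hσ⟩ := h.sem f1 f2
    refine ⟨h.hH f1 1, σ, fun e => ?_, fun x => ?_⟩
    · have := h.hH_inj f1 f2 (e.trans (map_zero _).symm)
      exact one_ne_zero this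
    · rw [h.hH_eq f1, hσ]
  have hpow : ∀ g, P g → ∀ c σ, Rel N i g c σ → ∀ n : ℕ, ∃ d, Rel N i (g ^ n) d (σ ^ n) := fun g hg c σ h1 n => by
    induction n with
    | zero => exact ⟨1, by rw [pow_zero, pow_zero]; exact rel_one⟩
    | succ n ih =>
      obtain ⟨d, hd⟩ := ih
      refine ⟨d * (σ ^ n) c, ?_⟩
      rw [pow_succ, pow_succ]
      exact h.rel_mul (hfx _ (Ppow hg n)) (hfx g hg) hd h1
  have hord : ∀ g, P g → ∀ c σ, Rel N i g c σ → ∃ j : ℕ, σ ^ 2 ^ j = 1 := fun g hg c σ h1 => by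
    obtain ⟨j, hj⟩ := hp2 g hg.1
    obtain ⟨d, hd⟩ := hpow g hg c σ h1 (2 ^ j)
    rw [hj] at hd
    exact ⟨j, (rel_uniq one_ne_zero rel_one hd).2.symm⟩
  have main : ∀ s, P s → ∀ t, P t → ∀ c σ d τ, Rel N i s c σ → Rel N i t d τ → σ ∈ zpowers τ →
      ∃ n : ℕ, ∀ x : F, Pf N i (s * t ^ n) ![x, 0] 0 = x := by
    intro s hs t ht c σ d τ h1 h2 h3
    obtain ⟨j, hj⟩ := hord t ht d τ h2
    have hfin : IsOfFinOrder τ := isOfFinOrder_iff_pow_eq_one.2 ⟨2 ^ j, Nat.pos_of_ne_zero (by positivity), hj⟩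
    have h4 : σ⁻¹ ∈ zpowers τ := inv_mem h3
    obtain ⟨n, hn⟩ := (hfin.mem_powers_iff_mem_zpowers.2 h4)
    refine ⟨n, fun x => ?_⟩
    have hn' : τ ^ n = σ⁻¹ := hn
    obtain ⟨d', hd'⟩ := hpow t ht d τ h2 n
    have h5 := h.rel_mul (hfx s hs) (hfx _ (Ppow ht n)) h1 hd'
    rw [hn', mul_inv_cancel] at h5
    have hu : P (s * t ^ n) := Pmul hs (Ppow ht n)
    obtain ⟨j', hj'⟩ := hp2 _ hu.1
    set u := s * t ^ n
    set c' := c * σ d'
    have h6 : ∀ m : ℕ, Rel N i (u ^ m) (c' ^ m) 1 := fun m => by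
      induction m with
      | zero => rw [pow_zero, pow_zero]; exact rel_one
      | succ m ih =>
        rw [pow_succ, pow_succ]
        have h7 := h.rel_mul (hfx _ (Ppow hu m)) (hfx u hu) ih h5
        rw [mul_one] at h7
        exact h7
    have h7 := h6 (2 ^ j')
    rw [hj'] at h7
    have h8 := (rel_uniq one_ne_zero rel_one h7).1
    have h9 := NO3S.ThmB.End.Auto.eq_one_of_pow h8.symm
    rw [h5 x, h9, one_mul]
    rfl
  obtain ⟨c, σ, -, h1⟩ := hrel s ⟨hs, hsm⟩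
  obtain ⟨d, τ, -, h2⟩ := hrel t ⟨ht, htm⟩
  rcases NO3S.ThmB.End.AutTwo.mem_or_mem' (hord s ⟨hs, hsm⟩ c σ h1) (hord t ⟨ht, htm⟩ d τ h2) with h3 | h3
  · obtain ⟨n, hn⟩ := main s ⟨hs, hsm⟩ t ⟨ht, htm⟩ c σ d τ h1 h2 h3
    exact ⟨n, Or.inl hn⟩
  · obtain ⟨n, hn⟩ := main t ⟨ht, htm⟩ s ⟨hs, hsm⟩ d τ c σ h2 h1 h3
    exact ⟨n, Or.inr hn⟩

/-- **the input `hcyc` of `LD.yb_aux`** -/
theorem cyc_line [Finite F] [CharP F 2] {i : Fin k} {s t : G} (hs : s ∈ T)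
    (hsm : MvI (natC_of hm hk N.toNatK) s i i) (ht : t ∈ T) (htm : MvI (natC_of hm hk N.toNatK) t i i) :
    ∃ n : ℕ, (∀ x ∈ Li (natC_of hm hk N.toNatK) i, s * t ^ n * x * (s * t ^ n)⁻¹ * x⁻¹ ∈ cv T H) ∨
        ∀ x ∈ Li (natC_of hm hk N.toNatK) i, t * s ^ n * x * (t * s ^ n)⁻¹ * x⁻¹ ∈ cv T H := by
  have h := nb hm N hk
  have hTH := hm.syl.1
  have fin : ∀ g ∈ T, MvI (natC_of hm hk N.toNatK) g i i → (∀ x : F, Pf N i g ![x, 0] 0 = x) →
      ∀ x ∈ Li (natC_of hm hk N.toNatK) i, g * x * g⁻¹ * x⁻¹ ∈ cv T H := by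
    intro g hg hgi h1 x hx
    have h2 := hgi.Li hTH hg hx
    refine Li_D (mul_mem h2 (inv_mem hx)) ?_
    rw [(natC_of hm hk N.toNatK).map_div h2.1 hx.1, Pi.sub_apply, Pi.sub_apply, sub_eq_zero]
    have h3 : N.e (g * x * g⁻¹) i = Pf N i g (N.e x i) := h.Pf_spec (fx_of hm N hk hg hgi) hx.1
    have h4 : N.e x i = ![N.e x i 0, 0] := ext2 rfl hx.2.2
    show N.e (g * x * g⁻¹) i 0 = N.e x i 0
    rw [h3, h4, h1]
    rfl
  obtain ⟨n, hn | hn⟩ := chain_line hm N hk hs hsm ht htm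
  · exact ⟨n, Or.inl (fin _ (mul_mem hs (pow_mem ht n))
      (hsm.mul (hTH (pow_mem ht n)) (htm.pow (hTH ht) n)) hn)⟩
  · exact ⟨n, Or.inr (fin _ (mul_mem ht (pow_mem hs n))
      (htm.mul (hTH (pow_mem hs n)) (hsm.pow (hTH hs) n)) hn)⟩

end nb

section inst

variable [Finite F] [CharP F 2] {X B ZJ : Subgroup G} {AA : Set (Subgroup G)}
  (h : GE T H X AA) (b : BZ T X AA B ZJ) (N : NatKM F T H (zl T H) (cv T H) k) (hk : 0 < k)
include h b N hk

/-- an element of `V ∩ Z_J` lies in the product of the lines -/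
theorem mem_line {A : Subgroup G} (hA : A ∈ AA) {j : Fin k}
    (hroot : ∀ c : F, ∃ a ∈ A, ActsSL N.e (zl T H) (cv T H) a (Pi.mulSingle j (up c)))
    (hTZ : T ≤ normalizer (ZJ : Set G)) {v : G} (hv : v ∈ zl T H) (hvZ : v ∈ ZJ) (i : Fin k) : N.e v i 1 = 0 := by
  set M := natC_of h.hm hk N.toNatK with hM
  have hTH := h.TH
  have key : ∀ w ∈ zl T H, w ∈ ZJ → N.e w j 1 = 0 := by
    intro w hw hwZ
    obtain ⟨a, ha, ha1, -⟩ := hroot 1
    have h1 := ((b.mem_ZJ w).1 hwZ).2 A hA a ha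
    have h2 := ha1 w hw j
    have h3 : a * w * a⁻¹ = w := by rw [h1]; group
    rw [h3, Pi.mulSingle_eq_same] at h2
    have h4 := congrFun h2 0
    rw [ap_zero'] at h4
    simpa using h4
  obtain ⟨t, ht, htr⟩ := N.trans i j
  have hmv : MvI M t i j := htr
  have h1 := key (t * v * t⁻¹) (M.Vn t (hTH ht) v hv) ((mem_normalizer_iff.1 (hTZ ht) v).1 hvZ)
  exact (hmv.line hTH ht hv).1 h1

/-- **The input `LD`, with the block, for a summand with a root group in a member of the family.** -/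
theorem ldb_of_root {A : Subgroup G} (hA : A ∈ AA) {j : Fin k}
    (hroot : ∀ c : F, ∃ a ∈ A, ActsSL N.e (zl T H) (cv T H) a (Pi.mulSingle j (up c))) :
    ∃ L, LD (natC_of h.hm hk N.toNatK) B ZJ L j ∧
    PB B L (Wn (natC_of h.hm hk N.toNatK) j) (Wn (natC_of h.hm hk N.toNatK) j ⊓ ZJ) (cv T H) (Nat.card F) ∧
      H ≤ T ⊔ L ∧ ∀ l ∈ L, ∃ A, (natC_of h.hm hk N.toNatK).Acts l A := by
  classical
  obtain ⟨g, M', hM'⟩ := exists_nxi h b N hk hA hroot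
  obtain ⟨L, hBL, hLX, hPB, hcov⟩ := M'.exists_pb
  set M := natC_of h.hm hk N.toNatK with hM
  have hTH := h.TH
  have hTB : T ≤ normalizer (B : Set G) := b.wn T h.hm.syl.2.1 b.BT
  have hTZ : T ≤ normalizer (ZJ : Set G) := by
    rw [← b.zcB]
    exact hTB.trans (normalizer_le_of_cj (F := zc) LemmaK.Main.zc_cj B)
  have hAB : A ≤ B := b.A_le hA (h.fam.le A hA)
  have hLH : L ≤ H := hLX.trans fun l hl => (mem_inf.1 hl).1.1
  have hLD : ∀ l ∈ L, ∀ d ∈ cv T H, l * d = d * l := fun l hl d hd =>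
    (mem_centralizer_iff.1 (mem_inf.1 (hLX hl)).2 d hd).symm
  have hmem : ∀ v ∈ zl T H, v ∈ ZJ ↔ ∀ i, M.nat.e v i 1 = 0 := fun v hv =>
    ⟨fun hvZ i => mem_line h b N hk hA hroot hTZ hv hvZ i, fun h0 => line_le h b N hk hv h0⟩
  have hrootB : ∀ c : F, ∃ b ∈ B, Ons M j b (up c) := fun c => by
    obtain ⟨a, ha, ha1⟩ := hroot c
    exact ⟨a, hAB ha, hTH (h.fam.le A hA ha), ha1⟩
  have hupM : ∀ l ∈ L, ∃ A, M.Acts l A ∧ ∀ m, m ≠ j → ∃ c, A m = up c := fun l hl =>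
    (mem_Xn M).1 (mem_inf.1 (hLX hl)).1 |>.2
  refine ⟨L, ⟨h.hm, b.BT, hTB, hTZ, ?_, fun x hx z hz => b.cB hx hz, hmem, hrootB, hBL, hLH, hLD, ?_, ?_, ?_⟩,
    hPB, GNat.le_sup h N hk hLX fun A₀ => by
      obtain ⟨l, hl, hlA⟩ := hcov A₀
      refine ⟨l, hl, fun v hv => ?_⟩
      rw [← hM', ← hM']
      exact hlA v hv, fun l hl => by
      obtain ⟨A, hA, -⟩ := hupM l hl
      exact ⟨A, hA⟩⟩
  · rw [← b.zcB]; exact zc_elem B
  · -- `cov`
    obtain ⟨l, hl, hl1⟩ := hcov (lo 1)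
    obtain ⟨A0, hA0, hA0'⟩ := hupM l hl
    have hA0j : A0 j = lo 1 := by
      apply ap_inj
      intro x
      obtain ⟨v, hv, e⟩ := exists_vec M j x
      have h1 := hl1 v hv
      rw [hM', hM'] at h1
      have h2 : N.e (l * v * l⁻¹) j = ap (A0 j) (N.e v j) := hA0 v hv.1 j
      have h3 : N.e v j = x := e
      rw [h2, h3] at h1
      exact h1
    have hmv : MvI M l j j := by
      intro v hv
      rw [hA0 v hv j]
      constructor
      · intro h1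
        have h2 := congrArg (ap (A0 j)⁻¹) h1
        rwa [ap_inv_ap, ap_z] at h2
      · intro h1
        rw [h1, ap_z]
    obtain ⟨b1, hb1, hb1A⟩ := hrootB 1
    obtain ⟨A', hA'⟩ := hb1A.conj (hLH hl) hmv
    refine sl2_all (fun A => ∃ l ∈ L, Ons M j l A) ?_ ?_ (fun c => ?_) (A₀ := A') ?_ ?_
    · rintro A1 A2 ⟨l1, hl1, h1⟩ ⟨l2, hl2, h2⟩
      exact ⟨l1 * l2, mul_mem hl1 hl2, h1.mul h2⟩
    · rintro A1 ⟨l1, hl1, h1⟩
      exact ⟨l1⁻¹, inv_mem hl1, h1.inv⟩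
    · obtain ⟨b2, hb2, h2⟩ := hrootB c
      exact ⟨b2, hBL hb2, h2⟩
    · exact ⟨_, mul_mem (mul_mem hl (hBL hb1)) (inv_mem hl), hA'⟩
    · have h1 := acts_mul (M := M) (inv_mem (hLH hl)) (acts_mul (M := M) hb1A.1 hA0 hb1A.2.1)
        (acts_inv (M := M) (hLH hl) hA0)
      have h2 := congrFun (acts_unique (M := M) hA'.2.1 h1) j
      rw [Pi.mulSingle_eq_same, Pi.mul_apply, Pi.mul_apply, Pi.inv_apply, Pi.mulSingle_eq_same, hA0j] at h2
      rw [h2, ent_mul, ent_mul, ent_mul, ent_inv]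
      simp
  · -- `LW`
    intro l hl m hmj v hv
    have hvZ : v ∈ ZJ := (hmem v hv.1).2 fun i => by
      by_cases hi : i = m
      · subst hi; exact hv.2.2
      · rw [hv.2.1 i hi]; rfl
    have hD : ∀ l ∈ L, l * v * l⁻¹ * v⁻¹ ∈ cv T H := by
      intro l hl
      obtain ⟨A0, hA0, hA0'⟩ := hupM l hl
      have h1 := M.Vn l (hLH hl) v hv.1
      refine (M.nat.ker _ (mul_mem h1 (inv_mem hv.1))).1 ?_
      rw [M.map_div h1 hv.1, sub_eq_zero]
      funext i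
      rw [hA0 v hv.1 i]
      by_cases hi : i = j
      · subst hi
        rw [hv.2.1 i (Ne.symm hmj), ap_z]
      · obtain ⟨c, hc⟩ := hA0' i hi
        rw [hc]
        by_cases him : i = m
        · subst him
          apply ext2
          · rw [ap_zero', hv.2.2]; simp
          · rw [ap_one', hv.2.2]; simp
        · rw [hv.2.1 i him, ap_z]
    obtain ⟨l0, hl0, hl0m⟩ := hPB.mv
    have h1 := hPB.gen l0 hl0 hl0m (centralizer {v}) (fun x hx => by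
      rw [mem_centralizer_singleton_iff]
      exact b.cB hx hvZ) fun x hx => by
        rw [mem_centralizer_singleton_iff]
        have hd := hD l0⁻¹ (inv_mem hl0)
        rw [inv_inv] at hd
        have hdZ : l0⁻¹ * v * l0 * v⁻¹ ∈ ZJ := (hmem _ (M.DV hd)).2 fun i => by
          rw [D_e (M := M) hd]; rfl
        have hvd : l0⁻¹ * v * l0 ∈ ZJ := by
          have := mul_mem hdZ hvZ
          rwa [inv_mul_cancel_right] at this
        have h2 := b.cB hx hvd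
        have h3 := congrArg (fun y => l0 * y * l0⁻¹) h2
        simpa [mul_assoc] using h3
    exact mem_centralizer_singleton_iff.1 (h1 hl)
  · -- `split`
    intro z hz
    rw [← b.zcB] at hz
    obtain ⟨c, hc, hcL, n, hn, e⟩ := hPB.Z_split hz
    rw [b.zcB] at hc
    refine ⟨c, hc, hcL, n, ?_, e⟩
    have h1 := (mem_inf.1 hn).1
    exact ⟨h1.1, h1.2, (hmem n h1.1).1 (mem_inf.1 hn).2 j⟩

/-- **The input `LD`, with the block.** -/
theorem exists_ldb (hex : ∃ A ∈ AA, ¬ A ≤ o2 H) : ∃ L j, LD (natC_of h.hm hk N.toNatK) B ZJ L j ∧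
    PB B L (Wn (natC_of h.hm hk N.toNatK) j) (Wn (natC_of h.hm hk N.toNatK) j ⊓ ZJ) (cv T H) (Nat.card F) ∧
      H ≤ T ⊔ L := by
  obtain ⟨A, hA, hAQ⟩ := hex
  obtain ⟨j, hroot⟩ := exists_root h N hk hA hAQ
  obtain ⟨L, h1, h2, h3, -⟩ := ldb_of_root h b N hk hA hroot
  exact ⟨L, j, h1, h2, h3⟩

/-- some member of the family contains the root group of the `i`-th summand -/
theorem root_all (hex : ∃ A ∈ AA, ¬ A ≤ o2 H) (i : Fin k) :
    ∃ A ∈ AA, ∀ c : F, ∃ a ∈ A, ActsSL N.e (zl T H) (cv T H) a (Pi.mulSingle i (up c)) := by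
  classical
  obtain ⟨A, hA, hAQ⟩ := hex
  obtain ⟨j, hroot⟩ := exists_root h N hk hA hAQ
  set M := natC_of h.hm hk N.toNatK with hM
  have hTH := h.TH
  obtain ⟨t, ht, htr⟩ := N.trans j i
  have hmv : MvI M t j i := htr
  have hAT := h.fam.le A hA
  refine ⟨cj t A, h.fam.conj A hA t (h.norm (hTH ht)) ?_, fun c => ?_⟩
  · have h1 := cj_mono t hAT
    rwa [cj_eq_of_mem_normalizer (le_normalizer ht)] at h1
  obtain ⟨u, hu, hu1⟩ := M.nat.unip (Pi.single i c)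
  rw [single_acts] at hu1
  have hU : Ons M i u (up c) := ⟨hTH hu, hu1⟩
  have hmi := hmv.inv (hTH ht)
  obtain ⟨A', hA'⟩ := hU.conj (inv_mem (hTH ht)) hmi
  obtain ⟨e1, e2⟩ := hU.line_triv hTH (inv_mem ht) hmi hA'
  have h10 : ent A' 1 0 = 0 := e1.1 (up_10 c)
  have h00 : ent A' 0 0 = 1 := (e2 (up_10 c)).1 (up_00 c)
  have hup : A' = up (ent A' 0 1) := by
    have h11 := det_eq A'
    rw [h10, h00, mul_zero, sub_zero, one_mul] at h11
    exact ext_ent (by rw [up_00, h00]) (by rw [up_01]) (by rw [up_10, h10]) (by rw [up_11, h11])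
  obtain ⟨a, ha, ha1⟩ := hroot (ent A' 0 1)
  have haM : Ons M j a A' := by
    rw [hup]
    exact ⟨hTH (hAT ha), ha1⟩
  have key : ∀ v ∈ zl T H, t * a * t⁻¹ * v * (t * a * t⁻¹)⁻¹ = u * v * u⁻¹ := by
    intro v hv
    have h3 := haM.same h.hm hA' (M.Vn t⁻¹ (inv_mem (hTH ht)) v hv)
    calc t * a * t⁻¹ * v * (t * a * t⁻¹)⁻¹ = t * (a * (t⁻¹ * v * t⁻¹⁻¹) * a⁻¹) * t⁻¹ := by group
      _ = t * (t⁻¹ * u * t⁻¹⁻¹ * (t⁻¹ * v * t⁻¹⁻¹) * (t⁻¹ * u * t⁻¹⁻¹)⁻¹) * t⁻¹ := by rw [h3]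
      _ = _ := by group
  refine ⟨t * a * t⁻¹, ⟨a, ha, rfl⟩, fun v hv m => ?_, fun d hd => ?_⟩
  · rw [key v hv]
    exact hu1.1 v hv m
  · have h1 := M.Dn t⁻¹ (inv_mem (hTH ht)) d hd
    rw [inv_inv] at h1
    have h2 := congrArg (fun x => t * x * t⁻¹) (ha1.2 _ h1)
    simpa [mul_assoc] using h2

/-- **The input `LD`, with the block, for all summands.** -/
theorem exists_ldb_all (hex : ∃ A ∈ AA, ¬ A ≤ o2 H) (i : Fin k) : ∃ L, LD (natC_of h.hm hk N.toNatK) B ZJ L i ∧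
    PB B L (Wn (natC_of h.hm hk N.toNatK) i) (Wn (natC_of h.hm hk N.toNatK) i ⊓ ZJ) (cv T H) (Nat.card F) ∧
      H ≤ T ⊔ L ∧ ∀ l ∈ L, ∃ A, (natC_of h.hm hk N.toNatK).Acts l A := by
  obtain ⟨A, hA, hroot⟩ := root_all h b N hk hex i
  exact ldb_of_root h b N hk hA hroot

/-- **The input `LD`.** -/
theorem exists_ld (hex : ∃ A ∈ AA, ¬ A ≤ o2 H) : ∃ L j, LD (natC_of h.hm hk N.toNatK) B ZJ L j ∧ H ≤ T ⊔ L := by
  obtain ⟨L, j, h1, -, h2⟩ := exists_ldb h b N hk hex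
  exact ⟨L, j, h1, h2⟩

/-- **`YB` for a parabolic of natural type.** -/
theorem exists_yb (hex : ∃ A ∈ AA, ¬ A ≤ o2 H) (hZ : ¬ H ≤ centralizer (zc T : Set G)) :
    ∃ Ni c : Fin k → Subgroup G, YB T ZJ Ni c ∧ ∃ i, ¬ zc T ≤ Ni i := by
  obtain ⟨L, j, hL, hsup⟩ := exists_ld h b N hk hex
  obtain ⟨c, hc⟩ := hL.exists_co
  have hy := hL.yb_aux hc fun i s hs t ht hsm htm => cyc_line h.hm N hk hs hsm ht htm
  refine ⟨_, c, hy, j, fun hcon => hZ (hsup.trans (sup_le ?_ ?_))⟩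
  · exact le_centralizer_zc T
  · intro l hl
    rw [mem_centralizer_iff]
    intro z hz
    have h1 := (mem_Ni.1 (hcon hz)).2 1 (one_mem _) (MvI.one j) l hl
    simp only [inv_one, one_mul, mul_one] at h1
    exact h1.symm

end inst

end Cfsg.Agent.Omega.OM.Lev.Low

end

section


/-!
# Two blocks for the same summand

* `LD.conj` : conjugation with `T`; `LD.eq2` : two blocks for the `i`-th summand centralise the same elements of `Z_J`;
* `comm_cj` : `[Wn l, K l]^t ≤ [Wn m, K m]`, `t : l → m`;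
* `exists_co'` : the complements `c i ≤ [Wn i, B]`.
-/

set_option autoImplicit false
set_option linter.unusedSectionVars false

namespace Cfsg.Agent.Omega.OM.Lev.Low

open Subgroup Cfsg Cfsg.Agent.ZN Cfsg.Agent.ZN.ChoiceBase Cfsg.Agent.ZN.ChoiceSit
open Cfsg.Agent.Omega.NatPair (ap ap_zero' ap_one' ap_one ap_mul ext2 ap_inv_ap ap_inj)
open Cfsg.Agent.Lib.SL2Mat
open Cfsg.Agent.Omega.NO3S.OneLine (NatC)
open Cfsg.Agent.Omega.NO3S.OneLine.NatC (acts_mul acts_inv acts_one acts_unique)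
open Cfsg.Agent.Omega.OM.Lev.Nat (Wn mem_Wn)
open Cfsg.Agent.Omega.OM.GNat (cent_N)
open Cfsg.Agent.Omega.SQ1.Bau (elem_comm elem_sq)
open scoped commutatorElement

universe u

variable {G : Type u} [Group G] [Finite G] {F : Type} [Field F] {T H V D : Subgroup G} {k : ℕ}
  {M : NatC F T H V D k} {B ZJ L L' : Subgroup G} {j i : Fin k}

namespace LD

/-- an element acting in the same way as `g`, `Ons M i g A` -/
theorem _root_.Cfsg.Agent.Omega.OM.Lev.Low.Ons.of_same {i : Fin k} {g g' : G}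
    {A : Matrix.SpecialLinearGroup (Fin 2) F} (hg : Ons M i g A) (hg' : g' ∈ H)
    (hs : ∀ v ∈ V, g' * v * g'⁻¹ = g * v * g⁻¹) : Ons M i g' A := by
  refine Ons.of hg' (fun v hv => by rw [hs v hv, hg.e_i hv]) (fun v hv m hm => by rw [hs v hv, hg.e_m hv hm])
    fun d hd => ?_
  have h1 := hs d (M.DV hd)
  rw [hg.2.2 d hd, mul_inv_cancel_right] at h1
  exact mul_inv_eq_iff_eq_mul.1 h1

theorem conj [CharP F 2] (h : LD M B ZJ L j) {t : G} (ht : t ∈ T) (mt : MvI M t j i) : LD M B ZJ (cj t L) i := by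
  classical
  have hTH := h.TH
  have htH := hTH ht
  refine ⟨h.hm, h.BT, h.TB, h.TZ, h.el, h.cB, h.mem, fun c => h.root_i i c, ?_, ?_, ?_, ?_, ?_, ?_⟩
  · have h1 := cj_mono t h.BL
    rwa [cj_eq_of_mem_normalizer (h.TB ht)] at h1
  · rintro _ ⟨l, hl, rfl⟩
    exact mul_mem (mul_mem htH (h.LH hl)) (inv_mem htH)
  · rintro _ ⟨l, hl, rfl⟩ d hd
    have h1 := M.Dn t⁻¹ (inv_mem htH) d hd
    rw [inv_inv] at h1
    have h2 := congrArg (fun x => t * x * t⁻¹) (h.cD l hl _ h1)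
    show t * l * t⁻¹ * d = d * (t * l * t⁻¹)
    simpa [mul_assoc] using h2
  · intro A
    obtain ⟨g, hg, hg1⟩ := M.nat.lift (Pi.mulSingle i A)
    have hgO : Ons M i g A := ⟨hg, hg1⟩
    obtain ⟨A', hA'⟩ := hgO.conj (inv_mem htH) (mt.inv htH)
    obtain ⟨l, hl, hlA⟩ := h.cov A'
    refine ⟨t * l * t⁻¹, ⟨l, hl, rfl⟩, hgO.of_same (mul_mem (mul_mem htH (h.LH hl)) (inv_mem htH)) fun v hv => ?_⟩
    have h3 := hlA.same h.hm hA' (M.Vn t⁻¹ (inv_mem htH) v hv)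
    calc t * l * t⁻¹ * v * (t * l * t⁻¹)⁻¹ = t * (l * (t⁻¹ * v * t⁻¹⁻¹) * l⁻¹) * t⁻¹ := by group
      _ = t * (t⁻¹ * g * t⁻¹⁻¹ * (t⁻¹ * v * t⁻¹⁻¹) * (t⁻¹ * g * t⁻¹⁻¹)⁻¹) * t⁻¹ := by rw [h3]
      _ = _ := by group
  · rintro _ ⟨l, hl, rfl⟩ m hm v hv
    obtain ⟨m', hm'⟩ := MvI.ex M (inv_mem htH) m
    have h1 := hm'.Li hTH (inv_mem ht) hv
    have h2 := h.LW l hl m' (fun e => by
      subst e
      have h3 := hm'.inv (inv_mem htH)
      rw [inv_inv] at h3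
      exact hm (MvI.uniq h3 mt htH)) _ h1
    have h3 := congrArg (fun x => t * x * t⁻¹) h2
    show t * l * t⁻¹ * v = v * (t * l * t⁻¹)
    simpa [mul_assoc] using h3
  · intro z hz
    obtain ⟨c, hc, hcL, n, hn, e⟩ := h.split _ (h.conjZ' ht hz)
    refine ⟨t * c * t⁻¹, h.conjZ ht hc, ?_, t * n * t⁻¹, mt.Li hTH ht hn, ?_⟩
    · rintro _ ⟨l, hl, rfl⟩
      have h2 := congrArg (fun x => t * x * t⁻¹) (hcL l hl)
      show t * l * t⁻¹ * (t * c * t⁻¹) = t * c * t⁻¹ * (t * l * t⁻¹)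
      simpa [mul_assoc] using h2
    · have h2 := congrArg (fun x => t * x * t⁻¹) e
      simpa [mul_assoc] using h2

/-- **LEMMA EQ for two blocks of the `i`-th summand** -/
theorem eq2 [CharP F 2] (h : LD M B ZJ L i) (h' : LD M B ZJ L' i) {x : G} (hx : x ∈ ZJ)
    (hc : ∀ l ∈ L, l * x = x * l) : ∀ l ∈ L', l * x = x * l := by
  obtain ⟨c, hcZ, hcL, n, hn, e0⟩ := h'.split x hx
  have hnD : n ∈ D := by
    refine Li_D hn ?_
    by_contra hne
    obtain ⟨g', hg', hgA'⟩ := h'.cov (lo 1)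
    obtain ⟨g, hg, hgA⟩ := h.cov (lo 1)
    have hgg : ∀ v ∈ V, g' * v * g'⁻¹ = g * v * g⁻¹ := fun v hv => hgA'.same h.hm hgA hv
    have hgx : g * x * g⁻¹ = x := by rw [hc g hg]; group
    have hgH := h.LH hg
    have hg'H := h'.LH hg'
    set y := g' * g⁻¹ with hy
    have hyH : y ∈ H := mul_mem hg'H (inv_mem hgH)
    have hyV : ∀ v ∈ V, y * v = v * y := by
      intro v hv
      have h3 := hgg _ (M.Vn g⁻¹ (inv_mem hgH) v hv)
      have h4 : y * v * y⁻¹ = v := by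
        calc y * v * y⁻¹ = g' * (g⁻¹ * v * g⁻¹⁻¹) * g'⁻¹ := by rw [hy]; group
          _ = g * (g⁻¹ * v * g⁻¹⁻¹) * g⁻¹ := h3
          _ = v := by group
      exact mul_inv_eq_iff_eq_mul.1 h4
    set w := n⁻¹ * (g' * n * g'⁻¹) with hw
    have hgn : g' * n * g'⁻¹ ∈ V := M.Vn g' hg'H n hn.1
    have hwV : w ∈ V := mul_mem (inv_mem hn.1) hgn
    have hyx : y * x * y⁻¹ = x * w := by
      have h3 : g' * x * g'⁻¹ = x * w := by
        rw [e0, hw]
        calc g' * (c * n) * g'⁻¹ = (g' * c) * n * g'⁻¹ := by group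
          _ = (c * g') * n * g'⁻¹ := by rw [hcL g' hg']
          _ = _ := by group
      calc y * x * y⁻¹ = g' * (g⁻¹ * x * g) * g'⁻¹ := by rw [hy]; group
        _ = g' * x * g'⁻¹ := by
          have h4 : g⁻¹ * x * g = x := by
            calc g⁻¹ * x * g = g⁻¹ * (g * x * g⁻¹) * g := by rw [hgx]
              _ = x := by group
          rw [h4]
        _ = _ := h3
    have hww : w * w = 1 := by
      have := M.Vsq w hwV
      rwa [pow_two] at this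
    have hpow : ∀ m : ℕ, y ^ m * x * (y ^ m)⁻¹ = x * w ^ m := by
      intro m
      induction m with
      | zero => simp
      | succ m ih =>
        have h3 := hyV _ (pow_mem hwV m)
        calc y ^ (m + 1) * x * (y ^ (m + 1))⁻¹ = y * (y ^ m * x * (y ^ m)⁻¹) * y⁻¹ := by rw [pow_succ']; group
          _ = y * (x * w ^ m) * y⁻¹ := by rw [ih]
          _ = (y * x * y⁻¹) * (y * w ^ m) * y⁻¹ := by group
          _ = (y * x * y⁻¹) * w ^ m := by rw [h3]; group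
          _ = x * w ^ (m + 1) := by rw [hyx, pow_succ', mul_assoc]
    obtain ⟨a, m, hm1, hm2⟩ := Nat.exists_eq_two_pow_mul_odd (isOfFinOrder_of_finite y).orderOf_pos.ne'
    have hyT : y ^ m ∈ T := by
      refine h.two_norm (pow_mem hyH m) (fun v hv => ?_) (n := a) ?_
      · have c1 : Commute y v := hyV v hv
        exact (c1.pow_left m).eq
      · rw [← pow_mul, mul_comm, ← hm2, pow_orderOf_eq_one]
    have hwm : w ^ m = w := by
      obtain ⟨r, rfl⟩ := hm1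
      rw [pow_succ, pow_mul, pow_two, hww, one_pow, one_mul]
    have hwZ : w ∈ ZJ := by
      have h3 := h.conjZ hyT hx
      rw [hpow, hwm] at h3
      have h4 := mul_mem (inv_mem hx) h3
      rwa [inv_mul_cancel_left] at h4
    have h5 := (h.mem w hwV).1 hwZ i
    rw [hw, M.nat.mul _ (inv_mem hn.1) _ hgn, Pi.add_apply, Pi.add_apply, M.map_inv hn.1, Pi.neg_apply, Pi.neg_apply,
      hgA'.e_i hn.1, ap_one', hn.2.2] at h5
    apply hne
    simpa using h5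
  intro l hl
  rw [e0]
  have c1 : Commute l c := hcL l hl
  have c2 : Commute l n := h'.cD l hl n hnD
  exact (c1.mul_right c2).eq

/-- the elements of `Ni` are those centralised by any block of the `i`-th summand -/
theorem mem_Ni_iff [CharP F 2] (h : LD M B ZJ L j) (h' : LD M B ZJ L' i) {x : G} (hx : x ∈ ZJ) :
    x ∈ Ni M ZJ L j i ↔ ∀ l ∈ L', l * x = x * l := by
  obtain ⟨t, ht, htr⟩ := M.nat.trans j i
  have mt : MvI M t j i := htr
  have hcj : (∀ l ∈ L, l * (t⁻¹ * x * t) = t⁻¹ * x * t * l) ↔ ∀ l ∈ cj t L, l * x = x * l := by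
    constructor
    · rintro h1 _ ⟨l, hl, rfl⟩
      have h2 := congrArg (fun y => t * y * t⁻¹) (h1 l hl)
      show t * l * t⁻¹ * x = x * (t * l * t⁻¹)
      simpa [mul_assoc] using h2
    · intro h1 l hl
      have h2 := congrArg (fun y => t⁻¹ * y * t) (h1 (t * l * t⁻¹) ⟨l, hl, rfl⟩)
      simpa [mul_assoc] using h2
  constructor
  · intro h1
    exact (h.conj ht mt).eq2 h' hx (hcj.1 ((mem_Ni.1 h1).2 t ht mt))
  · intro h1
    exact h.mem_Ni_of ht mt hx (hcj.2 (h'.eq2 (h.conj ht mt) hx h1))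

/-- an element of a block acts on `Wn i` as an element of the block which acts only there -/
theorem exists_ons [Finite F] [CharP F 2] (h : LD M B ZJ L i) {l : G} (hl : l ∈ L) (hA : ∃ A, M.Acts l A) :
    ∃ l' ∈ L, ∃ A, Ons M i l' A ∧ ∀ w ∈ Wn M i, l * w * l⁻¹ = l' * w * l'⁻¹ := by
  obtain ⟨A, hA⟩ := hA
  obtain ⟨l', hl', hl'A⟩ := h.cov (A i)
  refine ⟨l', hl', A i, hl'A, fun w hw => ?_⟩
  have hlH := h.LH hl
  have h1 := acts_mul (M := M) hlH (acts_inv (M := M) hl'A.1 hl'A.2.1) hA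
  have h2 := cent_N M h.hm (mul_mem (inv_mem hl'A.1) hlH) h1 (fun d hd => by
    have c1 : Commute l' d := hl'A.2.2 d hd
    have c2 : Commute l d := h.cD l hl d hd
    exact (c1.inv_left.mul_left c2).eq) (i := i) (by
      rw [Pi.mul_apply, Pi.inv_apply, Pi.mulSingle_eq_same, inv_mul_cancel]) hw.1 hw.2
  calc l * w * l⁻¹ = l' * ((l'⁻¹ * l) * w) * l⁻¹ := by group
    _ = l' * (w * (l'⁻¹ * l)) * l⁻¹ := by rw [h2]
    _ = _ := by group

/-- **the modules are permuted by `T`** -/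
theorem comm_cj [Finite F] [CharP F 2] (h : LD M B ZJ L j) (hA : ∀ l ∈ L, ∃ A, M.Acts l A) (h' : LD M B ZJ L' i)
    {t : G} (ht : t ∈ T) (mt : MvI M t j i) : cj t ⁅Wn M j, L⁆ ≤ ⁅Wn M i, L'⁆ := by
  have htH := h.TH ht
  rw [Subgroup.map_le_iff_le_comap, Subgroup.commutator_le]
  intro w hw l hl
  obtain ⟨l1, hl1, A1, hl1A, hs⟩ := h.exists_ons hl (hA l hl)
  obtain ⟨A2, hA2⟩ := hl1A.conj htH mt
  obtain ⟨l2, hl2, hl2A⟩ := h'.cov A2
  have hw' : t * w * t⁻¹ ∈ Wn M i := mt.Wn htH hw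
  have hwi : w⁻¹ ∈ Wn M j := inv_mem hw
  show t * ⁅w, l⁆ * t⁻¹ ∈ ⁅Wn M i, L'⁆
  have e1 : t * ⁅w, l⁆ * t⁻¹ = ⁅t * w * t⁻¹, l2⁆ := by
    rw [commutatorElement_def, commutatorElement_def]
    have h3 := hl2A.same h.hm hA2 (inv_mem hw').1
    have h4 := hs _ hwi
    calc t * (w * l * w⁻¹ * l⁻¹) * t⁻¹ = t * w * (l * w⁻¹ * l⁻¹) * t⁻¹ := by group
      _ = t * w * (l1 * w⁻¹ * l1⁻¹) * t⁻¹ := by rw [h4]
      _ = (t * w * t⁻¹) * (t * l1 * t⁻¹ * (t * w * t⁻¹)⁻¹ * (t * l1 * t⁻¹)⁻¹) := by group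
      _ = (t * w * t⁻¹) * (l2 * (t * w * t⁻¹)⁻¹ * l2⁻¹) := by rw [h3]
      _ = _ := by group
  rw [e1]
  exact commutator_mem_commutator hw' hl2

/-- every element of the preimage of the line is in `[Wn, B] D` -/
theorem Li_split [CharP F 2] (h : LD M B ZJ L j) {v : G} (hv : v ∈ Li M i) :
    ∃ b ∈ B, ∃ a, Ons M i b (up a) ∧ ∃ w ∈ Wn M i, ∃ d ∈ D, v = ⁅w, b⁆ * d := by
  obtain ⟨b, hb, hbA⟩ := h.root_i i (M.nat.e v i 0)
  obtain ⟨w, hw, e0⟩ := exists_vec M i ![0, 1]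
  refine ⟨b, hb, _, hbA, w, hw, ⁅w, b⁆⁻¹ * v, ?_, by group⟩
  have hbw := M.Vn b hbA.1 w⁻¹ (inv_mem hw.1)
  have e1 : ⁅w, b⁆ = w * (b * w⁻¹ * b⁻¹) := by rw [commutatorElement_def]; group
  have hcV : ⁅w, b⁆ ∈ V := by rw [e1]; exact mul_mem hw.1 hbw
  have hci : ∀ m, M.nat.e ⁅w, b⁆ m = M.nat.e w m + M.nat.e (b * w⁻¹ * b⁻¹) m := fun m => by
    rw [e1, M.nat.mul _ hw.1 _ hbw, Pi.add_apply]
  have hwi := inv_mem hw.1
  have hL : ⁅w, b⁆ ∈ Li M i := by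
    refine ⟨hcV, fun m hm => ?_, ?_⟩
    · rw [hci, hbA.e_m hwi hm, M.map_inv hw.1, Pi.neg_apply, add_neg_cancel]
    · rw [hci, Pi.add_apply, hbA.e_i hwi, ap_one', M.map_inv hw.1, Pi.neg_apply, e0]
      simp
  refine Li_D (mul_mem (inv_mem hL) hv) ?_
  rw [M.nat.mul _ (inv_mem hcV) _ hv.1, Pi.add_apply, Pi.add_apply, M.map_inv hcV, Pi.neg_apply, Pi.neg_apply, hci,
    Pi.add_apply, hbA.e_i hwi, ap_zero', M.map_inv hw.1, Pi.neg_apply, e0]
  simp [CharTwo.add_self_eq_zero]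

/-- `[Li, l] ≤ [Wn, B]` for a torus element `l` -/
theorem Cl_le_comm [CharP F 2] (h : LD M B ZJ L j) {l : G} (hl : Tor M i l) : Cl M i l hl.memH ≤ ⁅Wn M i, B⁆ := by
  rintro _ ⟨v, hv, rfl⟩
  obtain ⟨b, hb, a, hbA, w, hw, d, hd, rfl⟩ := h.Li_split (i := i) hv
  obtain ⟨A, hA, h0, h1⟩ := hl
  have hlH := hA.1
  have hwi := inv_mem hw.1
  have hlw : l * w * l⁻¹ ∈ Wn M i := ⟨M.Vn l hlH w hw.1, fun m hm => by rw [hA.e_m hw.1 hm, hw.2 m hm]⟩
  -- `l b l⁻¹`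
  have hlb := (hA.mul hbA).mul hA.inv
  have hup : A * up a * A⁻¹ = up (ent (A * up a * A⁻¹) 0 1) := by
    have t1 : ent (A * up a * A⁻¹) 1 0 = 0 := by
      obtain ⟨s1, s2⟩ := mul_tri h0 (up_10 a)
      exact (mul_tri s1 (inv_tri h0)).1
    have t2 : ent (A * up a * A⁻¹) 0 0 = 1 := by
      obtain ⟨s1, s2⟩ := mul_tri h0 (up_10 a)
      rw [(mul_tri s1 (inv_tri h0)).2, s2, up_00, mul_one, inv_00]
      exact tri_det h0
    have h11 := det_eq (A * up a * A⁻¹)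
    rw [t1, t2, mul_zero, sub_zero, one_mul] at h11
    exact ext_ent (by rw [up_00, t2]) (by rw [up_01]) (by rw [up_10, t1]) (by rw [up_11, h11])
  obtain ⟨b', hb', hb'A⟩ := h.root_i i (ent (A * up a * A⁻¹) 0 1)
  rw [← hup] at hb'A
  have h3 := hlb.same h.hm hb'A (M.Vn l hlH w⁻¹ hwi)
  have hu : l * ⁅w, b⁆ * l⁻¹ = ⁅l * w * l⁻¹, b'⁆ := by
    rw [commutatorElement_def, commutatorElement_def]
    calc l * (w * b * w⁻¹ * b⁻¹) * l⁻¹ =
        (l * w * l⁻¹) * (l * b * l⁻¹ * (l * w⁻¹ * l⁻¹) * (l * b * l⁻¹)⁻¹) := by group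
      _ = (l * w * l⁻¹) * (b' * (l * w⁻¹ * l⁻¹) * b'⁻¹) := by rw [h3]
      _ = _ := by group
  have hld : l * d * l⁻¹ = d := by rw [hA.2.2 d hd]; group
  have e : l * (⁅w, b⁆ * d) * l⁻¹ * (⁅w, b⁆ * d)⁻¹ = ⁅l * w * l⁻¹, b'⁆ * ⁅w, b⁆⁻¹ := by
    calc l * (⁅w, b⁆ * d) * l⁻¹ * (⁅w, b⁆ * d)⁻¹ = l * ⁅w, b⁆ * l⁻¹ * (l * d * l⁻¹) * d⁻¹ * ⁅w, b⁆⁻¹ := by group
      _ = _ := by rw [hld, hu]; group
  rw [e]
  exact mul_mem (commutator_mem_commutator hlw hb') (inv_mem (commutator_mem_commutator hw hb))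

/-- **complements inside `[Wn, B]`** -/
theorem exists_co' [Finite F] [CharP F 2] (h : LD M B ZJ L j) : ∃ c, Co M c ∧ ∀ i, c i ≤ ⁅Wn M i, B⁆ := by
  by_cases hF : ∀ x : F, x = 0 ∨ x = 1
  · refine ⟨_, h.co_two hF, fun i => ?_⟩
    rw [closure_le]
    rintro _ ⟨b, hb, w, hw, rfl⟩
    have h1 := inv_mem (commutator_mem_commutator (inv_mem (inv_mem hw)) hb)
    have e : ⁅w⁻¹⁻¹, b⁆⁻¹ = b * w * b⁻¹ * w⁻¹ := by rw [commutatorElement_def]; group
    rw [e] at h1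
    exact h1
  · push Not at hF
    obtain ⟨a, ha0, ha1⟩ := hF
    exact ⟨_, h.co_tor ha0 ha1, fun i => iSup_le fun l => iSup_le fun hl => h.Cl_le_comm hl⟩

/-- `[Wn l, B]` is in `Ni m`, `l ≠ m` -/
theorem comm_Ni [Finite F] [CharP F 2] (h : LD M B ZJ L j) {l m : Fin k} (hlm : l ≠ m) {v : G} (hv : v ∈ Li M l) :
    v ∈ Ni M ZJ L j m := by
  obtain ⟨t, ht, htr⟩ := M.nat.trans j m
  have mt : MvI M t j m := htr
  refine h.mem_Ni_of ht mt (h.LiZ l hv) fun l' hl' => ?_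
  obtain ⟨i', hi'⟩ := MvI.ex M (inv_mem (h.TH ht)) l
  have h2 : t⁻¹ * v * t ∈ Li M i' := by
    have := hi'.Li h.TH (inv_mem ht) hv
    rwa [inv_inv] at this
  refine h.LW l' hl' i' (fun e => hlm ?_) _ h2
  subst e
  have h3 := hi'.inv (inv_mem (h.TH ht))
  rw [inv_inv] at h3
  exact MvI.uniq h3 mt (h.TH ht)

end LD

end Cfsg.Agent.Omega.OM.Lev.Low

end
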