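import Cfsg.Agent.Mrg.Omega.OM.Lev.GSym
import Cfsg.Agent.Mrg.Omega.OM.Lev.Low.Data


/-!
# TEXT LL (helper584 #20624) (P1), symmetric type: the blocks of a parabolic `H` over `T` acting on `Z_J`

* `yb` : `SIn.In` with a `T`-equivariant choice of minimal blocks `K i` gives `YB T Z (C(K i)) ⟨d i⟩`;
* `exists_blks` : the `T`-equivariant blocks of a general pair `(T, H)` of symmetric type (`GE`, `BZ`, `SymKM`):
  `PB B (K i) (N i) ⟨d i⟩ 1 2`, `K i ≤ H`, `H = ⟨T, K i⟩`, `T` permutes the `(K i, N i, d i)` transitively;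
* `exists_yb` : and `YB T Z_J (C(K i)) ⟨d i⟩`.
-/

set_option autoImplicit false
set_option linter.unusedSectionVars false

namespace Cfsg.Agent.Omega.OM.Lev.Low.YSym

open Subgroup Cfsg Cfsg.Agent.ZN Cfsg.Agent.ZN.ChoiceBase
open Cfsg.Agent.Omega.SQ1.Bau (elem_comm elem_sq)
open Cfsg.Agent.Omega.SQ1.BauS (Sim PermR)
open Cfsg.Agent.Omega.OM.Lev.SIn
open Cfsg.Agent.Omega.OM.Lev.SIn.Blk (mem_zp)
open Cfsg.Agent.Omega.OM.Lev.Low
open Cfsg.Agent.Omega.OM.GLev
open Cfsg.Agent.Omega.FFThm (SymKM)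
open Cfsg.Agent.Omega.FrameFF (cv)
open Cfsg.Agent.Omega.LemmaK (WeakNormal)

universe u w

section blk

variable {G : Type u} [Group G] [Finite G] {H T Q V J Z : Subgroup G} {ι : Type w} {N K : ι → Subgroup G}
  {d t r : ι → G}

/-- `K j` centralises `d i`, `i ≠ j`. -/
theorem cross (h : In H T Q V J Z N d t r) {i j : ι} (hij : i ≠ j) {L : Subgroup G} (k : Blk H T V Z d r j L) {l : G}
    (hl : l ∈ L) : l * d i = d i * l := by
  have h1 : PP H T V Z (r j) ≤ centralizer ({d i} : Set G) := by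
    have key : ∀ y : G, y * d i * y⁻¹ = d i → y ∈ centralizer ({d i} : Set G) := by
      intro y hy
      rw [mem_centralizer_singleton_iff]
      exact mul_inv_eq_iff_eq_mul.1 hy
    refine sup_le (sup_le (fun b hb => key b ((h.EE_good (h.bau_EE hb)).fixd i)) ?_) ?_
    · rw [zpowers_le]
      exact key _ (h.r_d' (Ne.symm hij))
    · rintro c ⟨hc, hc'⟩
      refine key c ?_
      rw [← mem_centralizer_iff.1 hc' _ (h.dV i)]; group
  exact mem_centralizer_singleton_iff.1 (h1 (k.LP hl))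

/-- an element of `zpowers (d i)` centralised by `K i` is trivial -/
theorem cent_one (h : In H T Q V J Z N d t r) {i : ι} {L : Subgroup G} (k : Blk H T V Z d r i L) {x : G}
    (hx : x ∈ zpowers (d i)) (hc : ∀ l ∈ L, l * x = x * l) : x = 1 := by
  rcases mem_zp h hx with h1 | h1
  · exact h1
  · exfalso
    obtain ⟨l, hl, hm⟩ := k.mv
    apply hm
    have h2 := hc l hl
    rw [h1] at h2
    rw [h2, mul_inv_cancel_right]

/-- `z` or `d i z` is centralised by `K i`. -/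
theorem split (h : In H T Q V J Z N d t r) {i : ι} {L : Subgroup G} (k : Blk H T V Z d r i L) {z : G} (hz : z ∈ Z) :
    ∃ a ∈ zpowers (d i), ∀ l ∈ L, l * (a * z) = a * z * l := by
  obtain ⟨l, hl, hm⟩ := k.mv
  rcases k.Z_split h hl hm hz with h1 | h1
  · refine ⟨1, one_mem _, fun x hx => ?_⟩
    rw [one_mul]
    exact k.cent_of h hl hm hz h1 x hx
  · exact ⟨d i, mem_zpowers _, k.cent_of h hl hm (mul_mem (h.d_mem_Z i) hz) h1⟩

/-- **The blocks on `Z`.** -/
theorem yb (h : In H T Q V J Z N d t r) (hK : ∀ i, Blk H T V Z d r i (K i))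
    (hc : ∀ x ∈ T, ∀ i j, x * d i * x⁻¹ = d j → cj x (K i) = K j) :
    YB T Z (fun i => centralizer (K i : Set G)) (fun i => zpowers (d i)) where
  ab := h.Zcomm
  sq := h.Zsq
  norm := fun x hx => mem_normalizer_of_cj_le (by
    rintro _ ⟨z, hz, rfl⟩
    exact h.Zn x hx z hz)
  cX := fun i => zpowers_le.2 (h.d_mem_Z i)
  ne := fun i e => h.d1 i (mem_bot.1 (e ▸ mem_zpowers (d i)))
  fix := fun i z hz => by
    obtain ⟨a, ha, hac⟩ := split h (hK i) hz
    exact ⟨a, ha, mem_centralizer_iff.2 hac⟩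
  triv := fun i => by
    rw [eq_bot_iff]
    rintro x ⟨hx, hxc⟩
    exact mem_bot.2 (cent_one h (hK i) hx (mem_centralizer_iff.1 hxc))
  comm := fun i j hij => by
    rw [zpowers_le, mem_centralizer_iff]
    exact fun l hl => cross h hij (hK j) hl
  perm := by
    intro x hx i
    obtain ⟨j, hj, -⟩ := h.perm x hx i
    refine ⟨j, ?_, ?_⟩
    · show cj x (centralizer (K i : Set G)) = centralizer (K j : Set G)
      rw [cj_centralizer, hc x hx i j hj]
    · show cj x (zpowers (d i)) = zpowers (d j)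
      rw [cj, MonoidHom.map_zpowers]
      change zpowers (x * d i * x⁻¹) = _
      rw [hj]
  cyc := by
    intro i s _ x _ hs _
    refine ⟨0, Or.inl fun y hy => ?_⟩
    rw [pow_zero, mul_one]
    rcases mem_zp h hy with h1 | h1
    · rw [h1, mul_one, one_mul]
    · have h2 : s * d i * s⁻¹ ∈ zpowers (d i) := by
        have h3 : cj s (zpowers (d i)) = zpowers (d i) := hs.2
        rw [← h3]
        exact ⟨d i, mem_zpowers _, rfl⟩
      rcases mem_zp h h2 with h3 | h3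
      · exfalso
        apply h.d1 i
        calc d i = s⁻¹ * (s * d i * s⁻¹) * s := by group
          _ = 1 := by rw [h3]; group
      · rw [h1]
        exact mul_inv_eq_iff_eq_mul.1 h3

end blk

section main

variable {G : Type u} [Group G] [Finite G] {T H X B ZJ : Subgroup G} {AA : Set (Subgroup G)} {k m : ℕ}

/-- **The `T`-equivariant blocks of a pair `(T, H)` of symmetric type.** -/
theorem exists_blks (h : GE T H X AA) (b : BZ T X AA B ZJ) (N : SymKM T H (zl T H) (cv T H) k m) (hk : 0 < k)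
    (hm : 1 ≤ m) (hex : ∃ A ∈ AA, ¬ A ≤ o2 H) :
    ∃ (ι : Type) (_ : Finite ι) (_ : Nonempty ι) (W K : ι → Subgroup G) (d t r : ι → G),
      In H T (o2 H) (zl T H) (sSup AA) ZJ W d t r ∧ PermR T (zl T H) d r ∧
      (∀ i, Blk H T (zl T H) ZJ d r i (K i)) ∧
      (∀ x ∈ T, ∀ i j, x * d i * x⁻¹ = d j → cj x (K i) = K j) ∧
      (∀ i, PB B (K i) (W i) (zpowers (d i)) ⊥ 2) ∧ (∀ i, K i ≤ H) ∧ ∀ i, H ≤ T ⊔ K i := by
  have h0 := Lev.Sym.syL_gen (Jg := sSup AA) h.hm hk hm N SQ1.FFOf.cv_le SQ1.FFOf.cv_norm h.fam.le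
    (fun A hA hAQ => h.offM hA hAQ) hex (sSup_le h.fam.le) (GSym.T_norm_AA h) (fun A hA => le_sSup hA) le_sup_left
  obtain ⟨ι, J, U, Y, t, r, c⟩ := h0.exists_ch
  obtain ⟨j, x, y, hTr⟩ := h0.exists_tr
  obtain ⟨i, -⟩ := c.ex j x y hTr
  have hin := GSym.in_of h b i (c.main h0 Cfsg.Agent.Omega.SQ1.SymCyc.exists_pow)
  have hp := c.permR h0
  obtain ⟨K, hK, hKc⟩ := hin.exists_blks hp
  have hB : BB T ZJ = B := b.eqB.symm
  have hw : WeakNormal 2 (BB T ZJ) := by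
    rw [hB]
    exact fun R hR hBR => b.wn R hR hBR
  refine ⟨ι, hin.finite_index, ⟨i⟩, _, K, _, t, r, hin, hp, hK, hKc, fun j => ?_, fun j => (hK j).LH hin, fun j =>
    (hK j).sup_T hin le_sup_left le_sup_right⟩
  have hpb := GSym.pb hin (by rw [hB]; exact b.zcB) hw (hK j)
  rwa [hB] at hpb

/-- **(P1), symmetric type.** -/
theorem exists_yb (h : GE T H X AA) (b : BZ T X AA B ZJ) (N : SymKM T H (zl T H) (cv T H) k m) (hk : 0 < k)
    (hm : 1 ≤ m) (hex : ∃ A ∈ AA, ¬ A ≤ o2 H) :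
    ∃ (ι : Type) (_ : Finite ι) (_ : Nonempty ι) (W K : ι → Subgroup G) (d : ι → G),
      YB T ZJ (fun i => centralizer (K i : Set G)) (fun i => zpowers (d i)) ∧
      (∀ x ∈ T, ∀ i, ∃ j, x * d i * x⁻¹ = d j ∧ cj x (K i) = K j ∧ cj x (W i) = W j) ∧
      (∀ i j, ∃ x ∈ T, x * d i * x⁻¹ = d j) ∧ (∀ i, d i ≠ 1) ∧ (∀ i, Nat.card (W i) = 4) ∧ (∀ i, W i ≤ zl T H) ∧
      (∀ i, PB B (K i) (W i) (zpowers (d i)) ⊥ 2) ∧ (∀ i, K i ≤ H) ∧ ∀ i, H ≤ T ⊔ K i := by
  obtain ⟨ι, hf, hne, W, K, d, t, r, hin, hp, hK, hKc, hpb, hKH, hT⟩ := exists_blks h b N hk hm hex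
  refine ⟨ι, hf, hne, W, K, d, yb hin hK hKc, fun x hx i => ?_, hin.trans, hin.d1, hin.cardN, hin.NV, hpb, hKH, hT⟩
  obtain ⟨j, hj, hjN⟩ := hin.perm x hx i
  refine ⟨j, hj, hKc x hx i j hj, ?_⟩
  refine Subgroup.eq_of_le_of_card_ge ?_ (by rw [card_cj, hin.cardN, hin.cardN])
  rintro _ ⟨v, hv, rfl⟩
  exact hjN v hv

end main

end Cfsg.Agent.Omega.OM.Lev.Low.YSym
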