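import Cfsg.Agent.Mrg.Omega.OM.Lev.GSym
import Cfsg.Agent.Mrg.Omega.OM.Lev.Low.YNat
import Cfsg.Agent.Mrg.Omega.OM.Lev.Low.YSym
import Cfsg.Agent.Mrg.Omega.OM.Lev.Low.FrFour
import Cfsg.Agent.Mrg.Omega.OM.SwapL.Off
import Cfsg.Agent.Mrg.Omega.OM.Lev.LowBlk
import Cfsg.Agent.Mrg.Omega.OM.Lev.SMin
import Cfsg.Agent.Mrg.Omega.OM.Lev.FixPt
import Cfsg.Agent.Mrg.Omega.NO3S.EThree.Frame

section


/-!
# (LL): minimal parabolics of lower stage

`(T, Y)` : `T ≥ B = C_S(Ω₁Z(lev S (n+1)))` a Sylow 2-subgroup of the minimal parabolic `Y` of characteristic 2.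

* `exists_stg` : the stage `j ≤ n` of a `Y` with `lev S n ≰ O₂(Y)`;
* `exists_ybj` : `YB` on `Ω₁Z(lev S j)` for the stage `j`, `zc T ≰ N i` for some `i`;
* `qv` : `QV T (Ω₁Z(lev S j)) (O₂(P)) V_P` for every 2-group `T ≥ B`, `j ≤ n`;
* `low_four` : `q > 2`: if `Y` moves `Ω₁Z(T)`, then `lev S n ≤ O₂(Y)`;
* `bg_four` : **`q > 2`: `BG S n 𝓑` for every family of subgroups which contains the FF-blocks over `B`.**
-/

set_option autoImplicit false
set_option linter.unusedSectionVars false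

namespace Cfsg.Agent.Omega.OM.Lev.Low

open Subgroup Cfsg Cfsg.Agent.ZN.ChoiceBase Cfsg.Agent.ZN.ChoiceSit
open Cfsg.Agent.ZN (jj zj bau zc zl o2)
open Cfsg.Agent.MinSimple.MinParabolic (IsMinPar)
open Cfsg.Agent.Omega.FFThm (NatKM SymKM OffM NoOverM ElemM)
open Cfsg.Agent.Omega.FrameFF (cv)
open Cfsg.Agent.Omega.OM.LevB (lb zc_B nxt_lev isLev_T bz_lev)
open Cfsg.Agent.Omega.OM.GLev
open Cfsg.Agent.Omega.OM.Lev.Uni (FrL)
open Cfsg.Agent.Omega.OM.SwapL (Ln ZL BG)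
open Cfsg.Agent.Omega.NO3S.Level (lev lev_mono lev_isLev Lev BO nxt lev_le_succ lev_le)

universe u

variable {G : Type u} [Group G] [Finite G]

/-- `B` of the stage `j` is contained in `B` of the stage `n ≥ j` -/
theorem BL_mono (S : Subgroup G) {j n : ℕ} (h : j ≤ n) : LevB.BL S j ≤ LevB.BL S n := by
  refine inf_le_inf_left _ (centralizer_le ?_)
  exact_mod_cast (lev_isLev S j).zc_le_zc (lev_mono S h) (lev_le S n)

/-- the stage -/
theorem exists_stg (S : Subgroup G) {Y : Subgroup G} {n : ℕ} (h : ¬ lev S n ≤ o2 Y) :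
    ∃ j ≤ n, (∀ i < j, lev S i ≤ o2 Y) ∧ ¬ lev S j ≤ o2 Y := by
  classical
  have hex : ∃ j, ¬ lev S j ≤ o2 Y := ⟨n, h⟩
  refine ⟨Nat.find hex, Nat.find_min' hex h, fun i hi => ?_, Nat.find_spec hex⟩
  by_contra hcon
  exact Nat.find_min hex hi hcon

/-- **`YB` at the stage of `Y`.** -/
theorem exists_ybj (S : Sylow 2 G) {T Y : Subgroup G} {j : ℕ} (hT : Syl T Y) (hB : LevB.BL (S : Subgroup G) j ≤ T)
    (hP : IsMinPar T Y) (hc : Y ⊓ centralizer (o2 Y : Set G) ≤ o2 Y)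
    (hlow : ∀ i < j, lev (S : Subgroup G) i ≤ o2 Y) (hn : ¬ lev (S : Subgroup G) j ≤ o2 Y)
    (hZ : ¬ Y ≤ centralizer (zc T : Set G)) :
    ∃ (Λ : Type) (_ : Finite Λ) (N c : Λ → Subgroup G), YB T (zc (lev (S : Subgroup G) j)) N c ∧
      ∃ l, ¬ zc T ≤ N l := by
  obtain ⟨X, AA', hge, hbz, hex, hcon⟩ := exists_ge S hT hB hP hc hlow hn hZ
  rcases hcon with ⟨F, _, _, _, k, hk, ⟨N⟩⟩ | ⟨k, m, hk, hm, ⟨N⟩⟩
  · obtain ⟨Ni, c, hy, i, hi⟩ := exists_yb hge hbz N hk hex hZ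
    exact ⟨Fin k, inferInstance, Ni, c, hy, i, hi⟩
  · obtain ⟨ι, hf, ⟨i⟩, W, K, d, hy, -, -, -, -, -, -, -, hsup⟩ := YSym.exists_yb hge hbz N hk (by omega) hex
    refine ⟨ι, hf, _, _, hy, i, fun hle => hZ ((hsup i).trans (sup_le ?_ ?_))⟩
    · exact NO3S.Level.le_centralizer_zc T
    · exact le_centralizer_iff.1 hle

section line

variable {ι : Type} [Finite ι] {S : Sylow 2 G} {P : Subgroup G} {n : ℕ} {L W Z C A : ι → Subgroup G} {q : ℕ}

/-- **`QV`** -/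
theorem qv (h : Ln S P n L W Z C A q) {T : Subgroup G} (hT : IsPGroup 2 T)
    (hB : SwapL.BL (S : Subgroup G) n ≤ T) {j : ℕ} (hj : j ≤ n) :
    YB.QV T (zc (lev (S : Subgroup G) j)) (o2 P) (zl (S : Subgroup G) P) where
  QT := h.fr.QB.trans hB
  TQ := by
    intro t ht
    have h1 := (SwapL.lb S n).two_le hT hB ht
    have h2 := SwapL.two_norm h hT hB ht
    have e : o2 P = SwapL.BL (S : Subgroup G) n ⊓ centralizer (zl (S : Subgroup G) P : Set G) := by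
      ext x
      rw [mem_inf, mem_centralizer_iff]
      constructor
      · intro hx
        exact ⟨h.fr.QB hx, fun v hv => ((h.fr.mem_Q x (h.fr.QB hx)).1 hx v hv).symm⟩
      · rintro ⟨hx, hx'⟩
        exact (h.fr.mem_Q x hx).2 fun v hv => (hx' v hv).symm
    rw [mem_normalizer_iff_cj, e, cj_inf, cj_centralizer, cj_eq_of_mem_normalizer h1, cj_eq_of_mem_normalizer h2]
  mem := by
    intro x
    have hVX : zl (S : Subgroup G) P ≤ zc (lev (S : Subgroup G) j) :=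
      h.fr.VX.trans ((lev_isLev (S : Subgroup G) j).zc_le_zc (lev_mono _ hj) (lev_le _ n))
    constructor
    · exact fun hx => ⟨hVX hx, fun q hq => (h.fr.mem_Q q (h.fr.QB hq)).1 hq x hx⟩
    · rintro ⟨hx, hxQ⟩
      have h1 : x ∈ (S : Subgroup G) := lev_le _ j (mem_zc.1 hx).1
      have h2 : x ∈ P := h.hyp.syl.1 h1
      have h3 : x ∈ o2 P := h.hyp.star.isLoc.char2 S h.hyp.ctx.char2 ⟨h2, mem_centralizer_iff.2 hxQ⟩
      exact h.fr.zcQ x h3 (mem_zc.1 hx).2.1 fun y hy => (hxQ y hy).symm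
  two := hT

/-- `Ω₁Z(T) ≤ Z_J` -/
theorem zc_T_le (S : Sylow 2 G) {T : Subgroup G} (hT : IsPGroup 2 T) {n : ℕ}
    (hB : SwapL.BL (S : Subgroup G) n ≤ T) : zc T ≤ ZL (S : Subgroup G) n := by
  have h1 := isLev_T S hT ((SwapL.lb S n).KB.trans hB)
  exact h1.zc_le

/-- **(LL), `q > 2`.** -/
theorem low_four (h : Ln S P n L W Z C A q) (hq : 2 < q) {T Y : Subgroup G} (hT : Syl T Y)
    (hB : SwapL.BL (S : Subgroup G) n ≤ T) (hP : IsMinPar T Y) (hc : Y ⊓ centralizer (o2 Y : Set G) ≤ o2 Y)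
    (hZ : ¬ Y ≤ centralizer (zc T : Set G)) : lev (S : Subgroup G) n ≤ o2 Y := by
  by_contra hn
  obtain ⟨j, hj, hlow, hnj⟩ := exists_stg (S : Subgroup G) hn
  have hBj : LevB.BL (S : Subgroup G) j ≤ T := (BL_mono (S : Subgroup G) (by omega : j ≤ n + 1)).trans hB
  obtain ⟨Λ, _, N, c, hy, l, hl⟩ := exists_ybj S hT hBj hP hc hlow hnj hZ
  have h1 := no_low h.fr hq hy (qv h hT.2.1 hB hj) hB l
  exact hl ((zc_T_le S hT.2.1 hB).trans h1)

/-- **`BG` at stage `n`, `q > 2`.** -/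
theorem bg_four (h : Ln S P n L W Z C A q) (hq : 2 < q) {𝓑 : Subgroup G → Subgroup G → Prop}
    (h𝓑 : ∀ L' V', LevB.FBlk (SwapL.BL (S : Subgroup G) n) L' V' → 𝓑 L' V') : BG S n 𝓑 := by
  intro T Y hT hB hP hc hn1 hZ
  have hK := low_four h hq hT hB hP hc hZ
  obtain ⟨L', V', -, hF, hsup⟩ := LevB.exists_fblk S hT hB hP hc hK hn1 hZ
  exact hsup.trans (sup_le le_sup_right (le_sup_of_le_left (LevD.blk_le_K0 (h𝓑 _ _ hF))))

end line

end Cfsg.Agent.Omega.OM.Lev.Low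

end

section


/-!
# (LL) for subgroups which centralise an element of `Z_J` with full support, `q = 2`

* `exists_ybc` : 584's `exists_ybj`, and the elements of `X` centralised by `Y` lie in all `N l`;
* `low_full` : `Y` moves `Ω₁Z(T)` and centralises `η ∈ Z_J` with full support: `lev S n ≤ O₂(Y)`;
* `no_blk` : no FF-block over `B` centralises `η`.
-/

set_option autoImplicit false
set_option linter.unusedSectionVars false

namespace Cfsg.Agent.Omega.OM.YTwo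

open Subgroup Cfsg Cfsg.Agent.ZN.ChoiceBase Cfsg.Agent.ZN.ChoiceSit
open Cfsg.Agent.ZN (jj zj bau zc zl o2)
open Cfsg.Agent.MinSimple.MinParabolic (IsMinPar)
open Cfsg.Agent.Omega.NO3S.Level (lev lev_isLev le_centralizer_zc)
open Cfsg.Agent.Omega.OM.Lev.Low
open Cfsg.Agent.Omega.OM.Lev.Uni (FrL)
open Cfsg.Agent.Omega.OM.LevB (FBlk)
open Cfsg.Agent.Omega.OM.SwapL (Ln ZL)

universe u

variable {G : Type u} [Group G] [Finite G]

/-- **`YB` at the stage of `Y`**; the elements of `X` centralised by `Y` lie in all `N l`. -/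
theorem exists_ybc (S : Sylow 2 G) {T Y : Subgroup G} {j : ℕ} (hT : Syl T Y) (hB : LevB.BL (S : Subgroup G) j ≤ T)
    (hP : IsMinPar T Y) (hc : Y ⊓ centralizer (o2 Y : Set G) ≤ o2 Y)
    (hlow : ∀ i < j, lev (S : Subgroup G) i ≤ o2 Y) (hn : ¬ lev (S : Subgroup G) j ≤ o2 Y)
    (hZ : ¬ Y ≤ centralizer (zc T : Set G)) :
    ∃ (Λ : Type) (_ : Finite Λ) (N c : Λ → Subgroup G), YB T (zc (lev (S : Subgroup G) j)) N c ∧
      (∃ l, ¬ zc T ≤ N l) ∧ ∀ x ∈ zc (lev (S : Subgroup G) j), (∀ y ∈ Y, y * x = x * y) → ∀ l, x ∈ N l := by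
  obtain ⟨X, AA', hge, hbz, hex, hcon⟩ := exists_ge S hT hB hP hc hlow hn hZ
  rcases hcon with ⟨F, _, _, _, k, hk, ⟨N⟩⟩ | ⟨k, m, hk, hm, ⟨N⟩⟩
  · obtain ⟨L, j, hL, hsup⟩ := exists_ld hge hbz N hk hex
    obtain ⟨c, hc⟩ := hL.exists_co
    have hy := hL.yb_aux hc fun i s hs t ht hsm htm => cyc_line hge.hm N hk hs hsm ht htm
    refine ⟨Fin k, inferInstance, _, c, hy, ⟨j, fun hcon => hZ (hsup.trans (sup_le ?_ ?_))⟩, fun x hx hxY l => ?_⟩
    · exact le_centralizer_zc T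
    · intro l hl
      rw [mem_centralizer_iff]
      intro z hz
      have h1 := (mem_Ni.1 (hcon hz)).2 1 (one_mem _) (MvI.one j) l hl
      simp only [inv_one, one_mul, mul_one] at h1
      exact h1.symm
    · refine mem_Ni.2 ⟨hx, fun t ht _ l hl => ?_⟩
      have h1 : t⁻¹ * x * t = x := by
        rw [mul_assoc, ← hxY t (hT.1 ht), inv_mul_cancel_left]
      rw [h1]
      exact hxY l (hL.LH hl)
  · obtain ⟨ι, hf, ⟨i⟩, W, K, d, hy, -, -, -, -, -, -, hKH, hsup⟩ := YSym.exists_yb hge hbz N hk (by omega) hex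
    refine ⟨ι, hf, _, _, hy, ⟨i, fun hle => hZ ((hsup i).trans (sup_le ?_ ?_))⟩, fun x hx hxY l => ?_⟩
    · exact le_centralizer_zc T
    · exact le_centralizer_iff.1 hle
    · exact mem_centralizer_iff.2 fun y hy => hxY y (hKH l hy)

section line

variable {ι : Type} [Finite ι] {S : Sylow 2 G} {P : Subgroup G} {n : ℕ} {L W Z C A : ι → Subgroup G}

/-- Every set `s` of indices with `Z i ≤ H` (`i ∈ s`) is the support of an element of `Z_J ∩ H`. -/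
theorem exists_supp_in (h : Ln S P n L W Z C A 2) (s : Set ι) {H : Subgroup G} (hH : ∀ i ∈ s, Z i ≤ H) :
    ∃ x ∈ ZL (S : Subgroup G) n, x ∈ H ∧ ∀ i, (x ∈ C i ↔ i ∉ s) := by
  classical
  have : Fintype ι := Fintype.ofFinite ι
  suffices H' : ∀ t : Finset ι, (∀ i ∈ t, i ∈ s) →
      ∃ x ∈ ZL (S : Subgroup G) n, x ∈ H ∧ ∀ i, (x ∈ C i ↔ i ∉ t) by
    obtain ⟨x, hx, hxH, hs⟩ := H' s.toFinset fun i hi => Set.mem_toFinset.1 hi
    exact ⟨x, hx, hxH, fun i => by rw [hs i, Set.mem_toFinset]⟩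
  intro t
  induction t using Finset.induction_on with
  | empty => exact fun _ => ⟨1, one_mem _, one_mem _, fun i => by simp [one_mem]⟩
  | insert j t hj ih =>
    intro ht
    obtain ⟨x, hx, hxH, hs⟩ := ih fun i hi => ht i (Finset.mem_insert_of_mem hi)
    obtain ⟨z, hz, hz1⟩ := SwapL.Z_ne h j
    refine ⟨x * z, mul_mem hx (h.fr.Z_le j hz), mul_mem hxH (hH j (ht j (Finset.mem_insert_self j t)) hz),
      fun i => ?_⟩
    by_cases hij : i = j
    · subst hij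
      have h1 : x ∈ C i := (hs i).2 hj
      constructor
      · intro h2
        exact absurd ((Subgroup.mul_mem_cancel_left _ h1).1 h2) (SwapL.not_mem_C h hz hz1)
      · intro h2
        exact absurd (Finset.mem_insert_self i t) h2
    · have h1 : z ∈ C i := SwapL.Z_C h hij hz
      rw [Subgroup.mul_mem_cancel_right _ h1, hs i, Finset.mem_insert, not_or]
      exact ⟨fun h2 => ⟨hij, h2⟩, fun h2 => h2.2⟩

/-- `Z i` lies in the part of `V` moved by the blocks or in the part centralised by them. -/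
theorem Z_split (h : Ln S P n L W Z C A 2) {T X : Subgroup G} {Λ : Type} [Finite Λ] {N c : Λ → Subgroup G}
    (hB : SwapL.BL (S : Subgroup G) n ≤ T) (hy : YB T X N c)
    (hV : YB.QV T X (o2 P) (zl (S : Subgroup G) P)) (i : ι) :
    Z i ≤ YB.Cp c Set.univ ∨ Z i ≤ YB.Np X N Set.univ := by
  have h2 := h.fr.Ane i
  push Not at h2
  obtain ⟨b, hb, w, hw, hbw⟩ := h2
  have r := rt h.fr hB hb fun h3 => hbw (h3 w hw)
  obtain ⟨z, hz, hz1⟩ := SwapL.Z_ne h i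
  have hone : ∀ x ∈ Z i, x ≠ 1 → x = z := fun x hx hx1 => SwapL.Z_eq h hx hz hx1 hz1
  obtain ⟨v, hv, e⟩ := r.all z hz
  obtain ⟨a, haV, d, hdV, ha, hd, rfl⟩ := hy.restr hV (p := Set.univ) (fun _ _ _ _ _ => by simp) hv
  have h3 := r.com a haV
  have h4 := r.com d hdV
  have h5 : a * (b * a * b⁻¹) ∈ YB.Cp c Set.univ :=
    mul_mem ha (hy.Cp_conj r.bT (fun _ _ _ _ => Set.mem_univ _) ha)
  have h6 : d * (b * d * b⁻¹) ∈ YB.Np X N Set.univ :=
    mul_mem hd (hy.Np_conj r.bT (fun _ _ _ _ => Set.mem_univ _) hd)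
  have h7 : z = a * (b * a * b⁻¹) * (d * (b * d * b⁻¹)) := by
    have h8 := hy.cm (hV.VX (YB.QV.memV hy hV r.bT haV)) (hV.VX hdV)
    rw [← e]
    calc a * d * (b * (a * d) * b⁻¹) = a * (d * (b * a * b⁻¹)) * (b * d * b⁻¹) := by group
      _ = a * ((b * a * b⁻¹) * d) * (b * d * b⁻¹) := by rw [h8]
      _ = _ := by group
  by_cases h8 : a * (b * a * b⁻¹) = 1
  · right
    rw [h8, one_mul] at h7
    intro x hx
    by_cases hx1 : x = 1
    · rw [hx1]; exact one_mem _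
    · rw [hone x hx hx1, h7]; exact h6
  · left
    intro x hx
    by_cases hx1 : x = 1
    · rw [hx1]; exact one_mem _
    · rw [hone x hx hx1, ← hone _ h3 h8]; exact h5

/-- **(LL) for subgroups which centralise an element with full support.** -/
theorem low_full (h : Ln S P n L W Z C A 2) {T Y : Subgroup G} (hT : Syl T Y)
    (hB : SwapL.BL (S : Subgroup G) n ≤ T) (hP : IsMinPar T Y) (hc : Y ⊓ centralizer (o2 Y : Set G) ≤ o2 Y)
    (hZ : ¬ Y ≤ centralizer (zc T : Set G)) {η : G} (hη : η ∈ ZL (S : Subgroup G) n) (hs : ∀ i, η ∉ C i)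
    (hηY : ∀ y ∈ Y, y * η = η * y) : lev (S : Subgroup G) n ≤ o2 Y := by
  by_contra hn
  obtain ⟨j, hj, hlow, hnj⟩ := exists_stg (S : Subgroup G) hn
  have hBj : LevB.BL (S : Subgroup G) j ≤ T := (BL_mono (S : Subgroup G) (by omega : j ≤ n + 1)).trans hB
  obtain ⟨Λ, _, N, c, hy, ⟨l, hl⟩, hcY⟩ := exists_ybc S hT hBj hP hc hlow hnj hZ
  have hV := qv h hT.2.1 hB hj
  set X : Subgroup G := zc (lev (S : Subgroup G) j) with hX
  have hsp := Z_split h hB hy hV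
  obtain ⟨x, hx, hxC, hxs⟩ := exists_supp_in h {i | Z i ≤ YB.Cp c Set.univ} (H := YB.Cp c Set.univ) fun i hi => hi
  obtain ⟨y, hyJ, hyN, hys⟩ := exists_supp_in h {i | ¬ Z i ≤ YB.Cp c Set.univ} (H := YB.Np X N Set.univ)
    fun i hi => (hsp i).resolve_left hi
  have hηX : η ∈ X := hV.VX (h.fr.ZJV hη)
  have hηN : η ∈ YB.Np X N Set.univ := YB.mem_Np.2 ⟨hηX, fun m _ => hcY η hηX hηY m⟩
  have e : η = x * y := by
    refine SwapL.eq_of_supp h hη (mul_mem hx hyJ) fun i => ?_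
    refine ⟨fun h1 => absurd h1 (hs i), fun h1 => ?_⟩
    exfalso
    by_cases hi : Z i ≤ YB.Cp c Set.univ
    · have h2 : y ∈ C i := (hys i).2 fun h3 => h3 hi
      exact (hxs i).1 ((Subgroup.mul_mem_cancel_right _ h2).1 h1) hi
    · have h2 : x ∈ C i := (hxs i).2 hi
      exact (hys i).1 ((Subgroup.mul_mem_cancel_left _ h2).1 h1) hi
  have hxN : x ∈ YB.Np X N Set.univ := by
    have h1 := mul_mem hηN (inv_mem hyN)
    rwa [e, mul_inv_cancel_right] at h1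
  have hx1 : x = 1 := hy.eq_one hxC fun m hm => (YB.mem_Np.1 hxN).2 m hm
  have hall : ∀ i, Z i ≤ N l := by
    intro i
    refine le_trans ((hsp i).resolve_left fun hi => ?_) fun z hz => (YB.mem_Np.1 hz).2 l (Set.mem_univ l)
    exact (hxs i).1 (hx1 ▸ one_mem _) hi
  exact hl ((zc_T_le S hT.2.1 hB).trans (zj_le h.fr hall))

/-- No FF-block over `B` centralises an element with full support. -/
theorem no_blk (h : Ln S P n L W Z C A 2) {L' V' : Subgroup G} (h' : FBlk (SwapL.BL (S : Subgroup G) n) L' V')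
    {η : G} (hη : η ∈ ZL (S : Subgroup G) n) (hs : ∀ i, η ∉ C i) (hηL : ∀ l ∈ L', l * η = η * l) : False := by
  obtain ⟨⟨Z', q', hF⟩, hb⟩ := h'
  have eqB : SwapL.BL (S : Subgroup G) n =
    (S : Subgroup G) ⊓ centralizer (zc (lev (S : Subgroup G) (n + 1)) : Set G) := rfl
  have hX := Lev.LowBlk.V_le S eqB h.fr hF hb.irr
  have hp : ∀ g ∈ normalizer (SwapL.BL (S : Subgroup G) n : Set G), ∀ j, ∃ k, cj g (Z j) = Z k := by
    intro g hg j
    obtain ⟨k, hk, -⟩ := SwapL.perm h hg j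
    exact ⟨k, hk⟩
  obtain ⟨-, i, -, -, -, h1, -⟩ := Lev.UniPlus.uniPlusX h.fr (SwapL.lb S n).Bp (SwapL.wc S n) hp hF hX
  exact hs i ((h1 η hη).2 hηL)

end line

end Cfsg.Agent.Omega.OM.YTwo

end

section


/-!
# THEOREM Y2 (helper743 #22591) at the levels `n ≥ 0`: the choice of `C₀` and the pair `(T, F)`

`B = C_S(Z_J)`, `Z_J = Ω₁Z(lev S (n+1))`, `q = 2`. The file `YTwo/Neg.lean` at level `n`. (LL) is needed for subgroups
which centralise an element with full support only: `low_full`.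
-/

set_option autoImplicit false
set_option linter.unusedSectionVars false

namespace Cfsg.Agent.Omega.OM.YTwo.Lv

open Subgroup Cfsg Cfsg.Agent.ZN.ChoiceBase Cfsg.Agent.ZN.ChoiceSit
open Cfsg.Agent.ZN (jj zj bau zc zl o2)
open Cfsg.Agent.MinSimple.MinParabolic (IsMinPar)
open Cfsg.Agent.MinSimple.VModule (oddGen oddGen_le)
open Cfsg.Agent.Omega.NO3S.Level (lev lev_isLev le_centralizer_zc)
open Cfsg.Agent.Omega.OM.SwapL
open Cfsg.Agent.Omega.OM.Swap (char2_cent)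
open Cfsg.Agent.Omega.OM.LevB (FBlk)

universe u

variable {G : Type u} [Group G] [Finite G]

theorem norm_BL (S : Sylow 2 G) (n : ℕ) :
    normalizer (BL (S : Subgroup G) n : Set G) ≤ normalizer (ZL (S : Subgroup G) n : Set G) := (lb S n).norm_B_le

theorem S_le (S : Sylow 2 G) (n : ℕ) : (S : Subgroup G) ≤ normalizer (ZL (S : Subgroup G) n : Set G) :=
  ((lb S n).two_le S.isPGroup' (lb S n).BS).trans (norm_BL S n)

theorem mem_of_cj (S : Sylow 2 G) {n : ℕ} {g : G}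
    (h : cj g (BL (S : Subgroup G) n) ≤ normalizer (ZL (S : Subgroup G) n : Set G)) :
    g ∈ normalizer (ZL (S : Subgroup G) n : Set G) := mem_of_cj_B_le S (S_le S n) (norm_BL S n) h

theorem zc_le_ZL (S : Sylow 2 G) {n : ℕ} {T : Subgroup G} (hT : IsPGroup 2 T) (hB : BL (S : Subgroup G) n ≤ T) :
    zc T ≤ ZL (S : Subgroup G) n := Lev.Low.zc_T_le S hT hB

/-- A minimal parabolic over `T` not contained in `N_G(Z_J)`. -/
theorem exists_par (S : Sylow 2 G) {n : ℕ} {T H : Subgroup G} (hT : Syl T H) (hB : BL (S : Subgroup G) n ≤ T)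
    (hM : ¬ H ≤ normalizer (ZL (S : Subgroup G) n : Set G)) :
    ∃ Y : Subgroup G, IsMinPar T Y ∧ Y ≤ H ∧ ¬ Y ≤ normalizer (ZL (S : Subgroup G) n : Set G) ∧
      ¬ lev (S : Subgroup G) (n + 1) ≤ o2 Y := by
  obtain ⟨Y, hY, hYH, hYM⟩ : ∃ Y : Subgroup G, IsMinPar T Y ∧ Y ≤ H ∧
      ¬ Y ≤ normalizer (ZL (S : Subgroup G) n : Set G) := by
    by_contra hcon
    push Not at hcon
    apply hM
    refine MinSimple.MinParabolic.le_of_forall hT.1 ?_ hcon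
    refine inf_le_right.trans (le_trans ?_ (norm_BL S n))
    intro g hg
    rw [mem_normalizer_iff_cj]
    exact wc S n T hT.2.1 hB g ((cj_mono g hB).trans (cj_eq_of_mem_normalizer hg).le)
  exact ⟨Y, hY, hYH, hYM, fun h1 => hYM ((le_normalizer_o2 Y).trans ((lb S n).nrm _ (isPGroup_o2 Y) h1))⟩

section line

variable {ι : Type} [Finite ι] {S : Sylow 2 G} {P : Subgroup G} {n : ℕ} {L W Z C A : ι → Subgroup G}

/-- The second half of `SwapL.exists_pair`: the pair `(T, F)` inside a minimal parabolic `Y` with `[Ω₁(Z(T₀)), Y] = 1`,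
`lev S (n+1) ≰ O₂(Y)`, `Y ≰ M`. -/
theorem exists_pair_of (h : Ln S P n L W Z C A 2) {M H T₀ Y : Subgroup G}
    (hN : normalizer (BL (S : Subgroup G) n : Set G) ≤ M) (hT₀ : Syl T₀ H) (hBT₀ : BL (S : Subgroup G) n ≤ T₀)
    (hc : H ⊓ centralizer (o2 H : Set G) ≤ o2 H)
    (hYm : IsMinPar T₀ Y) (hYH : Y ≤ H) (hYK : ¬ lev (S : Subgroup G) (n + 1) ≤ o2 Y)
    (hYc : Y ≤ centralizer (zc T₀ : Set G)) (hYM : ¬ Y ≤ M) :
    ∃ T F : Subgroup G, Pair S P n M T F ∧ F ≤ Y := by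
  have : Fact (Nat.Prime 2) := ⟨Nat.prime_two⟩
  have hTM : T₀ ≤ M := ((lb S n).two_le hT₀.2.1 hBT₀).trans hN
  have hTY : Syl T₀ Y := ⟨hYm.le, hT₀.2.1, fun Q hQ h2 hTQ => hT₀.2.2 Q (hQ.trans hYH) h2 hTQ⟩
  have hcY : Y ⊓ centralizer (o2 Y : Set G) ≤ o2 Y := by
    have h4 : o2 H ≤ o2 Y :=
      le_o2 (isPGroup_o2 H) ((o2_le_syl hT₀).trans hYm.le) (hYH.trans (le_normalizer_o2 H))
    rintro x ⟨hx, hxc⟩
    exact h4 (hc ⟨hYH hx, centralizer_le (by exact_mod_cast h4) hxc⟩)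
  have hKT : lev (S : Subgroup G) (n + 1) ≤ T₀ := (lb S n).KB.trans hBT₀
  have hfix : LevD.FixPt (lev (S : Subgroup G) (n + 1)) T₀ Y := LevD.fixPt S hTY hKT hYm
  have hVY : zl (S : Subgroup G) P ≤ o2 Y := V_le_o2 h hT₀.2.1 hBT₀ hYm.le hYc
  -- `Y₁ = O²(Y) O₂(Y) B`
  set Y₁ : Subgroup G := oddGen Y ⊔ (o2 Y ⊔ BL (S : Subgroup G) n) with hY₁
  have hY₁Y : Y₁ ≤ Y := sup_le (oddGen_le Y) (sup_le (o2_le Y) (hBT₀.trans hYm.le))
  have hOB : IsPGroup 2 (o2 Y ⊔ BL (S : Subgroup G) n : Subgroup G) :=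
    hT₀.2.1.to_le (sup_le (o2_le_syl hTY) hBT₀)
  obtain ⟨T, hT, hOT⟩ := exists_syl hOB (le_sup_right : o2 Y ⊔ BL (S : Subgroup G) n ≤ Y₁)
  have hY₁M : ¬ Y₁ ≤ M := by
    intro hle
    apply hYM
    rw [← Dich.oddGen_sup_syl hTY]
    exact sup_le (le_sup_left.trans hle) hTM
  obtain ⟨F, hF⟩ := (Set.toFinite {K : Subgroup G | T ≤ K ∧ K ≤ Y₁ ∧ ¬ K ≤ M}).exists_minimal
    ⟨Y₁, hT.1, le_rfl, hY₁M⟩
  obtain ⟨hTF, hFY₁, hFM⟩ := hF.prop
  have hFY : F ≤ Y := hFY₁.trans hY₁Y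
  have hsyl : Syl T F := ⟨hTF, hT.2.1, fun Q hQ h2 hle => hT.2.2 Q (hQ.trans hFY₁) h2 hle⟩
  have hBT : BL (S : Subgroup G) n ≤ T := le_sup_right.trans hOT
  have hOF : o2 Y ≤ o2 F :=
    le_o2 (isPGroup_o2 Y) ((le_sup_left.trans hOT).trans hTF) (hFY.trans (le_normalizer_o2 Y))
  refine ⟨T, F, ⟨hsyl, hBT, hFM, fun K hTK hKF => ?_, hVY.trans hOF, ?_⟩, hFY⟩
  · by_contra hKM
    exact hKF.not_ge (hF.le_of_le ⟨hTK, hKF.le.trans hFY₁, hKM⟩ hKF.le)
  · rintro z ⟨hz, hzc⟩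
    have hzB : z ∈ BL (S : Subgroup G) n := (lb S n).ZB hz
    have hzO : ∀ y ∈ o2 Y, y * z = z * y := fun y hy => mem_centralizer_iff.1 hzc y (hOF hy)
    have hz1 : z ∈ zc (o2 Y) := by
      refine mem_zc.2 ⟨hcY ⟨hYm.le (hBT₀ hzB), mem_centralizer_iff.2 hzO⟩, (lb S n).sq z hz, hzO⟩
    have hz2 : z ∈ centralizer (oddGen Y : Set G) := hfix hYK hYc hz1
    have hle : Y₁ ≤ centralizer ({z} : Set G) := by
      refine sup_le (fun y hy => ?_) (sup_le (fun y hy => ?_) fun y hy => ?_) <;>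
        rw [mem_centralizer_singleton_iff]
      · exact mem_centralizer_iff.1 hz2 y hy
      · exact hzO y hy
      · exact (mem_centralizer_iff.1 ((lb S n).Bc hy) z hz).symm
    rw [mem_centralizer_iff]
    intro y hy
    exact mem_centralizer_singleton_iff.1 (hle (hFY₁ hy))

/-! ### The choice of `C₀` -/

/-- `X = Ω₁(Z(T))` for a 2-group `T ≥ B`, `C_G(X) ≰ N_G(Z_J)`. -/
def Bad (S : Sylow 2 G) (n : ℕ) (X : Subgroup G) : Prop :=
  ¬ centralizer (X : Set G) ≤ normalizer (ZL (S : Subgroup G) n : Set G) ∧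
    ∃ T : Subgroup G, IsPGroup 2 T ∧ BL (S : Subgroup G) n ≤ T ∧ X = zc T

/-- `C₀ = Ω₁(Z(T₀))` maximal bad, `T₀` a Sylow 2-subgroup of `C_G(C₀)`. -/
structure MaxC (S : Sylow 2 G) (n : ℕ) (C₀ T₀ : Subgroup G) : Prop where
  not : ¬ centralizer (C₀ : Set G) ≤ normalizer (ZL (S : Subgroup G) n : Set G)
  syl : Syl T₀ (centralizer (C₀ : Set G))
  BT : BL (S : Subgroup G) n ≤ T₀
  eq : C₀ = zc T₀
  max : ∀ X, Bad S n X → C₀ ≤ X → X ≤ C₀

theorem MaxC.le {C₀ T₀ : Subgroup G} (m : MaxC S n C₀ T₀) : C₀ ≤ ZL (S : Subgroup G) n :=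
  m.eq.le.trans (zc_le_ZL S m.syl.2.1 m.BT)

theorem exists_maxC (S : Sylow 2 G) {n : ℕ} {X : Subgroup G} (hX : Bad S n X) :
    ∃ C₀ T₀ : Subgroup G, MaxC S n C₀ T₀ := by
  obtain ⟨C₀, hC⟩ := (Set.toFinite {X : Subgroup G | Bad S n X}).exists_maximal ⟨X, hX⟩
  obtain ⟨hn, T, hT, hBT, e⟩ := hC.prop
  have hTc : T ≤ centralizer (C₀ : Set G) := by
    rw [e]
    exact le_centralizer_zc T
  obtain ⟨T₀, hT₀, hTT₀⟩ := exists_syl hT hTc
  refine ⟨C₀, T₀, hn, hT₀, hBT.trans hTT₀, le_antisymm ?_ ?_, fun X hX hle => hC.le_of_ge hX hle⟩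
  · intro z hz
    have h1 : z ∈ zc T := e ▸ hz
    obtain ⟨h2, h3, -⟩ := mem_zc.1 h1
    exact mem_zc.2 ⟨hTT₀ h2, h3, fun t ht => (mem_centralizer_iff.1 (hT₀.1 ht) z hz).symm⟩
  · intro z hz
    rw [e]
    have h1 : z ∈ ZL (S : Subgroup G) n := zc_le_ZL S hT₀.2.1 (hBT.trans hTT₀) hz
    obtain ⟨-, h3, h4⟩ := mem_zc.1 hz
    exact mem_zc.2 ⟨hBT ((lb S n).ZB h1), h3, fun t ht => h4 t (hTT₀ ht)⟩

/-- the element with full support -/
theorem MaxC.full (h : Ln S P n L W Z C A 2) {C₀ T₀ : Subgroup G} (m : MaxC S n C₀ T₀) :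
    ∃ η ∈ C₀, ∀ i, η ∉ C i := by
  obtain ⟨η, hη, hs⟩ := exists_supp h Set.univ
  have hs' : ∀ i, η ∉ C i := fun i hi => (hs i).1 hi (Set.mem_univ i)
  refine ⟨η, ?_, hs'⟩
  rw [m.eq]
  refine mem_zc.2 ⟨m.BT ((lb S n).ZB hη), (lb S n).sq η hη, fun t ht => ?_⟩
  exact comm_of_supp h ((lb S n).two_le m.syl.2.1 m.BT ht) hη fun i j _ =>
    ⟨fun hi => absurd hi (hs' i), fun hj => absurd hj (hs' j)⟩

/-- (MAX) -/
theorem MaxC.cent (h : Ln S P n L W Z C A 2) {C₀ T₀ : Subgroup G} (m : MaxC S n C₀ T₀)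
    [Nonempty ι] {X : Subgroup G} (hX : X ≤ ZL (S : Subgroup G) n) (hCX : C₀ ≤ X) (hne : ¬ X ≤ C₀) :
    centralizer (X : Set G) ≤ normalizer (ZL (S : Subgroup G) n : Set G) := by
  by_contra hcon
  obtain ⟨η, hη, hηC⟩ := m.full h
  have hη1 : η ≠ 1 := by
    rintro rfl
    exact hηC (Classical.arbitrary ι) (one_mem _)
  have hX1 : X ≠ ⊥ := by
    rintro rfl
    exact hη1 (mem_bot.1 (hCX hη))
  have hS2 : IsPGroup 2 (ZL (S : Subgroup G) n) := (lb S n).Bp.to_le (lb S n).ZB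
  have hBX : BL (S : Subgroup G) n ≤ centralizer (X : Set G) :=
    (lb S n).Bc.trans (centralizer_le (by exact_mod_cast hX))
  have hc := char2_cent h.hyp.ctx.char2 (hS2.to_le hX) hX1
  obtain ⟨T₁, hT₁, hBT₁⟩ := exists_syl (lb S n).Bp hBX
  obtain ⟨Y, hY, hYH, hYM, hYJ⟩ := exists_par S hT₁ hBT₁ hcon
  have hYη : ∀ y ∈ Y, y * η = η * y := fun y hy => (mem_centralizer_iff.1 (hYH hy) η (hCX hη)).symm
  by_cases hYc : Y ≤ centralizer (zc T₁ : Set G)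
  · -- a larger bad group
    have hXz : X ≤ zc T₁ := by
      intro z hz
      exact mem_zc.2 ⟨hBT₁ ((lb S n).ZB (hX hz)), (lb S n).sq z (hX hz), fun t ht =>
        (mem_centralizer_iff.1 (hT₁.1 ht) z hz).symm⟩
    have h1 : Bad S n (zc T₁) := ⟨fun hle => hYM (hYc.trans hle), T₁, hT₁.2.1, hBT₁, rfl⟩
    exact hne (hXz.trans (m.max _ h1 (hCX.trans hXz)))
  · have hTY : Syl T₁ Y := ⟨hY.le, hT₁.2.1, fun Q hQ h2 hTQ => hT₁.2.2 Q (hQ.trans hYH) h2 hTQ⟩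
    have hcY : Y ⊓ centralizer (o2 Y : Set G) ≤ o2 Y := by
      have h4 : o2 (centralizer (X : Set G)) ≤ o2 Y :=
        le_o2 (isPGroup_o2 _) ((o2_le_syl hT₁).trans hY.le) (hYH.trans (le_normalizer_o2 _))
      rintro x ⟨hx, hxc⟩
      exact h4 (hc ⟨hYH hx, centralizer_le (by exact_mod_cast h4) hxc⟩)
    have hK := low_full h hTY hBT₁ hY hcY hYc (hX (hCX hη)) hηC hYη
    obtain ⟨L', V', hL'Y, hF, -⟩ := LevB.exists_fblk S hTY hBT₁ hY hcY hK hYJ hYc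
    exact no_blk h hF (hX (hCX hη)) hηC fun l hl => hYη l (hL'Y hl)

/-- **(b)** -/
theorem MaxC.mem (h : Ln S P n L W Z C A 2) {C₀ T₀ : Subgroup G} (m : MaxC S n C₀ T₀)
    [Nonempty ι] {f x : G} (hf : f ∈ centralizer (C₀ : Set G)) (hx : x ∈ ZL (S : Subgroup G) n)
    (hx0 : x ∉ C₀) (hfx : f⁻¹ * x * f ∈ ZL (S : Subgroup G) n) :
    f ∈ normalizer (ZL (S : Subgroup G) n : Set G) := by
  set X : Subgroup G := ZL (S : Subgroup G) n ⊓ cj f (ZL (S : Subgroup G) n) with hX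
  have hCX : C₀ ≤ X := by
    refine le_inf m.le fun c hc => ?_
    rw [mem_cj]
    have h1 := mem_centralizer_iff.1 hf c hc
    have e : f⁻¹ * c * f = c := by rw [mul_assoc, h1]; group
    rw [e]
    exact m.le hc
  have h1 := m.cent h (X := X) inf_le_left hCX fun hle => hx0 (hle (mem_inf.2 ⟨hx, mem_cj.2 hfx⟩))
  apply mem_of_cj S
  refine le_trans ?_ h1
  have h2 : cj f (BL (S : Subgroup G) n) ≤
      centralizer ((cj f (ZL (S : Subgroup G) n) : Subgroup G) : Set G) := by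
    rw [← cj_centralizer]
    exact cj_mono f (lb S n).Bc
  exact h2.trans (centralizer_le (by exact_mod_cast (inf_le_right : X ≤ _)))

end line

end Cfsg.Agent.Omega.OM.YTwo.Lv

end

section


/-!
# THEOREM Y2 (helper743 #22591) at the levels `n ≥ 0`: the end

`exists_sit` : a maximal bad group `C₀` gives `SitF`; `cent_zc_le` : **`C_G(Ω₁(Z(T))) ≤ N_G(Z_J)`** for every
2-group `T ≥ B`, `Z_J = Ω₁Z(lev S (n+1))`, `B = C_S(Z_J)`, `q = 2`.
-/

set_option autoImplicit false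
set_option linter.unusedSectionVars false

namespace Cfsg.Agent.Omega.OM.YTwo.Lv

open Subgroup Cfsg Cfsg.Agent.ZN.ChoiceBase Cfsg.Agent.ZN.ChoiceSit
open Cfsg.Agent.ZN (jj zj bau zc zl o2)
open Cfsg.Agent.MinSimple.MinParabolic (IsMinPar)
open Cfsg.Agent.Omega.NO3S.Level (lev lev_isLev)
open Cfsg.Agent.Omega.OM.SwapL
open Cfsg.Agent.Omega.OM.Swap (char2_cent)
open Cfsg.Agent.Omega.OM.Swap.Fam (Fm SitF)
open Cfsg.Agent.Omega.NO3S.EThree.Frame (Bg)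

universe u

variable {G : Type u} [Group G] [Finite G]

section bg

variable {ι : Type} [Finite ι] {S : Sylow 2 G} {P : Subgroup G} {n : ℕ} {L W Z C A : ι → Subgroup G}

/-- natural modules: `L i` normalises all `W j`. -/
theorem cj_L_W (h : Ln S P n L W Z C A 2) (hb : Bg S P (BL (S : Subgroup G) n) (ZL (S : Subgroup G) n) L W Z C 2)
    {i j : ι} {l : G} (hl : l ∈ L i) : cj l (W j) = W j := by
  by_cases hij : i = j
  · subst hij
    refine Subgroup.eq_of_le_of_card_ge ?_ (by rw [card_cj])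
    rintro _ ⟨w, hw, rfl⟩
    exact (h.fr.blk i).nV l hl w hw
  · obtain ⟨σ, hσ⟩ := hb.perm l (hb.LP i hl)
    have h1 := (hσ j).1
    obtain ⟨z, hz, hz1⟩ := SwapL.Z_ne h j
    have h2 : l * z = z * l := h.fr.LC i l hl z (h.fr.Z_le j hz) (SwapL.Z_C h hij hz)
    have h3 : z ∈ W (σ j) := by
      rw [← h1, mem_cj]
      have e : l⁻¹ * z * l = z := by rw [mul_assoc, ← h2, inv_mul_cancel_left]
      rw [e]
      exact SwapL.Z_W h j hz
    have h4 : σ j = j := by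
      by_contra hne
      have h5 : z ∈ W (σ j) ⊓ W j := mem_inf.2 ⟨h3, SwapL.Z_W h j hz⟩
      rw [hb.W_disj hne, mem_bot] at h5
      exact hz1 h5
    rwa [h4] at h1

/-- **(0.2)** a nontrivial element of `∏_{j ∈ r} W j` conjugate into `Z a` lies in some `W j`. -/
theorem wt (h : Ln S P n L W Z C A 2) (hb : Bg S P (BL (S : Subgroup G) n) (ZL (S : Subgroup G) n) L W Z C 2)
    {r : Set ι} {y g : G} {a : ι} (hy : y ∈ ⨆ j ∈ r, W j)
    (hy1 : y ≠ 1) (hg : g⁻¹ * y * g ∈ Z a) : ∃ j ∈ r, y ∈ W j := by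
  obtain ⟨k, hk, hx⟩ := SwapL.conj_ZJ h.fr r hy
  have hxJ : k * y * k⁻¹ ∈ ZL (S : Subgroup G) n :=
    (iSup₂_le fun i _ => h.fr.Z_le i : (⨆ i ∈ r, Z i) ≤ ZL (S : Subgroup G) n) hx
  have h1 : (k * g)⁻¹ * (k * y * k⁻¹) * (k * g) ∈ Z a := by
    have e : (k * g)⁻¹ * (k * y * k⁻¹) * (k * g) = g⁻¹ * y * g := by group
    rwa [e]
  obtain ⟨j, hj⟩ := hb.fus hxJ h1
  have hkn : k ∈ normalizer (W j : Set G) :=
    (iSup₂_le fun i _ l hl => mem_normalizer_iff_cj.2 (cj_L_W h hb hl) :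
      (⨆ i ∈ r, L i) ≤ normalizer (W j : Set G)) hk
  refine ⟨j, ?_, ?_⟩
  · by_contra hjr
    have h2 : (⨆ i ∈ r, Z i) ≤ C j := iSup₂_le fun i hi =>
      SwapL.Z_C h (fun e => hjr (e ▸ hi))
    have h3 : k * y * k⁻¹ ∈ W j ⊓ C j := mem_inf.2 ⟨SwapL.Z_W h j hj, h2 hx⟩
    rw [h.fr.dir j, mem_bot] at h3
    exact hy1 (conj_eq_one_iff.1 h3)
  · exact (mem_normalizer_iff.1 hkn y).2 (SwapL.Z_W h j hj)

/-- An element of `O₂(F)` inducing the transvection on `W i`. -/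
theorem exists_tv (h : Ln S P n L W Z C A 2) {F T : Subgroup G} (hT : Syl T F)
    (hB : BL (S : Subgroup G) n ≤ T) {i i' : ι} (hne : i ≠ i') {s : G} (hs : s ∈ o2 F) (e : cj s (W i') = W i)
    {z : G} (hz : z ∈ Z i) (hz1 : z ≠ 1) :
    ∃ u ∈ o2 F, ∀ x ∈ W i, x ∉ Z i → u * x * u⁻¹ = x * z := by
  have h2 := h.fr.Ane i
  push Not at h2
  obtain ⟨a, ha, v, hv, hav⟩ := h2
  have haB := h.fr.AB i ha
  have haF : a ∈ F := hT.1 (hB haB)
  have hO : ∀ x ∈ o2 F, a * x * a⁻¹ ∈ o2 F := fun x hx =>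
    (mem_normalizer_iff.1 (le_normalizer_o2 F haF) x).1 hx
  refine ⟨s * (a * s⁻¹ * a⁻¹), mul_mem hs (hO _ (inv_mem hs)), fun x hx hxZ => ?_⟩
  -- `y = a⁻¹ x a = x z`
  have h3 : a⁻¹ * x * a⁻¹⁻¹ = x * z := by
    rcases SwapL.act h.fr hz hz1 (inv_mem haB) hx with h4 | h4
    · exfalso
      apply hav
      refine (h.fr.blk i).free a haB x hx hxZ ?_ v hv
      have h5 : a * (a⁻¹ * x * a⁻¹⁻¹) = a * x := by rw [h4]
      have e5 : a * (a⁻¹ * x * a⁻¹⁻¹) = x * a := by group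
      exact h5.symm.trans e5
    · exact h4
  have hyW : x * z ∈ W i := mul_mem hx ((h.fr.blk i).ZV hz)
  have h6 : s⁻¹ * (x * z) * s ∈ W i' := by
    rw [← mem_cj, e]
    exact hyW
  have h7 := h.fr.AC i a ha _ (h.fr.WjC i i' hne h6)
  have e8 : s * (a * s⁻¹ * a⁻¹) * x * (s * (a * s⁻¹ * a⁻¹))⁻¹ =
      s * (a * (s⁻¹ * (a⁻¹ * x * a⁻¹⁻¹) * s)) * a⁻¹ * s⁻¹ := by group
  rw [e8, h3, h7]
  group

/-- **A maximal bad group gives the situation of THEOREM SW.** -/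
theorem exists_sit (h : Ln S P n L W Z C A 2) (hb : Bg S P (BL (S : Subgroup G) n) (ZL (S : Subgroup G) n) L W Z C 2)
    [Nonempty ι] {C₀ T₀ : Subgroup G} (m : MaxC S n C₀ T₀) :
    ∃ (T F F₀ : Subgroup G) (𝓐 : Set (Subgroup G)) (κ : Type) (V : κ → Subgroup G) (z : κ → G),
      SitF F T F₀ 𝓐 V z := by
  classical
  have hC1 : C₀ ≠ ⊥ := by
    rintro rfl
    obtain ⟨η, hη, hηC⟩ := m.full h
    rw [mem_bot] at hη
    exact hηC (Classical.arbitrary ι) (hη ▸ one_mem _)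
  have hS2 : IsPGroup 2 (ZL (S : Subgroup G) n) := (lb S n).Bp.to_le (lb S n).ZB
  have hc := char2_cent h.hyp.ctx.char2 (hS2.to_le m.le) hC1
  obtain ⟨Y, hY, hYH, hYM, hYJ⟩ := exists_par S m.syl m.BT m.not
  have hYc : Y ≤ centralizer (zc T₀ : Set G) := by
    have := m.eq
    rw [← this]
    exact hYH
  obtain ⟨T, F, hp, hFY⟩ := exists_pair_of h (norm_BL S n) m.syl m.BT hc hY hYH hYJ hYc hYM
  have hFC : F ≤ centralizer (C₀ : Set G) := hFY.trans hYH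
  have hTN : T ≤ normalizer (BL (S : Subgroup G) n : Set G) := (lb S n).two_le hp.syl.2.1 hp.BT
  have hTM : T ≤ normalizer (ZL (S : Subgroup G) n : Set G) := hTN.trans (norm_BL S n)
  have hO : o2 F ≤ T := o2_le_syl hp.syl
  have hON : o2 F ≤ normalizer (BL (S : Subgroup G) n : Set G) := hO.trans hTN
  have hTF : T ≤ F := hp.syl.1
  obtain ⟨𝓐, hfam, hnJ, hA⟩ := exists_fam h hp (centralizer_le_normalizer _) hTM le_rfl
  choose z hz hz1 using SwapL.Z_ne h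
  -- an index moved by `O₂(F)`
  obtain ⟨i₀, o₀, ho₀, hmv⟩ : ∃ i, ∃ o ∈ o2 F, cj o (Z i) ≠ Z i := by
    by_contra hcon
    push Not at hcon
    apply hp.nM
    have h1 : ZL (S : Subgroup G) n ≤ centralizer (F : Set G) := by
      intro x hx
      refine hp.fix ⟨hx, mem_centralizer_iff.2 fun o ho => ?_⟩
      refine comm_of_supp h (hON ho) hx fun i j e => ?_
      rw [hcon i o ho] at e
      rw [SwapL.Z_inj h e]
    exact (le_centralizer_iff.1 h1).trans (centralizer_le_normalizer _)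
  -- its orbit
  set r : Set ι := {j | ∃ o ∈ o2 F, cj o (Z i₀) = Z j} with hr
  have hrO : ∀ o ∈ o2 F, ∀ i j, cj o (Z i) = Z j → (i ∈ r ↔ j ∈ r) := by
    intro o ho i j e
    constructor
    · rintro ⟨o', ho', e'⟩
      exact ⟨o * o', mul_mem ho ho', cj_mul_eq e' e⟩
    · rintro ⟨o', ho', e'⟩
      exact ⟨o⁻¹ * o', mul_mem (inv_mem ho) ho', cj_mul_eq e' (cj_inv_eq e)⟩
  have hi₀ : i₀ ∈ r := ⟨1, one_mem _, cj_one _⟩
  obtain ⟨j₀, hj₀, -⟩ := SwapL.perm h (hON ho₀) i₀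
  have hj₀r : j₀ ∈ r := ⟨o₀, ho₀, hj₀⟩
  have hne₀ : i₀ ≠ j₀ := by
    rintro rfl
    exact hmv hj₀
  have htr : ∀ i ∈ r, ∀ j ∈ r, ∃ o ∈ o2 F, cj o (W i) = W j := by
    rintro i ⟨o, ho, e⟩ j ⟨o', ho', e'⟩
    refine ⟨o' * o⁻¹, mul_mem ho' (inv_mem ho), ?_⟩
    exact SwapL.W_cj h (hON (mul_mem ho' (inv_mem ho))) (cj_mul_eq (cj_inv_eq e) e')
  -- elements of `Z_J` with support `r` are centralised by `F`
  have hsuppF : ∀ x ∈ ZL (S : Subgroup G) n, (∀ i, x ∈ C i ↔ i ∉ r) → ∀ f ∈ F, f * x = x * f := by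
    intro x hx hxs f hf
    refine mem_centralizer_iff.1 (hp.fix ⟨hx, mem_centralizer_iff.2 fun o ho => ?_⟩) f hf
    refine comm_of_supp h (hON ho) hx fun i j e => ?_
    rw [hxs i, hxs j, hrO o ho i j e]
  obtain ⟨xr, hxr, hxrs⟩ := SwapL.exists_supp h r
  -- `T` stabilises `r`
  have hrT : ∀ t ∈ T, ∀ i j, cj t (Z i) = Z j → i ∈ r → j ∈ r := by
    intro t ht i j e hi
    by_contra hj
    have h1 := (SwapL.supp_cj h (hTN ht) e hxr).1
    have h2 := hsuppF xr hxr hxrs t (hTF ht)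
    have h3 : t * xr * t⁻¹ = xr := by rw [h2]; group
    rw [h3] at h1
    exact (hxrs i).1 (h1 ((hxrs j).2 hj)) hi
  -- `z i ∉ C₀`
  have hnC : ∀ i ∈ r, z i ∉ C₀ := by
    rintro i ⟨o, ho, e⟩ hi
    have hgO : o * o₀ * o⁻¹ ∈ o2 F := mul_mem (mul_mem ho ho₀) (inv_mem ho)
    have h1 : o * o₀ * o⁻¹ * z i = z i * (o * o₀ * o⁻¹) :=
      (mem_centralizer_iff.1 (hFC (o2_le F hgO)) (z i) hi).symm
    obtain ⟨k, hk, -, -⟩ := SwapL.perm h (hON hgO) i
    have h2 := SwapL.conj_gen h hk (hz i) (hz1 i) (hz k) (hz1 k)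
    have h3 : o * o₀ * o⁻¹ * z i * (o * o₀ * o⁻¹)⁻¹ = z i := by rw [h1]; group
    have h4 : i = k := by
      by_contra hne
      refine hz1 i (SwapL.Z_inf h.fr hne (hz i) ?_)
      have h5 : z i = z k := h3.symm.trans h2
      rw [h5]
      exact hz k
    apply hmv
    rw [← h4] at hk
    have h5 : cj o⁻¹ (cj (o * o₀ * o⁻¹) (cj o (Z i₀))) = cj o⁻¹ (cj o (Z i₀)) := by rw [e, hk]
    rw [cj_cj, cj_cj, cj_inv_cj] at h5
    have e2 : o⁻¹ * (o * o₀ * o⁻¹ * o) = o₀ := by group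
    have e3 : o⁻¹ * (o * o₀ * o⁻¹) * o = o₀ := by group
    first
      | rwa [e2] at h5
      | rwa [e3] at h5
  -- `T` normalises `U = ∏_{j ∈ r} W j`
  have hUT : ∀ t ∈ T, ∀ x ∈ (⨆ j ∈ r, W j), t * x * t⁻¹ ∈ (⨆ j ∈ r, W j) := by
    intro t ht x hx
    have h1 : (⨆ j ∈ r, W j) ≤ (⨆ j ∈ r, W j).comap (MulAut.conj t).toMonoidHom := by
      refine iSup₂_le fun j hj w hw => ?_
      show t * w * t⁻¹ ∈ ⨆ j ∈ r, W j
      obtain ⟨k, hk, hkW, -⟩ := SwapL.perm h (hTN ht) j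
      have h2 : t * w * t⁻¹ ∈ W k := by
        rw [← hkW]
        exact ⟨w, hw, rfl⟩
      exact (le_iSup₂_of_le (f := fun j (_ : j ∈ r) => W j) k (hrT t ht j k hk hj) le_rfl) h2
    exact h1 hx
  -- transvections in `O₂(F)`
  have htv : ∀ i ∈ r, ∃ u ∈ o2 F, ∀ x ∈ W i, x ∉ Z i → u * x * u⁻¹ = x * z i := by
    intro i hi
    obtain ⟨i', hi', hne⟩ : ∃ i' ∈ r, i ≠ i' := by
      by_cases h1 : i = i₀
      · exact ⟨j₀, hj₀r, h1 ▸ hne₀⟩
      · exact ⟨i₀, hi₀, h1⟩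
    obtain ⟨s, hs, e⟩ := htr i' hi' i hi
    exact exists_tv h hp.syl hp.BT hne hs e (hz i) (hz1 i)
  -- (TI)
  have hti : ∀ i ∈ r, ∀ x ∈ W i, x ≠ 1 → ∀ f ∈ F, x ∈ cj f (⨆ j ∈ r, W j) →
      f ∈ normalizer (ZL (S : Subgroup G) n : Set G) := by
    intro i hi x hx hx1 f hf hxf
    rw [mem_cj] at hxf
    have hfO : ∀ o ∈ o2 F, f * o * f⁻¹ ∈ o2 F := fun o ho =>
      (mem_normalizer_iff.1 (le_normalizer_o2 F hf) o).1 ho
    have hfO' : ∀ o ∈ o2 F, f⁻¹ * o * f ∈ o2 F := fun o ho => by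
      have h1 := (mem_normalizer_iff.1 (le_normalizer_o2 F (inv_mem hf)) o).1 ho
      rwa [inv_inv] at h1
    -- `z_i ∈ U^f`
    have hzi : f⁻¹ * z i * f ∈ (⨆ j ∈ r, W j) := by
      by_cases hxZ : x ∈ Z i
      · have e := SwapL.Z_eq h hxZ (hz i) hx1 (hz1 i)
        rwa [← e]
      · obtain ⟨u, hu, hux⟩ := htv i hi
        have h1 := hux x hx hxZ
        have h2 := hUT (f⁻¹ * u * f) (hO (hfO' u hu)) _ hxf
        have h3 := mul_mem (inv_mem hxf) h2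
        have e : (f⁻¹ * x * f)⁻¹ * (f⁻¹ * u * f * (f⁻¹ * x * f) * (f⁻¹ * u * f)⁻¹) =
            f⁻¹ * (x⁻¹ * (u * x * u⁻¹)) * f := by group
        rw [e, h1] at h3
        have e2 : f⁻¹ * (x⁻¹ * (x * z i)) * f = f⁻¹ * z i * f := by group
        rwa [e2] at h3
    have hne : f⁻¹ * z i * f ≠ 1 := by
      intro h1
      apply hz1 i
      have e : z i = f * (f⁻¹ * z i * f) * f⁻¹ := by group
      rw [e, h1]; group
    obtain ⟨j, hj, hwj⟩ := wt h hb hzi hne (g := f⁻¹) (a := i) (by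
      have e : f⁻¹⁻¹ * (f⁻¹ * z i * f) * f⁻¹ = z i := by group
      rw [e]; exact hz i)
    by_cases hwZ : f⁻¹ * z i * f ∈ Z j
    · exact m.mem h (hFC hf) (h.fr.Z_le i (hz i)) (hnC i hi) (h.fr.Z_le j hwZ)
    exfalso
    obtain ⟨u, hu, huw⟩ := htv j hj
    have h1 := huw _ hwj hwZ
    have hv := hfO u hu
    obtain ⟨k, hk, -, -⟩ := SwapL.perm h (hON hv) i
    have h2 := SwapL.conj_gen h hk (hz i) (hz1 i) (hz k) (hz1 k)
    have h3 : z k = z i * (f * z j * f⁻¹) := by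
      have e : f * u * f⁻¹ * z i * (f * u * f⁻¹)⁻¹ = f * (u * (f⁻¹ * z i * f) * u⁻¹) * f⁻¹ := by group
      rw [e, h1] at h2
      rw [← h2]; group
    have hik : i ≠ k := by
      rintro rfl
      apply hz1 j
      have h4 : f * z j * f⁻¹ = 1 := by
        have := congrArg (fun t => (z i)⁻¹ * t) h3
        simpa using this.symm
      exact conj_eq_one_iff.1 h4
    have h5 : (z i)⁻¹ * z k ∈ ZL (S : Subgroup G) n :=
      mul_mem (inv_mem (h.fr.Z_le i (hz i))) (h.fr.Z_le k (hz k))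
    have h6 : f⁻¹ * ((z i)⁻¹ * z k) * f ∈ Z j := by
      have e : f⁻¹ * ((z i)⁻¹ * z k) * f = z j := by rw [h3]; group
      rw [e]; exact hz j
    obtain ⟨l, hl'⟩ := hb.fus h5 h6
    by_cases hli : l = i
    · subst hli
      have h7 : z k ∈ Z l := by
        have := mul_mem (hz l) hl'
        rwa [mul_inv_cancel_left] at this
      exact hz1 k (SwapL.Z_inf h.fr hik.symm (hz k) h7)
    · have h7 : (z i)⁻¹ * z k ∈ C i := SwapL.Z_C h (fun e => hli e.symm) hl'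
      have h8 : z k ∈ C i := SwapL.Z_C h hik (hz k)
      have h9 : (z i)⁻¹ ∈ C i := (Subgroup.mul_mem_cancel_right _ h8).1 h7
      exact SwapL.not_mem_C h (hz i) (hz1 i) (by simpa using inv_mem h9)
  have hsup : (⨆ j : r, W j) = ⨆ j ∈ r, W j := iSup_subtype' (f := fun j (_ : j ∈ r) => W j) |>.symm
  have hWV : ∀ i, W i ≤ zl (S : Subgroup G) P := h.fr.WV
  have hcomm : ∀ f ∈ F, ∀ x ∈ zl (S : Subgroup G) P, ∀ y ∈ zl (S : Subgroup G) P,
      x * (f * y * f⁻¹) = f * y * f⁻¹ * x := fun f hf x hx y hy => comm_of_pair h hp hf hx hy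
  -- `Λ = ⟨V^F⟩` is elementary abelian
  have hVel : IsElementaryAbelian 2 (NoFF.Basic.V (zl (S : Subgroup G) P) F) := by
    have h1 := Swap.elab_iSup (W := fun f : F => cj (f : G) (zl (S : Subgroup G) P)) (fun f f' x hx y hy => ?_)
      fun f x hx => ?_
    · exact Swap.elab_of h1.1 h1.2
    · rw [mem_cj] at hx hy
      have h2 := hcomm ((f : G)⁻¹ * f') (mul_mem (inv_mem f.2) f'.2) _ hx _ hy
      have e1 : (f : G)⁻¹ * f' * ((f' : G)⁻¹ * y * f') * ((f : G)⁻¹ * f')⁻¹ = (f : G)⁻¹ * y * f := by group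
      rw [e1] at h2
      have h3 := congrArg (fun t => (f : G) * t * (f : G)⁻¹) h2
      have e2 : (f : G) * ((f : G)⁻¹ * x * f * ((f : G)⁻¹ * y * f)) * (f : G)⁻¹ = x * y := by group
      have e3 : (f : G) * ((f : G)⁻¹ * y * f * ((f : G)⁻¹ * x * f)) * (f : G)⁻¹ = y * x := by group
      exact e2.symm.trans (h3.trans e3)
    · rw [mem_cj] at hx
      have h2 := SQ1.Bau.elem_sq h.fr.el _ hx
      rw [pow_two] at h2
      have e : x * x = f * ((f : G)⁻¹ * x * f * ((f : G)⁻¹ * x * f)) * (f : G)⁻¹ := by group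
      rw [e, h2]; group
  have hUV : (⨆ j : r, W j) ≤ zl (S : Subgroup G) P := iSup_le fun j => hWV j
  have hLV : NoFF.Basic.V (⨆ j : r, W j) F ≤ NoFF.Basic.V (zl (S : Subgroup G) P) F :=
    NoFF.Basic.V_le fun f hf => (cj_mono f hUV).trans (NoFF.Basic.Z_le_V hf)
  have hUF : (⨆ j : r, W j) ≤ F := hUV.trans (hp.VO.trans (o2_le F))
  refine ⟨T, F, F ⊓ normalizer (ZL (S : Subgroup G) n : Set G), 𝓐, r, fun i => W i, fun i => z i, ?_⟩
  refine
    { syl := hp.syl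
      TF₀ := le_inf hTF hTM
      F₀F := lt_of_le_of_ne inf_le_left fun e => hp.nM (inf_eq_left.1 e)
      max := fun K hTK hKF => le_inf hKF.le (hp.min K hTK hKF)
      fam := hfam _ (Swap.elab_mono hVel hLV) ?_ OmThm.XD.X_le_normalizer_W hLV
      nJ := hnJ
      fin := inferInstance
      two := ⟨⟨i₀, hi₀⟩, ⟨j₀, hj₀r⟩, fun e => hne₀ (congrArg Subtype.val e)⟩
      card := fun i => by rw [(h.fr.blk i).card, h.fr.cardZ]
      zV := fun i => SwapL.Z_W h _ (hz i)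
      z1 := fun i => hz1 i
      VO := fun i => (hWV i).trans hp.VO
      sq := fun i x hx => by
        rw [← pow_two]
        exact SQ1.Bau.elem_sq h.fr.el x (hWV i hx)
      comm := fun f hf i j x hx y hy => comm_of_pair h hp hf (hWV i hx) (hWV j hy)
      ind := ?_
      perm := ?_
      tr := ?_
      nor := ?_
      hat := ?_
      mov := ?_
      zc := ?_
      ti := ?_ }
  · refine NoFF.Basic.V_le fun f hf => ?_
    have := cj_mono f hUF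
    rwa [cj_eq_of_mem_normalizer (le_normalizer hf)] at this
  · rintro ⟨i, hi⟩ x hx hx'
    have h1 : (⨆ j : r, ⨆ _ : j ≠ ⟨i, hi⟩, W j) ≤ C i := by
      refine iSup_le fun j => iSup_le fun hj => ?_
      exact h.fr.WjC i j fun e => hj (Subtype.ext e.symm)
    have h2 : x ∈ W i ⊓ C i := mem_inf.2 ⟨hx, h1 hx'⟩
    rwa [h.fr.dir i, mem_bot] at h2
  · rintro t ht ⟨i, hi⟩
    obtain ⟨j, h1, h2, -⟩ := SwapL.perm h (hTN ht) i
    exact ⟨⟨j, hrT t ht i j h1 hi⟩, h2, SwapL.conj_gen h h1 (hz i) (hz1 i) (hz j) (hz1 j)⟩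
  · rintro ⟨i, hi⟩ ⟨j, hj⟩
    exact htr i hi j hj
  · rintro X hX hXT a ha ⟨i, hi⟩
    have hb := (hA X hX hXT).1 ha
    have key : ∀ b ∈ BL (S : Subgroup G) n, cj b (W i) ≤ W i := by
      rintro b hb _ ⟨w, hw, rfl⟩
      exact (h.fr.blk i).BV hb hw
    refine le_antisymm (key a hb) ?_
    have := cj_mono a (key a⁻¹ (inv_mem hb))
    rwa [cj_cj_inv] at this
  · rintro X hX hXT ⟨i, hi⟩ hmv'
    obtain ⟨hXB, h1 | hbest⟩ := hA X hX hXT
    · obtain ⟨a, ha, x, hx, hne⟩ := hmv'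
      exact absurd (h1 a ha x (hWV i hx)) hne
    · obtain ⟨a, ha, h1, h2⟩ := SwapL.hat h.fr hXB hbest hmv'
      exact ⟨a, ha, h1, fun j hj x hx => h2 j (fun e => hj (Subtype.ext e)) x hx⟩
  · rintro ⟨i, hi⟩
    have h2 := h.fr.Ane i
    push Not at h2
    obtain ⟨a, ha, v, hv, hne⟩ := h2
    refine ⟨a, hp.BT (h.fr.AB i ha), ⟨v, hv, hne⟩, fun j hj x hx => ?_⟩
    exact h.fr.AC i a ha x (h.fr.WjC i j (fun e => hj (Subtype.ext e.symm)) hx)
  · rintro ⟨i, hi⟩ ⟨j, hj⟩ hij hall f hf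
    have hij' : i ≠ j := fun e => hij (Subtype.ext e)
    have hall' : ∀ k ∈ r, k = i ∨ k = j := by
      intro k hk
      rcases hall ⟨k, hk⟩ with e | e
      · exact Or.inl (congrArg Subtype.val e)
      · exact Or.inr (congrArg Subtype.val e)
    refine hsuppF (z i * z j) (mul_mem (h.fr.Z_le i (hz i)) (h.fr.Z_le j (hz j))) (fun k => ?_) f hf
    by_cases hki : k = i
    · subst hki
      rw [Subgroup.mul_mem_cancel_right _ (SwapL.Z_C h hij' (hz j))]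
      exact ⟨fun h1 => absurd h1 (SwapL.not_mem_C h (hz k) (hz1 k)), fun h1 => absurd hi h1⟩
    · by_cases hkj : k = j
      · subst hkj
        rw [Subgroup.mul_mem_cancel_left _ (SwapL.Z_C h hki (hz i))]
        exact ⟨fun h1 => absurd h1 (SwapL.not_mem_C h (hz k) (hz1 k)), fun h1 => absurd hj h1⟩
      · refine ⟨fun _ hk => ?_, fun _ => mul_mem (SwapL.Z_C h hki (hz i)) (SwapL.Z_C h hkj (hz j))⟩
        rcases hall' k hk with e | e
        · exact hki e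
        · exact hkj e
  · rintro ⟨i, hi⟩ x hx hx1 f hf hxf
    rw [hsup] at hxf
    exact mem_inf.2 ⟨hf, hti i hi x hx hx1 f hf hxf⟩

/-- **THEOREM Y2** (stage `n ≥ 0`): `C_G(Ω₁(Z(T))) ≤ N_G(Z_J)` for every 2-group `T ≥ B`. -/
theorem cent_zc_le (hs : SitFFalse.{u}) (h : Ln S P n L W Z C A 2)
    (hb : Bg S P (BL (S : Subgroup G) n) (ZL (S : Subgroup G) n) L W Z C 2)
    {T : Subgroup G} (hT : IsPGroup 2 T) (hB : BL (S : Subgroup G) n ≤ T) :
    centralizer (zc T : Set G) ≤ normalizer (ZL (S : Subgroup G) n : Set G) := by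
  by_contra hcon
  rcases isEmpty_or_nonempty ι with hι | hι
  · have h1 : ZL (S : Subgroup G) n = ⊥ := by
      rw [eq_bot_iff]
      intro x hx
      exact mem_bot.2 (h.fr.C0 x (h.fr.ZJV hx) fun i => hι.elim i)
    apply hcon
    rw [h1, normalizer_eq_top]
    exact le_top
  obtain ⟨C₀, T₀, m⟩ := exists_maxC S ⟨hcon, T, hT, hB, rfl⟩
  obtain ⟨T, F, F₀, 𝓐, κ, V, z, hS⟩ := exists_sit h hb m
  exact hs G F T F₀ 𝓐 κ V z hS

end bg

end Cfsg.Agent.Omega.OM.YTwo.Lv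

end
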