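import Cfsg.Agent.Mrg.Omega.OM.Lev.Low.Push
import Cfsg.Agent.Mrg.Omega.OM.Lev.Low.TwoBlk


/-!
# (E) of helper109 #23071 over the residual frame: `⟨K, S⟩` is local
-/

set_option autoImplicit false
set_option linter.unusedSectionVars false

namespace Cfsg.Agent.Omega.OM.Lev.Low.TwoRes

open Subgroup Cfsg Cfsg.Agent.ZN Cfsg.Agent.ZN.ChoiceBase
open Cfsg.Agent.Omega.MinPar (IsLoc isLoc_of_le_normalizer)

universe u

variable {G : Type u} [Group G] [Finite G]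

namespace Res

variable {S : Sylow 2 G} {B B0 X M N1 D K c : Subgroup G} {z z1 z2 : G} (h : Res S B B0 X M N1 D K c z z1 z2)
include h

theorem S_norm_B0 : (S : Subgroup G) ≤ normalizer (B0 : Set G) := by
  intro s hs
  rw [mem_normalizer_iff_cj, h.B0eq, cj_inf, cj_centralizer, cj_eq_of_mem_normalizer (h.SX hs),
    cj_eq_of_mem_normalizer (le_normalizer hs)]

theorem M_sup : M ⊔ zc B0 = ⁅M, K⁆ ⊔ zc B0 := by
  apply le_antisymm
  · refine sup_le (fun v hv => ?_) le_sup_right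
    obtain ⟨u, hu, n, hn, rfl⟩ := h.pb.exists_V hv
    exact mul_mem (mem_sup_left hu) (mem_sup_right ((Push.line_iff h.pb (h.pb.N1N (h.pb.N01 hn))).1 (h.pb.N01 hn)))
  · exact sup_le_sup_right h.pb.VN _

theorem B_norm_V : B ≤ normalizer ((M ⊔ zc B0 : Subgroup G) : Set G) := by
  intro b hb
  have h1 : cj b ⁅M, K⁆ = ⁅M, K⁆ := cj_eq_of_mem_normalizer (h.BN hb)
  have h2 : cj b (zc B0) = zc B0 :=
    cj_eq_of_mem_normalizer (NO3S.Level.normalizer_le_zc B0 (h.S_norm_B0 (h.BS hb)))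
  rw [h.M_sup, mem_normalizer_iff_cj, show cj b (⁅M, K⁆ ⊔ zc B0) = cj b ⁅M, K⁆ ⊔ cj b (zc B0) from Subgroup.map_sup _ _ _,
    h1, h2]

/-- **(E)** : `⟨K, S⟩` is local. -/
theorem isLoc (hD : ∀ t ∈ (S : Subgroup G), t ∉ B → ¬ cj t ⁅(⁅M, K⁆ : Subgroup G), B0⁆ = ⁅(⁅M, K⁆ : Subgroup G), B0⁆) :
    IsLoc (S : Subgroup G) (K ⊔ (S : Subgroup G)) := by
  obtain ⟨R0, h1, h2, h3, h4⟩ := Push.exists_norm h.pb h.BS
    (fun a ha b hb hna hnb => h.idx _ (inv_mem ha) (fun h1 => hna (by simpa using inv_mem h1)) b hb hnb) h.B0B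
    h.S_norm_B0 h.B_norm_V (fun t ht htB hcon => hD t ht htB (by
      rw [h.pb.VB_eq]
      refine cj_eq_of_mem_normalizer (mem_normalizer_of_cj_le ?_)
      rintro _ ⟨x, hx, rfl⟩
      exact hcon x hx))
  exact isLoc_of_le_normalizer S le_sup_right (S.isPGroup'.to_le (h2.trans (h.B0B.trans h.BS))) h1 (sup_le h3 h4)

end Res

end Cfsg.Agent.Omega.OM.Lev.Low.TwoRes
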