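import Cfsg.Agent.Mrg.Omega.OM.Lev.Low.TwoBlk
import Cfsg.Agent.Mrg.Omega.TC.UniLev
import Cfsg.Agent.Mrg.Omega.OM.Lev.Low.Data
import Cfsg.Agent.Mrg.Omega.NO3S.OneLine.Abs
import Cfsg.Agent.Mrg.Omega.Half.Blocks
import Cfsg.Agent.Mrg.Omega.OM.Lev.Low.LowMain
import Cfsg.Agent.Mrg.Omega.SQ1.Choice
import Cfsg.Agent.ZN.ChoiceSit

section


/-!
# TORUS, `k = 2 = q` (helper109 #23071, (C), (D)): the torus element, the lines, `N_S([V, B₀]) = B`

* `exists_tor` : `TwoBlk.exists_one` with a torus element `τ ∈ K ∩ N(B)` and (LINE);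
* `line_c` : after the splitting `⁅V, K⁆ ∩ D = 1`: `c = ⁅V, K⁆ ∩ N₁ = [⁅V, K⁆, B]` and distinct `H`-conjugates of `c` meet
  trivially;
* `not_norm` : **(D)**.
-/

set_option autoImplicit false
set_option linter.unusedSectionVars false

namespace Cfsg.Agent.Omega.OM.Lev.Low.Two

open Subgroup Cfsg Cfsg.Agent.ZN Cfsg.Agent.ZN.ChoiceBase Cfsg.Agent.ZN.ChoiceSit
open Cfsg.Agent.Omega.NatPair (ap ap_zero' ap_one' ap_one ap_mul ext2 ap_inv_ap ap_inj)
open Cfsg.Agent.Lib.SL2Mat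
open Cfsg.Agent.Omega.SQ1.FFOne (MinH)
open Cfsg.Agent.Omega.NO3S.OneLine (NatC single_acts natC_of zc_elem)
open Cfsg.Agent.Omega.NO3S.OneLine.NatC (acts_mul acts_inv acts_one acts_unique)
open Cfsg.Agent.Omega.OM.Lev.Nat (Wn mem_Wn Xn mem_Xn ap_z exists_up)
open Cfsg.Agent.Omega.OM.GLev
open Cfsg.Agent.Omega.FFThm (NatK NatKM ActsSL)
open Cfsg.Agent.Omega.SQ1.Bau (elem_comm elem_sq Mv)
open Cfsg.Agent.Omega.FrameFF (cv)
open Cfsg.Agent.Omega.OM.Lev.Low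
open Cfsg.Agent.Omega.OM.Lev.Low.TwoBlk (exists_ldp norm_comm)
open scoped commutatorElement

universe u

variable {G : Type u} [Group G]

/-! ### (LINE) -/

section line

variable [Finite G] {F : Type} [Field F] [CharP F 2] {T H V D : Subgroup G} {k : ℕ} {M : NatC F T H V D k}

/-- an element of `H` which moves the `i`-th summand to the `m`-th and maps a nonzero vector of the line to the line
maps the line to the line -/
theorem line_of {y : G} (hy : y ∈ H) {i m : Fin k} (hm : MvI M y i m) {v : G} (hv : v ∈ Low.Li M i) (hvD : v ∉ D)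
    (h1 : M.nat.e (y * v * y⁻¹) m 1 = 0) {w : G} (hw : w ∈ V) (hw1 : M.nat.e w i 1 = 0) :
    M.nat.e (y * w * y⁻¹) m 1 = 0 := by
  classical
  obtain ⟨u, hu, hu1⟩ := M.nat.lift (Pi.mulSingle i (up 1))
  have hU : Ons M i u (up 1) := ⟨hu, hu1⟩
  obtain ⟨A', hA'⟩ := hU.conj hy hm
  have hyu : y * u * y⁻¹ ∈ H := hA'.1
  -- `A'` fixes the image of the line
  have key : ∀ x ∈ V, M.nat.e x i 1 = 0 → ap A' (M.nat.e (y * x * y⁻¹) m) = M.nat.e (y * x * y⁻¹) m := by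
    intro x hx hx1
    have hyx := M.Vn y hy x hx
    rw [← hA'.e_i hyx]
    have e : y * u * y⁻¹ * (y * x * y⁻¹) * (y * u * y⁻¹)⁻¹ = y * (u * x * u⁻¹) * y⁻¹ := by group
    have hux := M.Vn u hu x hx
    have h2 : M.nat.e (u * x * u⁻¹ * x⁻¹) i = 0 := by
      rw [M.map_div hux hx, Pi.sub_apply, hU.e_i hx]
      apply ext2
      · rw [Pi.sub_apply, ap_zero', hx1]; simp
      · rw [Pi.sub_apply, ap_one', hx1]; simp
    have h3 := (hm _ (mul_mem hux (inv_mem hx))).2 h2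
    have e2 : y * (u * x * u⁻¹ * x⁻¹) * y⁻¹ = y * (u * x * u⁻¹) * y⁻¹ * (y * x * y⁻¹)⁻¹ := by group
    rw [e2, M.map_div (M.Vn y hy _ hux) hyx, Pi.sub_apply, sub_eq_zero] at h3
    rw [e, h3]
  -- `A'` is upper unitriangular
  have hyv := M.Vn y hy v hv.1
  have hne : M.nat.e (y * v * y⁻¹) m 0 ≠ 0 := by
    intro h0
    apply hvD
    have h2 : M.nat.e v i = 0 := (hm v hv.1).1 (ext2 h0 h1)
    exact Li_D hv (by rw [h2]; rfl)
  have h2 := key v hv.1 hv.2.2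
  have h20 := congrFun h2 0
  have h21 := congrFun h2 1
  rw [ap_zero', h1, mul_zero, add_zero] at h20
  rw [ap_one', h1, mul_zero, add_zero] at h21
  have h10 : ent A' 1 0 = 0 := (mul_eq_zero.1 h21).resolve_right hne
  have h00 : ent A' 0 0 = 1 := mul_right_cancel₀ hne (by rw [h20, one_mul])
  have h01 : ent A' 0 1 ≠ 0 := by
    intro h01
    have h11 := det_eq A'
    rw [h10, h00, mul_zero, sub_zero, one_mul] at h11
    -- `y u y⁻¹` acts trivially on the `m`-th summand, `u` on the `i`-th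
    obtain ⟨x, hx, ex⟩ := exists_vec M i ![0, 1]
    have hyx := M.Vn y hy x hx.1
    have hux := M.Vn u hu x hx.1
    have h3 : M.nat.e (y * u * y⁻¹ * (y * x * y⁻¹) * (y * u * y⁻¹)⁻¹) m = M.nat.e (y * x * y⁻¹) m := by
      rw [hA'.e_i hyx]
      apply ext2
      · rw [ap_zero', h00, h01]; simp
      · rw [ap_one', h10, h11]; simp
    have e : y * u * y⁻¹ * (y * x * y⁻¹) * (y * u * y⁻¹)⁻¹ = y * (u * x * u⁻¹) * y⁻¹ := by group
    rw [e] at h3
    have h4 : M.nat.e (y * (u * x * u⁻¹ * x⁻¹) * y⁻¹) m = 0 := by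
      have e2 : y * (u * x * u⁻¹ * x⁻¹) * y⁻¹ = y * (u * x * u⁻¹) * y⁻¹ * (y * x * y⁻¹)⁻¹ := by group
      rw [e2, M.map_div (M.Vn y hy _ hux) hyx, Pi.sub_apply, h3, sub_self]
    have h5 := (hm _ (mul_mem hux (inv_mem hx.1))).1 h4
    rw [M.map_div hux hx.1, Pi.sub_apply, hU.e_i hx.1, ex] at h5
    have h6 := congrFun h5 0
    rw [Pi.sub_apply, ap_zero'] at h6
    simp at h6
  have h3 := congrFun (key w hw hw1) 0
  rw [ap_zero', h00, one_mul] at h3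
  have h4 : ent A' 0 1 * M.nat.e (y * w * y⁻¹) m 1 = 0 := by
    have h5 := h3
    rwa [add_eq_left] at h5
  exact (mul_eq_zero.1 h4).resolve_left h01

end line

/-! ### The torus element -/

section main

variable [Finite G] {F : Type} [Field F] [Finite F] [CharP F 2] {T H X B ZJ : Subgroup G} {AA : Set (Subgroup G)}

/-- **One natural factor, `|F| > 2`**: `TwoBlk.exists_one` with a torus element `τ` and (LINE). -/
theorem exists_tor (h : GE T H X AA) (b : BZ T X AA B ZJ) (N : NatKM F T H (zl T H) (cv T H) 1)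
    (hex : ∃ A ∈ AA, ¬ A ≤ o2 H) (hF : 2 < Nat.card F) :
    ∃ K N₁ c τ, B ≤ K ∧ K ≤ H ∧ PB B K (zl T H) N₁ (cv T H) (Nat.card F) ∧ H ≤ T ⊔ K ∧
      T ≤ normalizer ((⁅zl T H, K⁆ : Subgroup G) : Set G) ∧
      YB T ZJ (fun _ : Fin 1 => ZJ ⊓ centralizer (K : Set G)) (fun _ => c) ∧ c ≤ N₁ ∧ N₁ ≤ c ⊔ cv T H ∧
      c ⊓ cv T H = ⊥ ∧ Nat.card c = Nat.card F ∧
      τ ∈ K ∧ τ ∈ normalizer (B : Set G) ∧ cj τ c = c ∧ (∀ x ∈ c, τ * x * τ⁻¹ = x → x = 1) ∧
      (∀ v ∈ zl T H, τ * v * τ⁻¹ * v⁻¹ ∈ cv T H → v ∈ cv T H) ∧ c ≤ ⁅⁅zl T H, K⁆, B⁆ ∧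
      ∀ y ∈ H, ∀ v ∈ N₁, v ∉ cv T H → y * v * y⁻¹ ∈ N₁ → cj y N₁ = N₁ := by
  classical
  obtain ⟨L, j, N₁, hLD, hPB, hHT, hup, hcov⟩ := exists_ldp h b N one_pos hex
  set M := natC_of h.hm one_pos N.toNatK with hM
  have hW : Wn M j = zl T H := by
    ext v
    rw [mem_Wn]
    exact ⟨fun hv => hv.1, fun hv => ⟨hv, fun i hi => absurd (Subsingleton.elim i j) hi⟩⟩
  rw [hW] at hPB hcov
  have hTH := h.TH
  obtain ⟨a, ha0, ha1⟩ : ∃ a : F, a ≠ 0 ∧ a ≠ 1 := by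
    by_contra hcon
    push Not at hcon
    have h1 : (Set.univ : Set F) ⊆ {0, 1} := by
      intro x _
      by_cases hx : x = 0
      · exact Or.inl hx
      · exact Or.inr (hcon x hx)
    have h2 := Set.ncard_le_ncard h1 (Set.toFinite _)
    rw [Set.ncard_univ] at h2
    have h4 := Set.ncard_insert_le (0 : F) {1}
    rw [Set.ncard_singleton] at h4
    omega
  have hc := hLD.co_tor ha0 ha1
  set c : Fin 1 → Subgroup G := fun i => ⨆ (l : G) (hl : Tor M i l), Cl M i l hl.memH with hcdef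
  have hy := hLD.yb_aux hc fun i s hs t ht hsm htm => cyc_line h.hm N one_pos hs hsm ht htm
  have hZB : zc B = ZJ := b.zcB
  have hN1 : ∀ v, v ∈ N₁ ↔ v ∈ Low.Li M j := by
    intro v
    constructor
    · intro hv
      have hvV := hPB.N1N hv
      have h1 := (BlOf.line_iff hPB hvV).1 hv
      rw [hZB] at h1
      exact ⟨hvV, fun i hi => absurd (Subsingleton.elim i j) hi, (hLD.mem v hvV).1 h1 j⟩
    · intro hv
      have h1 := hLD.LiZ j hv
      rw [← hZB] at h1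
      exact (BlOf.line_iff hPB hv.1).2 h1
  have hNi : ∀ i, Ni M ZJ L j i = ZJ ⊓ centralizer (L : Set G) := by
    intro i
    rw [Subsingleton.elim i j]
    ext x
    constructor
    · intro hx
      obtain ⟨hxZ, hx'⟩ := mem_Ni.1 hx
      refine mem_inf.2 ⟨hxZ, mem_centralizer_iff.2 fun l hl => ?_⟩
      have h1 := hx' 1 (one_mem _) (MvI.one j) l hl
      simpa using h1
    · intro hx
      obtain ⟨hxZ, hx'⟩ := mem_inf.1 hx
      refine hLD.mem_Ni_of (one_mem _) (MvI.one j) hxZ fun l hl => ?_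
      simpa using mem_centralizer_iff.1 hx' l hl
  have hci : ∀ i, c i = c j := fun i => by rw [Subsingleton.elim i j]
  have hy' : YB T ZJ (fun _ : Fin 1 => ZJ ⊓ centralizer (L : Set G)) (fun _ => c j) := by
    have e1 : (fun _ : Fin 1 => ZJ ⊓ centralizer (L : Set G)) = Ni M ZJ L j := funext fun i => (hNi i).symm
    have e2 : (fun _ : Fin 1 => c j) = c := funext fun i => (hci i).symm
    rw [e1, e2]
    exact hy
  have hle : c j ≤ N₁ := fun v hv => (hN1 v).2 (hc.le j hv)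
  have hdis : c j ⊓ cv T H = ⊥ := by
    rw [eq_bot_iff]
    rintro v ⟨hv, hv'⟩
    exact mem_bot.2 (hc.dis j v hv hv')
  have hsup : N₁ ≤ c j ⊔ cv T H := by
    intro v hv
    obtain ⟨a, ha, d, hd, rfl⟩ := hc.cov j v ((hN1 v).1 hv)
    exact mul_mem (mem_sup_left ha) (mem_sup_right hd)
  -- the torus element
  obtain ⟨τ, hτL, hτB, hτ⟩ : ∃ τ ∈ L, τ ∈ normalizer (B : Set G) ∧ Tor M j τ := by
    obtain ⟨l0, hl0, hl0A⟩ := hcov (dg a ha0)
    obtain ⟨z, hz, ez⟩ := exists_line M j 1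
    have hz' : l0 * z * l0⁻¹ ∈ zl T H := M.Vn l0 (hLD.LH hl0) z hz.1
    have e0 : M.nat.e (l0 * z * l0⁻¹) j = ap (dg a ha0) (M.nat.e z j) := hl0A z hz.1
    have e00 : M.nat.e (l0 * z * l0⁻¹) j 0 = a := by rw [e0, ap_zero', ez, hz.2.2]; simp
    have e01 : M.nat.e (l0 * z * l0⁻¹) j 1 = 0 := by rw [e0, ap_one', ez, hz.2.2]; simp
    have hzD : z ∉ cv T H := by
      intro hzD
      have := D_e (M := M) hzD
      rw [this] at ez
      exact zero_ne_one ez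
    have hz'D : l0 * z * l0⁻¹ ∉ cv T H := by
      intro hzD
      have := D_e (M := M) hzD
      rw [this] at e00
      exact ha0 e00.symm
    have hz'N : l0 * z * l0⁻¹ ∈ N₁ := (hN1 _).2 ⟨hz', fun i hi => absurd (Subsingleton.elim i j) hi, e01⟩
    obtain ⟨τ, hτ, hτB, hτD⟩ := hPB.tor z ((hN1 z).2 hz) hzD _ hz'N hz'D
    have hτz := M.Vn τ (hLD.LH hτ) z hz.1
    have e2 := D_e (M := M) hτD
    rw [M.map_div hτz hz', sub_eq_zero] at e2
    obtain ⟨A, hA, -⟩ := hup τ hτ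
    have e3 : M.nat.e (τ * z * τ⁻¹) j = ap (A j) (M.nat.e z j) := hA z hz.1 j
    have h00 : ent (A j) 0 0 = a := by
      have h1 := congrFun e3 0
      rw [e2, e00, ap_zero', ez, hz.2.2] at h1
      simpa using h1.symm
    have h10 : ent (A j) 1 0 = 0 := by
      have h1 := congrFun e3 1
      rw [e2, e01, ap_one', ez, hz.2.2] at h1
      simpa using h1.symm
    refine ⟨τ, hτ, hτB, A j, ⟨hLD.LH hτ, fun v hv i => ?_, fun d hd => hLD.cD τ hτ d hd⟩, h10, by rw [h00]; exact ha1⟩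
    rw [Subsingleton.elim i j, Pi.mulSingle_eq_same]
    exact hA v hv j
  have hcj : c j = Cl M j τ hτ.memH := by
    apply le_antisymm
    · exact iSup_le fun l' => iSup_le fun hl' => hl'.Cl_le_Cl hLD hτ
    · exact le_iSup_of_le τ (le_iSup_of_le hτ le_rfl)
  refine ⟨L, N₁, c j, τ, hLD.BL, hLD.LH, hPB, hHT,
    fun t ht => mem_normalizer_of_cj_le (norm_comm ?_ fun l hl => ?_), hy',
    hle, hsup, hdis, ?_, hτL, hτB, ?_, fun x hx hfx => ?_, fun v hv hvD => ?_, ?_, ?_⟩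
  · exact MinSimple.VModule.le_normalizer_zl T H (hTH ht)
  · -- `t l t⁻¹` acts as some `l' ∈ L`
    obtain ⟨A₁, hA₁, -⟩ := hup l hl
    obtain ⟨A₂, hA₂⟩ := N.norm t (hTH ht) l (hLD.LH hl) A₁ hA₁
    obtain ⟨l', hl', hl'A⟩ := hcov (A₂ j)
    refine ⟨l', hl', fun v hv => ?_⟩
    have hl'' : M.Acts l' A₂ := by
      intro w hw i
      rw [Subsingleton.elim i j]
      exact hl'A w hw
    have htl : t * l * t⁻¹ ∈ H := mul_mem (mul_mem (hTH ht) (hLD.LH hl)) (inv_mem (hTH ht))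
    have hs : l'⁻¹ * (t * l * t⁻¹) ∈ M.stab := by
      refine ⟨mul_mem (inv_mem (hLD.LH hl')) htl, ?_, fun d hd => ?_⟩
      · have h1 := acts_mul (M := M) htl (acts_inv (M := M) (hLD.LH hl') hl'') hA₂
        rwa [inv_mul_cancel] at h1
      · have h1 : Commute l' d := hLD.cD l' hl' d hd
        have h2 : Commute (t * l * t⁻¹) d := by
          have hd' : t⁻¹ * d * t ∈ cv T H := by
            have := M.Dn t⁻¹ (inv_mem (hTH ht)) d hd
            rwa [inv_inv] at this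
          have h3 := hLD.cD l hl _ hd'
          show t * l * t⁻¹ * d = d * (t * l * t⁻¹)
          calc t * l * t⁻¹ * d = t * (l * (t⁻¹ * d * t)) * t⁻¹ := by group
            _ = t * (t⁻¹ * d * t * l) * t⁻¹ := by rw [h3]
            _ = _ := by group
        exact (h1.inv_left.mul_left h2).eq
    have h3 := M.cent_of_stab h.hm hs hv
    have e : t * l * t⁻¹ = l' * (l'⁻¹ * (t * l * t⁻¹)) := by group
    rw [e]
    set s := l'⁻¹ * (t * l * t⁻¹)
    calc l' * s * v * (l' * s)⁻¹ = l' * (s * v * s⁻¹) * l'⁻¹ := by group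
      _ = l' * v * l'⁻¹ := by rw [h3]; group
  · -- `|c| = |F|`
    have hc1 : ∀ a ∈ c j, ∀ d ∈ cv T H, a * d = d * a := fun a ha d hd =>
      M.Vcomm (hc.le j ha).1 (M.DV hd)
    have h1 := Cfsg.Agent.Omega.SQ1.Bau.card_sup_comm hc1
    have e : c j ⊔ cv T H = N₁ := le_antisymm (sup_le hle hPB.N01) hsup
    rw [e, hdis, Subgroup.card_bot, mul_one, hPB.card1, mul_comm (Nat.card (c j))] at h1
    exact (Nat.eq_of_mul_eq_mul_left Nat.card_pos h1).symm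
  · -- `τ` normalises `c`
    refine cj_eq_of_mem_normalizer (mem_normalizer_of_cj_le ?_)
    rw [hcj]
    rintro _ ⟨_, ⟨v, hv, rfl⟩, rfl⟩
    refine ⟨τ * v * τ⁻¹, hτ.Li hv, ?_⟩
    show τ * (τ * v * τ⁻¹ * v⁻¹) * τ⁻¹ = _
    group
  · -- no fixed points on `c`
    have h1 : x ∈ cv T H := hτ.fix (hc.le j hx) (by rw [hfx, mul_inv_cancel]; exact one_mem _)
    exact hc.dis j x hx h1
  · -- no fixed points on `V / D`
    obtain ⟨A, hA, h0, h1⟩ := id hτ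
    have hτv := M.Vn τ hτ.memH v hv
    have e1 := D_e (M := M) hvD
    rw [M.map_div hτv hv, sub_eq_zero] at e1
    have e2 := hA.e_i hv
    rw [e1] at e2
    have e3 := congrFun e2 1
    rw [ap_one', h0, zero_mul, zero_add] at e3
    have h11 : ent A 1 1 ≠ 1 := by
      intro h11
      apply h1
      have h2 := det_eq A
      rw [h0, mul_zero, sub_zero, h11, mul_one] at h2
      exact h2
    have e4 : M.nat.e v j 1 = 0 := by
      have e5 : (ent A 1 1 - 1) * M.nat.e v j 1 = 0 := by rw [sub_mul, one_mul, ← e3, sub_self]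
      rcases mul_eq_zero.1 e5 with h6 | h6
      · exact absurd (sub_eq_zero.1 h6) h11
      · exact h6
    exact hτ.fix ⟨hv, fun i hi => absurd (Subsingleton.elim i j) hi, e4⟩ hvD
  · -- `c ≤ [V, K, B]`
    rw [hcj]
    rintro _ ⟨v, hv, rfl⟩
    obtain ⟨w0, hw0, hw01⟩ := hPB.exists_v
    obtain ⟨w, hw, n, hn, rfl⟩ := hPB.exists_V hw0
    have hw1 : w ∉ N₁ := fun h1 => hw01 (mul_mem h1 (hPB.N01 hn))
    obtain ⟨b1, hb1, n0, hn0, e⟩ := hPB.line (hPB.VN hw) hw1 ((hN1 v).2 hv)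
    have he : b1 * w * b1⁻¹ * w⁻¹ ∈ ⁅⁅zl T H, L⁆, B⁆ := by
      have h1 := inv_mem (commutator_mem_commutator hw hb1)
      have e1 : (⁅w, b1⁆)⁻¹ = b1 * w * b1⁻¹ * w⁻¹ := by rw [commutatorElement_def]; group
      rwa [e1] at h1
    have hn' : τ ∈ normalizer ((⁅⁅zl T H, L⁆, B⁆ : Subgroup G) : Set G) := by
      refine mem_normalizer_iff_cj.2 ?_
      rw [NO3S.ThmB.cj_comm, cj_eq_of_mem_normalizer (hPB.LV hτL), cj_eq_of_mem_normalizer hτB]
    have h2 : τ * v * τ⁻¹ * v⁻¹ = τ * (b1 * w * b1⁻¹ * w⁻¹) * τ⁻¹ * (b1 * w * b1⁻¹ * w⁻¹)⁻¹ := by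
      rw [e]
      exact hPB.comm_eq hn0 hτL
    rw [h2]
    exact mul_mem ((mem_normalizer_iff.1 hn' _).1 he) (inv_mem he)
  · -- (LINE)
    intro y hy v hv hvD hyv
    obtain ⟨m, hm⟩ := MvI.ex M hy j
    rw [Subsingleton.elim m j] at hm
    refine cj_eq_of_mem_normalizer (mem_normalizer_of_cj_le ?_)
    rintro _ ⟨w, hw, rfl⟩
    have hw' := (hN1 w).1 hw
    refine (hN1 _).2 ⟨M.Vn y hy w hw'.1, fun i hi => absurd (Subsingleton.elim i j) hi, ?_⟩
    exact line_of hy hm ((hN1 v).1 hv) hvD ((hN1 _).1 hyv).2.2 hw'.1 hw'.2.2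

end main

/-! ### After the splitting -/

section split

variable [Finite G] {T H B K V N₁ D c : Subgroup G} {q : ℕ}

/-- `⁅V, K⁆ ∩ D = 1`: `c = ⁅V, K⁆ ∩ N₁ = [⁅V, K⁆, B]`; distinct conjugates of `c` meet trivially. -/
theorem line_c (hPB : PB B K V N₁ D q) (hHT : H ≤ T ⊔ K) (hTV : T ≤ normalizer ((⁅V, K⁆ : Subgroup G) : Set G))
    (hcN : c ≤ N₁) (hsup : N₁ ≤ c ⊔ D) (hcB : c ≤ ⁅⁅V, K⁆, B⁆) (hs : ⁅V, K⁆ ⊓ D = ⊥)
    (hl : ∀ y ∈ H, ∀ v ∈ N₁, v ∉ D → y * v * y⁻¹ ∈ N₁ → cj y N₁ = N₁) :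
    c = ⁅V, K⁆ ⊓ N₁ ∧ c = ⁅⁅V, K⁆, B⁆ ∧ ∀ y ∈ H, c ⊓ cj y c ≠ ⊥ → cj y c = c := by
  have h1 : ⁅⁅V, K⁆, B⁆ ≤ ⁅V, K⁆ ⊓ N₁ := by
    rw [Subgroup.commutator_le]
    intro v hv b hb
    have hbL := (mem_normalizer_iff.1 (hPB.LV (hPB.BL hb)) v⁻¹).1 (inv_mem hv)
    have hq := hPB.quad b hb v⁻¹ (inv_mem (hPB.VN hv))
    have e : ⁅v, b⁆ = v * (b * v⁻¹ * b⁻¹) := by rw [commutatorElement_def]; group
    refine mem_inf.2 ⟨by rw [e]; exact mul_mem hv hbL, ?_⟩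
    have e2 : ⁅v, b⁆ = b * v⁻¹ * b⁻¹ * v⁻¹⁻¹ := by
      rw [e, inv_inv]
      exact hPB.comm (hPB.VN hv) (hPB.VN hbL)
    rw [e2]
    exact hq
  have h2 : ⁅V, K⁆ ⊓ N₁ ≤ c := by
    rintro x ⟨hx1, hx2⟩
    obtain ⟨a, ha, d, hd, rfl⟩ := SQ1.Bau.mem_sup_comm (fun a ha d hd =>
      hPB.comm (hPB.N1N (hcN ha)) (hPB.N1N (hPB.N01 hd))) (hsup hx2)
    have haV : a ∈ ⁅V, K⁆ := (mem_inf.1 (h1 (hcB ha))).1
    have hd1 : d ∈ ⁅V, K⁆ ⊓ D := by
      refine mem_inf.2 ⟨?_, hd⟩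
      have h3 := mul_mem (inv_mem haV) hx1
      rwa [inv_mul_cancel_left] at h3
    rw [hs, mem_bot] at hd1
    rw [hd1, mul_one]
    exact ha
  have hc1 : c = ⁅V, K⁆ ⊓ N₁ := le_antisymm (hcB.trans h1) h2
  refine ⟨hc1, le_antisymm hcB (h1.trans h2), fun y hy hne => ?_⟩
  have hyV : cj y ⁅V, K⁆ = ⁅V, K⁆ := by
    have h3 : H ≤ normalizer ((⁅V, K⁆ : Subgroup G) : Set G) := hHT.trans (sup_le hTV hPB.LV)
    exact cj_eq_of_mem_normalizer (h3 hy)
  obtain ⟨⟨x, hx⟩, hx1⟩ := (Subgroup.ne_bot_iff_exists_ne_one).1 hne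
  obtain ⟨hxc, hxy⟩ := mem_inf.1 hx
  obtain ⟨v, hv, rfl⟩ := NO3S.ThmB.exists_of_mem_cj hxy
  have hvD : v ∉ D := by
    intro hvD
    have h3 : v ∈ ⁅V, K⁆ ⊓ D := ⟨(mem_inf.1 (h1 (hcB hv))).1, hvD⟩
    rw [hs, mem_bot] at h3
    apply hx1
    apply Subtype.ext
    show y * v * y⁻¹ = 1
    rw [h3]; group
  have h3 := hl y hy v (hcN hv) hvD (hcN hxc)
  rw [hc1, cj_inf, hyV, h3]

/-- **(D)** -/
theorem not_norm_aux (hPB : PB B K V N₁ D q) {W₁ W₂ P : Subgroup G} {t : G} (hc : W₁ ≤ ⁅⁅V, K⁆, B⁆) (ht : cj t W₁ = W₂)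
    (hK : W₂ ≤ centralizer (K : Set G)) (hD : D ≤ centralizer (P : Set G)) (hne : ∃ b ∈ P, ∃ v ∈ W₂, b * v ≠ v * b) :
    cj t ⁅⁅V, K⁆, B⁆ ≠ ⁅⁅V, K⁆, B⁆ := by
  intro he
  obtain ⟨b, hb, v, hv, hbv⟩ := hne
  apply hbv
  have h1 : ⁅⁅V, K⁆, B⁆ ≤ N₁ := by
    rw [Subgroup.commutator_le]
    intro v hv b hb
    have hq := inv_mem (hPB.quad b hb v (hPB.VN hv))
    have e : (b * v * b⁻¹ * v⁻¹)⁻¹ = ⁅v, b⁆ := by rw [commutatorElement_def]; group
    rwa [e] at hq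
  have h2 : v ∈ N₁ := by
    apply h1
    rw [← he]
    refine cj_mono t hc ?_
    rw [ht]
    exact hv
  have h3 : v ∈ D := BlOf.mem_N0 hPB h2 fun l hl => mem_centralizer_iff.1 (hK hv) l hl
  exact mem_centralizer_iff.1 (hD h3) b hb

end split

/-! ### (D) over the frame of `P`, `k = 2` -/

section frame

open Cfsg.Agent.Omega.NO3S.EThree.Frame (Bg)

variable [Finite G] {S : Sylow 2 G} {P B ZJ : Subgroup G} {L W Z C : Fin 2 → Subgroup G}

/-- `t ∈ S - B` swaps `W 0`, `W 1` -/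
theorem swap (h : Bg S P B ZJ L W Z C 2) {t : G} (ht : t ∈ (S : Subgroup G)) (htB : t ∉ B) {l m : Fin 2}
    (hlm : l ≠ m) : cj t (W l) = W m := by
  obtain ⟨σ, hσ⟩ := h.perm_S ht
  have h0 : σ 0 ≠ 0 := by
    intro e
    apply htB
    rw [← TC.UniLev.T_eq h]
    refine ⟨ht, mem_normalizer_iff_cj.2 ?_⟩
    rw [(hσ 0).2.1, e]
  have h1 : σ 1 ≠ 1 := by
    intro e
    have h2 : ∀ a : Fin 2, a ≠ 0 → a = 1 := by decide
    have h3 := σ.injective ((h2 _ h0).trans e.symm)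
    exact absurd h3 (by decide)
  have h2 : σ l = m := by
    have h3 : ∀ l m : Fin 2, l ≠ m → (l = 0 ∧ m = 1) ∨ (l = 1 ∧ m = 0) := by decide
    have h4 : ∀ a : Fin 2, a ≠ 0 → a = 1 := by decide
    have h5 : ∀ a : Fin 2, a ≠ 1 → a = 0 := by decide
    rcases h3 l m hlm with ⟨rfl, rfl⟩ | ⟨rfl, rfl⟩
    · exact h4 _ h0
    · exact h5 _ h1
  rw [(hσ l).1, h2]

/-- **(D)**: `c^ = [⁅V, K⁆, B₀]` is normalised by no `t ∈ S - B`; `W l ≤ c^`, `W m` centralised by `K`, `D ≤ C(B)`. -/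
theorem not_norm (h : Bg S P B ZJ L W Z C 2) {B₀ K V N₁ D : Subgroup G} {q : ℕ} (hPB : PB B₀ K V N₁ D q)
    {l m : Fin 2} (hlm : l ≠ m) (hc : W l ≤ ⁅⁅V, K⁆, B₀⁆) (hK : W m ≤ centralizer (K : Set G))
    (hD : D ≤ centralizer (B : Set G)) {t : G} (ht : t ∈ (S : Subgroup G)) (htB : t ∉ B) :
    cj t ⁅⁅V, K⁆, B₀⁆ ≠ ⁅⁅V, K⁆, B₀⁆ :=
  not_norm_aux hPB hc (swap h ht htB hlm) hK hD (h.fr.blk m).ne

end frame

end Cfsg.Agent.Omega.OM.Lev.Low.Two

end

section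


/-!
# LEMMA M (helper109 #23071 (A)): a smallest best offender which moves a line moves only this line

`YB T X N c` and a family `AA` of best offenders of `T` on `X`.  If `A ∈ AA` does not centralise `c l` and `A / C_A(X)` is
as small as possible, then `A` fixes `l`, `|c l : C_{c l}(A)| = 2` and `A` centralises all `c l'`, `l' ≠ l`.

* `hyp` : hyperplanes: `y ∈ C_X(A₃) ∖ C_X(A)`, `|A : A₃| = 2`;
* `minA` : the lemma.
-/

set_option autoImplicit false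
set_option linter.unusedSectionVars false

namespace Cfsg.Agent.Omega.OM.Lev.Low

open Subgroup Cfsg Cfsg.Agent.ZN.ChoiceBase
open Cfsg.Agent.Omega.NO3S.OneLine (BFam)
open Cfsg.Agent.Omega.FFThm (ElemM)
open Cfsg.Agent.Omega.Half (exists_index_two mul_mem_of_index_two)
open scoped Pointwise

universe u

variable {G : Type u} [Group G] {Λ : Type*}

/-- `A` commutes with `Y` -/
def Cen (A Y : Subgroup G) : Prop := ∀ a ∈ A, ∀ y ∈ Y, a * y = y * a

theorem Cen.of_sup {A B X Y : Subgroup G} (h : Cen A Y) (hY : Y ≤ X)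
    (hB : B ≤ A ⊔ centralizer (X : Set G)) : Cen B Y := by
  have h1 : A ⊔ centralizer (X : Set G) ≤ centralizer (Y : Set G) :=
    sup_le (fun a ha => mem_centralizer_iff.2 fun y hy => (h a ha y hy).symm) (centralizer_le hY)
  exact fun b hb y hy => (mem_centralizer_iff.1 (h1 (hB hb)) y hy).symm

section hyp

variable [Finite G] {T X L A : Subgroup G} {AA : Set (Subgroup G)}

/-- Hyperplanes of a best offender. -/
theorem hyp (h : BFam T X L AA) (sq : ∀ x ∈ X, x ^ 2 = 1) (hA : A ∈ AA) {A₃ : Subgroup G}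
    (h1 : A ⊓ centralizer (X : Set G) ≤ A₃) (h2 : A₃ ≤ A) (h3 : A₃.relIndex A = 2) {y : G} (hy : y ∈ X)
    (hy3 : ∀ a ∈ A₃, a * y = y * a) (hyA : ¬ ∀ a ∈ A, a * y = y * a) :
    (∃ B ∈ AA, B ⊔ centralizer (X : Set G) = A₃ ⊔ centralizer (X : Set G)) ∧
      ∀ y' ∈ X, (∀ a ∈ A₃, a * y' = y' * a) → (¬ ∀ a ∈ A, a * y' = y' * a) → ∀ a ∈ A, a * (y * y') = y * y' * a := by
  have hle : X ⊓ centralizer (A : Set G) ≤ X ⊓ centralizer (A₃ : Set G) := inf_le_inf_left _ (centralizer_le h2)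
  have mem : ∀ {B : Subgroup G} {x : G}, x ∈ X ⊓ centralizer (B : Set G) ↔ x ∈ X ∧ ∀ b ∈ B, b * x = x * b :=
    fun {B x} => by rw [mem_inf, mem_centralizer_iff]; rfl
  have hcA : Nat.card A = 2 * Nat.card A₃ := by
    have e := Subgroup.card_mul_index (A₃.subgroupOf A)
    rw [Nat.card_congr (subgroupOfEquivOfLe h2).toEquiv] at e
    rw [← e, mul_comm]
    congr 1
  have hrel : (X ⊓ centralizer (A : Set G)).relIndex (X ⊓ centralizer (A₃ : Set G)) *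
      Nat.card ↥(X ⊓ centralizer (A : Set G)) = Nat.card ↥(X ⊓ centralizer (A₃ : Set G)) := by
    have e := Subgroup.card_mul_index ((X ⊓ centralizer (A : Set G)).subgroupOf (X ⊓ centralizer (A₃ : Set G)))
    rw [Nat.card_congr (subgroupOfEquivOfLe hle).toEquiv] at e
    rw [← e, mul_comm]
    rfl
  have hb := h.best A hA A₃ h1 h2
  have hp3 : 0 < Nat.card A₃ := Nat.card_pos
  have hpc : 0 < Nat.card ↥(X ⊓ centralizer (A : Set G)) := Nat.card_pos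
  have hne : (X ⊓ centralizer (A : Set G)).relIndex (X ⊓ centralizer (A₃ : Set G)) ≠ 1 := by
    intro e
    rw [relIndex_eq_one] at e
    exact hyA (mem.1 (e (mem.2 ⟨hy, hy3⟩))).2
  have hne0 : (X ⊓ centralizer (A : Set G)).relIndex (X ⊓ centralizer (A₃ : Set G)) ≠ 0 := by
    intro e
    rw [e, zero_mul] at hrel
    exact absurd hrel.symm (Nat.card_pos).ne'
  have hle2 : (X ⊓ centralizer (A : Set G)).relIndex (X ⊓ centralizer (A₃ : Set G)) ≤ 2 := by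
    rw [hcA, ← hrel] at hb
    by_contra hcon
    push Not at hcon
    have h5 : Nat.card A₃ * (2 * Nat.card ↥(X ⊓ centralizer (A : Set G))) <
        Nat.card A₃ * ((X ⊓ centralizer (A : Set G)).relIndex (X ⊓ centralizer (A₃ : Set G)) *
          Nat.card ↥(X ⊓ centralizer (A : Set G))) :=
      Nat.mul_lt_mul_of_pos_left (Nat.mul_lt_mul_of_pos_right hcon hpc) hp3
    have e : Nat.card A₃ * (2 * Nat.card ↥(X ⊓ centralizer (A : Set G))) =
        2 * Nat.card A₃ * Nat.card ↥(X ⊓ centralizer (A : Set G)) := by ring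
    rw [e] at h5
    exact absurd hb (not_le.2 h5)
  have h2' : (X ⊓ centralizer (A : Set G)).relIndex (X ⊓ centralizer (A₃ : Set G)) = 2 := by omega
  refine ⟨h.cut A hA A₃ h1 h2 ?_, fun y' hy' hy3' hyA' a ha => ?_⟩
  · rw [← hrel, h2', hcA]; ring
  · have h6 := mul_mem_of_index_two h2' (mem.2 ⟨hy, hy3⟩) (mem.2 ⟨hy', hy3'⟩)
    have h7 : y * y' ∈ X ⊓ centralizer (A : Set G) :=
      h6.2 ⟨fun h8 => absurd (mem.1 h8).2 hyA, fun h8 => absurd (mem.1 h8).2 hyA'⟩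
    exact (mem.1 h7).2 a ha

/-- the measure of a proper subgroup -/
theorem meas (hX : T ≤ normalizer (X : Set G)) (hAT : A ≤ T) {A₃ : Subgroup G}
    (h1 : A ⊓ centralizer (X : Set G) ≤ A₃) (h2 : A₃ ≤ A) (hne : ¬ A ≤ A₃) :
    Nat.card ↥(A₃ ⊔ centralizer (X : Set G)) < Nat.card ↥(A ⊔ centralizer (X : Set G)) := by
  have hle : A₃ ⊔ centralizer (X : Set G) ≤ A ⊔ centralizer (X : Set G) := sup_le_sup_right h2 _
  refine lt_of_le_of_ne (Subgroup.card_le_of_le hle) fun e => hne ?_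
  have e1 := Subgroup.eq_of_le_of_card_ge hle e.ge
  intro a ha
  have h3 : a ∈ A₃ ⊔ centralizer (X : Set G) := by rw [e1]; exact mem_sup_left ha
  have hn : A₃ ≤ normalizer (centralizer (X : Set G) : Set G) := by
    intro b hb
    have h4 := hX (hAT (h2 hb))
    refine mem_normalizer_of_cj_le ?_
    rw [cj_centralizer, cj_eq_of_mem_normalizer h4]
  have h4 : a ∈ (A₃ : Set G) * (centralizer (X : Set G) : Set G) := by
    rw [← Subgroup.coe_mul_of_left_le_normalizer_right _ _ hn]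
    exact h3
  obtain ⟨b, hb, c, hc, rfl⟩ := Set.mem_mul.1 h4
  have h5 : c ∈ A := by
    have h6 := mul_mem (inv_mem (h2 hb)) ha
    rwa [inv_mul_cancel_left] at h6
  exact mul_mem hb (h1 (mem_inf.2 ⟨h5, hc⟩))

end hyp

namespace YB

variable {T X L A : Subgroup G} {N c : Λ → Subgroup G} {AA : Set (Subgroup G)}

theorem mono_T (h : YB T X N c) {T' : Subgroup G} (hT : T' ≤ T) : YB T' X N c where
  ab := h.ab
  sq := h.sq
  norm := hT.trans h.norm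
  cX := h.cX
  ne := h.ne
  fix := h.fix
  triv := h.triv
  comm := h.comm
  perm t ht := h.perm t (hT ht)
  cyc l s hs t ht := h.cyc l s (hT hs) t (hT ht)

/-- restriction to a smaller `X` -/
theorem mono_X (h : YB T X N c) {X' : Subgroup G} (hX : X' ≤ X) (hn : T ≤ normalizer (X' : Set G))
    (hc : ∀ l, c l ≤ X') : YB T X' N c where
  ab x hx y hy := h.ab x (hX hx) y (hX hy)
  sq x hx := h.sq x (hX hx)
  norm := hn
  cX := hc
  ne := h.ne
  fix l x hx := h.fix l x (hX hx)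
  triv := h.triv
  comm := h.comm
  perm := h.perm
  cyc := h.cyc

/-- two equal lines -/
theorem line_inj (h : YB T X N c) {l m : Λ} (e : c l = c m) : l = m := by
  by_contra hne
  have h1 := h.comm l m hne
  have h2 := h.triv m
  rw [inf_eq_left.2 (e ▸ h1)] at h2
  exact h.ne m h2

/-- an element which centralises `c l` fixes `l` -/
theorem mv_of_cen [Finite G] (h : YB T X N c) {t : G} (ht : t ∈ T) {l : Λ} (hc : ∀ x ∈ c l, t * x = x * t) : Mv N c t l l := by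
  obtain ⟨m, hm⟩ := h.perm t ht l
  have h1 : cj t (c l) = c l := by
    refine cj_eq_of_mem_normalizer (mem_normalizer_of_cj_le ?_)
    rintro _ ⟨x, hx, rfl⟩
    show t * x * t⁻¹ ∈ c l
    rw [hc x hx, mul_inv_cancel_right]
    exact hx
  have h2 := h.line_inj (h1.symm.trans hm.2)
  rwa [← h2] at hm

/-- the stabiliser of `l` in `A` -/
def stab (N c : Λ → Subgroup G) (A : Subgroup G) (l : Λ) : Subgroup G where
  carrier := {a | a ∈ A ∧ Mv N c a l l}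
  one_mem' := ⟨one_mem _, Mv.one l⟩
  mul_mem' := fun ha hb => ⟨mul_mem ha.1 hb.1, ha.2.mul hb.2⟩
  inv_mem' := fun ha => ⟨inv_mem ha.1, ha.2.inv⟩

variable [Finite G] [Finite Λ]

/-- a hyperplane of `A` over the stabiliser of `l` -/
theorem hyperB (h : YB T X N c) (hf : BFam T X L AA) (h2 : IsPGroup 2 T) (hA : A ∈ AA) {l : Λ}
    (hl : ¬ ∀ a ∈ A, Mv N c a l l) : ∃ A₃ : Subgroup G, A ⊓ centralizer (X : Set G) ≤ A₃ ∧ A₃ ≤ A ∧
      A₃.relIndex A = 2 ∧ (∀ a ∈ A, Mv N c a l l → a ∈ A₃) ∧ ∃ y ∈ X, (∀ a ∈ A₃, a * y = y * a) ∧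
        (¬ ∀ a ∈ A, a * y = y * a) ∧ ∀ m, m ≠ l → (∀ a ∈ A, Mv N c a m m) → y ∈ N m := by
  have hAT := hf.le A hA
  have hYA : YB A X N c := h.mono_T hAT
  have hcs : A ⊓ centralizer (X : Set G) ≤ stab N c A l := fun a ha =>
    ⟨ha.1, h.mv_of_cen (hAT ha.1) fun x hx => (mem_centralizer_iff.1 ha.2 x (h.cX l hx)).symm⟩
  obtain ⟨A₃, h3, h4, h5⟩ := exists_index_two (h2.to_le hAT) (A := stab N c A l) (fun a ha => ha.1)
    fun hle => hl fun a ha => (hle ha).2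
  have hc3 := hcs.trans h3
  have hst : ∀ a ∈ A, Mv N c a l l → a ∈ A₃ := fun a ha hm => h3 ⟨ha, hm⟩
  have hQV : QV A X A₃ (X ⊓ centralizer (A₃ : Set G)) := by
    refine ⟨h4, fun a ha => ?_, fun x => ?_, h2.to_le hAT⟩
    · refine mem_normalizer_of_cj_le ?_
      rintro _ ⟨q, hq, rfl⟩
      show a * q * a⁻¹ ∈ A₃
      have h6 : a * q * a⁻¹ * q⁻¹ ∈ A₃ := hc3 (mem_inf.2
        ⟨mul_mem (mul_mem (mul_mem ha (h4 hq)) (inv_mem ha)) (inv_mem (h4 hq)), (hf.elem A hA).comm a ha q (h4 hq)⟩)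
      have h7 := mul_mem h6 hq
      rwa [inv_mul_cancel_right] at h7
    · rw [mem_inf, mem_centralizer_iff]; rfl
  obtain ⟨y, hyV, hyC, hyl⟩ := hYA.exists_single hQV l
  obtain ⟨hyX, hy3⟩ := (hQV.mem y).1 hyV
  obtain ⟨a, ha, ha3⟩ : ∃ a ∈ A, a ∉ A₃ := by
    by_contra hcon
    push Not at hcon
    have h6 : A₃.relIndex A = 1 := relIndex_eq_one.2 hcon
    omega
  refine ⟨A₃, hc3, h4, h5, hst, y, hyX, hy3, fun hcom => ?_, fun m hml hm => ?_⟩
  · have h6 : a * y * a⁻¹ ∈ Cp c {m' | ∃ l' ∈ Orb A₃ N c l, Mv N c a l' m'} := by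
      refine hYA.Cp_conj ha (p := Orb A₃ N c l) (fun l' hl' m hm => ?_) hyC
      exact ⟨l', hl', hm⟩
    rw [hcom a ha, mul_inv_cancel_right] at h6
    refine hyl (h.Cp_cen ?_ h6)
    rintro ⟨l', ⟨q, hq, hql⟩, hal⟩
    have h7 := hst (a * q) (mul_mem ha (h4 hq)) (hal.mul hql)
    have h8 := mul_mem h7 (inv_mem hq)
    rw [mul_inv_cancel_right] at h8
    exact ha3 h8
  · refine h.Cp_cen ?_ hyC
    rintro ⟨q, hq, hqm⟩
    exact hml (h.uniq' (hm q (h4 hq)) hqm)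

omit [Finite Λ] in
/-- the hyperplane `C_A(c l)` -/
theorem hyperA (h : YB T X N c) (hf : BFam T X L AA) (hA : A ∈ AA) {l : Λ} (hl : ∀ a ∈ A, Mv N c a l l)
    (hc : ¬ Cen A (c l)) : A ⊓ centralizer (X : Set G) ≤ A ⊓ centralizer (c l : Set G) ∧
      (A ⊓ centralizer (c l : Set G)).relIndex A = 2 ∧ ∃ y ∈ c l, ¬ ∀ a ∈ A, a * y = y * a := by
  have hAT := hf.le A hA
  have hE := hf.elem A hA
  have hle : A ⊓ centralizer (X : Set G) ≤ A ⊓ centralizer (c l : Set G) :=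
    inf_le_inf_left _ (centralizer_le (h.cX l))
  set A₁ := A ⊓ centralizer (c l : Set G) with hA₁
  have mem1 : ∀ {a}, a ∈ A → ((∀ x ∈ c l, a * x = x * a) ↔ a ∈ A₁) := fun {a} ha => by
    rw [hA₁, mem_inf, mem_centralizer_iff]
    exact ⟨fun h1 => ⟨ha, fun x hx => (h1 x hx).symm⟩, fun h1 x hx => (h1.2 x hx).symm⟩
  have hpw : ∀ t ∈ A, ∀ n : ℕ, t ^ n ∈ A₁ ∨ ∃ b ∈ A₁, t ^ n = t * b := by
    intro t ht n
    have h1 : ∀ m : ℕ, (t ^ 2) ^ m ∈ A₁ := fun m =>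
      pow_mem (hle (mem_inf.2 ⟨pow_mem ht 2, hE.sq t ht⟩)) m
    rcases Nat.even_or_odd' n with ⟨m, rfl | rfl⟩
    · left
      rw [pow_mul]
      exact h1 m
    · right
      exact ⟨_, h1 m, by rw [pow_succ', pow_mul]⟩
  have key : ∀ s ∈ A, ∀ t ∈ A, s ∉ A₁ → t ∉ A₁ → s * t ∈ A₁ := by
    have aux : ∀ s ∈ A, ∀ t ∈ A, s ∉ A₁ → ∀ n : ℕ, (∀ x ∈ c l, s * t ^ n * x = x * (s * t ^ n)) → s * t ∈ A₁ := by
      intro s hs t ht hs1 n hn
      have h3 := (mem1 (mul_mem hs (pow_mem ht n))).1 hn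
      rcases hpw t ht n with h4 | ⟨b, hb, h4⟩
      · exact absurd ((A₁.mul_mem_cancel_right h4).1 h3) hs1
      · rw [h4, ← mul_assoc] at h3
        exact (A₁.mul_mem_cancel_right hb).1 h3
    intro s hs t ht hs1 ht1
    obtain ⟨n, hn | hn⟩ := h.cyc l s (hAT hs) t (hAT ht) (hl s hs) (hl t ht)
    · exact aux s hs t ht hs1 n hn
    · have h3 := aux t ht s hs ht1 n hn
      have h4 : s * t * (t * s)⁻¹ ∈ A₁ := by
        have e : s * t * (t * s)⁻¹ = s * t * s⁻¹ * t⁻¹ := by group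
        rw [e]
        exact hle (mem_inf.2 ⟨mul_mem (mul_mem (mul_mem hs ht) (inv_mem hs)) (inv_mem ht), hE.comm s hs t ht⟩)
      have h5 := mul_mem h4 h3
      rwa [inv_mul_cancel_right] at h5
  obtain ⟨a, ha, ha1⟩ : ∃ a ∈ A, a ∉ A₁ := by
    by_contra hcon
    push Not at hcon
    exact hc fun a ha => (mem1 ha).2 (hcon a ha)
  refine ⟨hle, ?_, ?_⟩
  · show (A₁.subgroupOf A).index = 2
    rw [Subgroup.index_eq_two_iff]
    refine ⟨⟨a, ha⟩, fun ⟨b, hb⟩ => ?_⟩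
    rw [mem_subgroupOf, mem_subgroupOf]
    show Xor (b * a ∈ A₁) (b ∈ A₁)
    by_cases hb1 : b ∈ A₁
    · exact Or.inr ⟨hb1, fun h3 => ha1 ((A₁.mul_mem_cancel_left hb1).1 h3)⟩
    · exact Or.inl ⟨key b hb a ha hb1 ha1, hb1⟩
  · by_contra hcon
    push Not at hcon
    exact hc fun a ha y hy => hcon y hy a ha

/-- a subgroup commutes with `c l` if a smaller one of the family is equal to it modulo `C(X)` -/
theorem cen_of_small (h : YB T X N c) (hf : BFam T X L AA) (hA : A ∈ AA) {l : Λ}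
    (hmin : ∀ B ∈ AA, ¬ Cen B (c l) →
      Nat.card ↥(A ⊔ centralizer (X : Set G)) ≤ Nat.card ↥(B ⊔ centralizer (X : Set G)))
    {A₃ : Subgroup G} (h1 : A ⊓ centralizer (X : Set G) ≤ A₃) (h2 : A₃ ≤ A) (h3 : A₃.relIndex A = 2)
    (hex : ∃ B ∈ AA, B ⊔ centralizer (X : Set G) = A₃ ⊔ centralizer (X : Set G)) : Cen A₃ (c l) := by
  obtain ⟨B, hB, e⟩ := hex
  have h4 : Cen B (c l) := by
    by_contra hcon
    have h5 := hmin B hB hcon
    rw [e] at h5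
    refine absurd h5 (not_le.2 (meas h.norm (hf.le A hA) h1 h2 fun hle => ?_))
    have h6 : A₃.relIndex A = 1 := relIndex_eq_one.2 hle
    omega
  exact h4.of_sup (h.cX l) (e ▸ le_sup_left)

/-- **LEMMA M** -/
theorem minA (h : YB T X N c) (hf : BFam T X L AA) (h2 : IsPGroup 2 T) (hA : A ∈ AA) {l : Λ}
    (h4 : 2 < Nat.card (c l)) (hc : ¬ Cen A (c l))
    (hmin : ∀ B ∈ AA, ¬ Cen B (c l) →
      Nat.card ↥(A ⊔ centralizer (X : Set G)) ≤ Nat.card ↥(B ⊔ centralizer (X : Set G))) :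
    (∀ a ∈ A, Mv N c a l l) ∧ (c l ⊓ centralizer (A : Set G)).relIndex (c l) = 2 ∧ ∀ m, m ≠ l → Cen A (c m) := by
  have hAT := hf.le A hA
  have hl : ∀ a ∈ A, Mv N c a l l := by
    by_contra hl
    obtain ⟨A₃, h1, h3, h5, hst, y, hyX, hy3, hyA, -⟩ := h.hyperB hf h2 hA hl
    obtain ⟨hex, -⟩ := hyp hf h.sq hA h1 h3 h5 hyX hy3 hyA
    have h6 := h.cen_of_small hf hA hmin h1 h3 h5 hex
    obtain ⟨a, ha, ha3⟩ : ∃ a ∈ A, a ∉ A₃ := by
      by_contra hcon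
      push Not at hcon
      have h6 : A₃.relIndex A = 1 := relIndex_eq_one.2 hcon
      omega
    obtain ⟨m, hm⟩ := h.perm a (hAT ha) l
    have hml : l ≠ m := fun e => ha3 (hst a ha (by rw [← e] at hm; exact hm))
    have hmv : ∀ x ∈ c l, x ≠ 1 → ¬ ∀ b ∈ A, b * x = x * b := by
      intro x hx hx1 hcom
      have h7 : a * x * a⁻¹ ∈ c m := by rw [← hm.2]; exact ⟨x, hx, rfl⟩
      rw [hcom a ha, mul_inv_cancel_right] at h7
      have h8 : x ∈ c l ⊓ N l := ⟨hx, h.comm m l (Ne.symm hml) h7⟩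
      rw [h.triv l, mem_bot] at h8
      exact hx1 h8
    -- two different elements of `c l`
    obtain ⟨x, hx, hx1⟩ : ∃ x ∈ c l, x ≠ 1 := by
      by_contra hcon
      push Not at hcon
      exact h.ne l ((eq_bot_iff_forall _).2 hcon)
    have hall : ∀ x' ∈ c l, x' = 1 ∨ x' = x := by
      intro x' hx'
      by_contra hcon
      push Not at hcon
      obtain ⟨-, h9⟩ := hyp hf h.sq hA h1 h3 h5 (h.cX l hx) (fun b hb => h6 b hb x hx) (hmv x hx hx1)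
      have h10 := h9 x' (h.cX l hx') (fun b hb => h6 b hb x' hx') (hmv x' hx' hcon.1)
      by_cases hxx : x * x' = 1
      · refine hcon.2 ?_
        rw [eq_inv_of_mul_eq_one_right hxx, h.inv_eq (h.cX l hx)]
      · exact hmv (x * x') (mul_mem hx hx') hxx h10
    have h11 : Nat.card (c l) ≤ 2 := by
      have h12 : ((c l : Set G)).ncard ≤ ({1, x} : Set G).ncard :=
        Set.ncard_le_ncard (fun x' hx' => by
          rcases hall x' hx' with e | e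
          · exact Or.inl e
          · exact Or.inr e) (Set.toFinite _)
      refine h12.trans ((Set.ncard_insert_le _ _).trans ?_)
      rw [Set.ncard_singleton]
    omega
  obtain ⟨h1, h3, y, hy, hyA⟩ := h.hyperA hf hA hl hc
  have hy3 : ∀ x ∈ c l, ∀ a ∈ A ⊓ centralizer (c l : Set G), a * x = x * a := fun x hx a ha =>
    (mem_centralizer_iff.1 ha.2 x hx).symm
  obtain ⟨-, h5⟩ := hyp hf h.sq hA h1 inf_le_left h3 (h.cX l hy) (hy3 y hy) hyA
  refine ⟨hl, ?_, fun m hml => ?_⟩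
  · have memc : ∀ {x}, x ∈ c l → ((∀ a ∈ A, a * x = x * a) ↔ x ∈ c l ⊓ centralizer (A : Set G)) := fun {x} hx => by
      rw [mem_inf, mem_centralizer_iff]
      exact ⟨fun h6 => ⟨hx, fun a ha => h6 a ha⟩, fun h6 a ha => h6.2 a ha⟩
    show ((c l ⊓ centralizer (A : Set G)).subgroupOf (c l)).index = 2
    rw [Subgroup.index_eq_two_iff]
    refine ⟨⟨y, hy⟩, fun ⟨x, hx⟩ => ?_⟩
    rw [mem_subgroupOf, mem_subgroupOf]
    show Xor (x * y ∈ c l ⊓ centralizer (A : Set G)) (x ∈ c l ⊓ centralizer (A : Set G))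
    by_cases hxc : x ∈ c l ⊓ centralizer (A : Set G)
    · refine Or.inr ⟨hxc, fun h6 => hyA ((memc hy).2 ?_)⟩
      exact ((c l ⊓ centralizer (A : Set G)).mul_mem_cancel_left hxc).1 h6
    · refine Or.inl ⟨?_, hxc⟩
      rw [← memc (mul_mem hx hy), h.cm (h.cX l hx) (h.cX l hy)]
      exact h5 x (h.cX l hx) (hy3 x hx) fun h6 => hxc ((memc hx).1 h6)
  · by_contra hcm
    obtain ⟨A₃, k1, k2, k3, z, hzX, hz3, hzA, hzl⟩ : ∃ A₃ : Subgroup G, A ⊓ centralizer (X : Set G) ≤ A₃ ∧ A₃ ≤ A ∧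
        A₃.relIndex A = 2 ∧ ∃ z ∈ X, (∀ a ∈ A₃, a * z = z * a) ∧ (¬ ∀ a ∈ A, a * z = z * a) ∧ z ∈ N l := by
      by_cases hm : ∀ a ∈ A, Mv N c a m m
      · obtain ⟨k1, k3, z, hz, hzA⟩ := h.hyperA hf hA hm hcm
        exact ⟨_, k1, inf_le_left, k3, z, h.cX m hz, fun a ha => (mem_centralizer_iff.1 ha.2 z hz).symm, hzA,
          h.comm m l hml hz⟩
      · obtain ⟨A₃, k1, k2, k3, -, z, hzX, hz3, hzA, hzl⟩ := h.hyperB hf h2 hA hm
        exact ⟨A₃, k1, k2, k3, z, hzX, hz3, hzA, hzl l (Ne.symm hml) hl⟩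
    obtain ⟨hex, k5⟩ := hyp hf h.sq hA k1 k2 k3 hzX hz3 hzA
    have k6 := h.cen_of_small hf hA hmin k1 k2 k3 hex
    have k7 := k5 y (h.cX l hy) (fun a ha => k6 a ha y hy) hyA
    apply hyA
    intro a ha
    have k8 := k7 a ha
    -- `y^a y⁻¹ = z (z^a)⁻¹ ∈ c l ∩ N l`
    have hayX := h.memX (hAT ha) (h.cX l hy)
    have hazX := h.memX (hAT ha) hzX
    have k9 : (a * y * a⁻¹) * y⁻¹ = (a * z * a⁻¹)⁻¹ * z := by
      have e1 : (a * z * a⁻¹) * (a * y * a⁻¹) = z * y := by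
        calc (a * z * a⁻¹) * (a * y * a⁻¹) = a * (z * y) * a⁻¹ := by group
          _ = z * y := by rw [k8, mul_inv_cancel_right]
      calc (a * y * a⁻¹) * y⁻¹ = (a * z * a⁻¹)⁻¹ * ((a * z * a⁻¹) * (a * y * a⁻¹)) * y⁻¹ := by group
        _ = (a * z * a⁻¹)⁻¹ * z := by rw [e1]; group
    have k10 : (a * y * a⁻¹) * y⁻¹ ∈ c l := by
      refine mul_mem ?_ (inv_mem hy)
      rw [← (hl a ha).2]
      exact ⟨y, hy, rfl⟩
    have k11 : (a * y * a⁻¹) * y⁻¹ ∈ N l := by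
      rw [k9]
      exact mul_mem (inv_mem ((hl a ha).cen.2 hzl)) hzl
    have k12 : (a * y * a⁻¹) * y⁻¹ ∈ c l ⊓ N l := ⟨k10, k11⟩
    rw [h.triv l, mem_bot, mul_inv_eq_one] at k12
    exact mul_inv_eq_iff_eq_mul.1 k12

end YB

end Cfsg.Agent.Omega.OM.Lev.Low

end

section


/-!
# TORUS, `q = 2` (helper109 #23071), (B): `|c l| = 4`, `Q` fixes all `l`, `c l ≤ V`

Any number of blocks, any 2-group `T ≥ B`, any stage `j ≤ n`.

* `YB.card_four` : if a best offender of `T` on `X` does not centralise `c l`, then `|c l| = 4`;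
* `YB.lin` : if moreover `V = C_X(Q)` has more than two elements at `l`, then `Q` fixes `l` and `c l ≤ V`;
* `exists_level` : the first level with a best offender which does not centralise all `c l`;
* `lin_V` : **(B)**.
-/

set_option autoImplicit false
set_option linter.unusedSectionVars false

namespace Cfsg.Agent.Omega.OM.Lev.Low

open Subgroup Cfsg Cfsg.Agent.ZN.ChoiceBase Cfsg.Agent.ZN.ChoiceSit
open Cfsg.Agent.ZN (jj zj bau zc zl o2)
open Cfsg.Agent.Omega.NO3S.OneLine (BFam bo bo_fam)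
open Cfsg.Agent.Omega.FFThm (ElemM)
open Cfsg.Agent.Omega.NO1.BestOff (Best)
open Cfsg.Agent.Omega.OM.SwapL (Ln ZL)
open Cfsg.Agent.Omega.NO3S.Level (lev lev_mono lev_isLev Lev BO nxt lev_le_succ lev_le normalizer_le_zc)

universe u

variable {G : Type u} [Group G] {Λ : Type*}

namespace YB

variable {T X L A Q V : Subgroup G} {N c : Λ → Subgroup G} {AA : Set (Subgroup G)}

/-- the fixed points of an element of `T` on a line are the points of a subfield -/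
def Sub (T : Subgroup G) (N c : Λ → Subgroup G) : Prop := ∀ l, ∀ t ∈ T, Mv N c t l l →
  ∃ m : ℕ, Nat.card (c l) = Nat.card ↥(c l ⊓ centralizer ({t} : Set G)) ^ m

theorem card_four (hs : Sub T N c) [Finite G] {l : Λ} (hAT : A ≤ T) (hc : ¬ Cen A (c l)) (h4 : 2 < Nat.card (c l))
    (hl : ∀ a ∈ A, Mv N c a l l) (hi : (c l ⊓ centralizer (A : Set G)).relIndex (c l) = 2) :
    Nat.card (c l) = 4 ∧ Nat.card ↥(c l ⊓ centralizer (A : Set G)) = 2 := by
  unfold Cen at hc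
  push Not at hc
  obtain ⟨a, ha, x, hx, hax⟩ := hc
  obtain ⟨m, hm⟩ := hs l a (hAT ha) (hl a ha)
  set C := c l ⊓ centralizer (A : Set G) with hC
  set D := c l ⊓ centralizer ({a} : Set G) with hD
  have hCD : C ≤ D := inf_le_inf_left _ (centralizer_le (Set.singleton_subset_iff.2 ha))
  have hDc : D ≤ c l := inf_le_left
  have hxD : x ∉ D := fun h1 => hax (mem_centralizer_singleton_iff.1 h1.2).symm
  have hmul : ∀ E : Subgroup G, E ≤ c l → E.relIndex (c l) * Nat.card E = Nat.card (c l) := fun E hE => by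
    have e := Subgroup.card_mul_index (E.subgroupOf (c l))
    rw [Nat.card_congr (subgroupOfEquivOfLe hE).toEquiv] at e
    rw [← e, mul_comm]
    rfl
  have h1 := hmul C (hCD.trans hDc)
  have h2 := hmul D hDc
  rw [hi] at h1
  have h3 : 2 ≤ D.relIndex (c l) := by
    have h5 : D.relIndex (c l) ≠ 0 := by
      intro e
      rw [e, zero_mul] at h2
      exact absurd h2.symm Nat.card_pos.ne'
    have h6 : D.relIndex (c l) ≠ 1 := fun e => hxD (relIndex_eq_one.1 e hx)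
    omega
  have h5 : Nat.card C ≤ Nat.card D := Subgroup.card_le_of_le hCD
  have h6 : Nat.card D = Nat.card C := by nlinarith
  rw [h6] at hm
  have hm' : 2 * Nat.card C = Nat.card C ^ m := by rw [h1, hm]
  have hC1 : Nat.card C ≠ 1 := by
    intro e
    rw [e] at h1
    omega
  have hC0 : 0 < Nat.card C := Nat.card_pos
  rcases m with _ | m
  · rw [pow_zero] at hm'
    omega
  · rw [pow_succ, mul_comm] at hm'
    have h7 := Nat.eq_of_mul_eq_mul_right hC0 (by rw [mul_comm]; exact hm' : 2 * Nat.card C = Nat.card C ^ m * Nat.card C)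
    rcases m with _ | m
    · rw [pow_zero] at h7
      omega
    · have h8 : Nat.card C ∣ 2 := ⟨Nat.card C ^ m, by rw [h7, pow_succ]; ring⟩
      have h9 := (Nat.dvd_prime Nat.prime_two).1 h8
      have h10 := h9.resolve_left hC1
      omega

/-- two different nontrivial components at `l` -/
def Wide (V : Subgroup G) (N c : Λ → Subgroup G) (l : Λ) : Prop :=
  ∃ v ∈ V, ∃ a ∈ c l, a * v ∈ N l ∧ a ≠ 1 ∧
    ∃ v' ∈ V, ∃ a' ∈ c l, a' * v' ∈ N l ∧ a' ≠ 1 ∧ a ≠ a'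

theorem Wide.two_lt [Finite G] {l : Λ} (h : Wide V N c l) : 2 < Nat.card (c l) := by
  obtain ⟨-, -, a, ha, -, ha1, -, -, a', ha', -, ha1', hne⟩ := h
  have h1 : ({1, a, a'} : Set G).ncard ≤ ((c l : Set G)).ncard := by
    refine Set.ncard_le_ncard ?_ (Set.toFinite _)
    rintro x (rfl | rfl | rfl)
    · exact one_mem _
    · exact ha
    · exact ha'
  have h2 : ({1, a, a'} : Set G).ncard = 3 := by
    rw [Set.ncard_insert_of_notMem _ (Set.toFinite _), Set.ncard_pair hne]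
    simp only [Set.mem_insert_iff, Set.mem_singleton_iff, not_or]
    exact ⟨ha1.symm, ha1'.symm⟩
  rw [h2] at h1
  exact h1

/-- a component of an element of `V` is in `V` if `Q` fixes `l` -/
theorem comp_mem (h : YB T X N c) (hV : QV T X Q V) {l : Λ} (hQ : ∀ q ∈ Q, Mv N c q l l) {v a : G} (hv : v ∈ V)
    (ha : a ∈ c l) (hn : a * v ∈ N l) : a ∈ V := by
  refine hV.of_fix (h.cX l ha) fun q hq => ?_
  have h1 := hV.fix hv hq
  have h2 : q * a * q⁻¹ ∈ c l := by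
    rw [← (hQ q hq).2]
    exact ⟨a, ha, rfl⟩
  have h3 : q * (a * v) * q⁻¹ ∈ N l := (hQ q hq).cen.2 hn
  have e1 : q * (a * v) * q⁻¹ = q * a * q⁻¹ * v := by
    calc q * (a * v) * q⁻¹ = q * a * q⁻¹ * (q * v * q⁻¹) := by group
      _ = q * a * q⁻¹ * v := by rw [h1]
  rw [e1] at h3
  have h4 : q * a * q⁻¹ * a⁻¹ ∈ c l ⊓ N l := by
    refine mem_inf.2 ⟨mul_mem h2 (inv_mem ha), ?_⟩
    have h5 := mul_mem h3 (inv_mem hn)
    have e2 : q * a * q⁻¹ * v * (a * v)⁻¹ = q * a * q⁻¹ * a⁻¹ := by group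
    rwa [e2] at h5
  rw [h.triv l, mem_bot, mul_inv_eq_one] at h4
  exact h4

variable [Finite G] [Finite Λ]

/-- **(B) for one `l`** -/
theorem lin (h : YB T X N c) (hs : Sub T N c) (hf : BFam T X L AA) (hV : QV T X Q V) {l : Λ} (hw : Wide V N c l)
    (hA : ∃ A ∈ AA, ¬ Cen A (c l)) : (∀ q ∈ Q, Mv N c q l l) ∧ Nat.card (c l) = 4 ∧ c l ≤ V := by
  obtain ⟨A, ⟨hA, hc⟩, hmin⟩ := Set.exists_min_image {A | A ∈ AA ∧ ¬ Cen A (c l)}
    (fun A : Subgroup G => Nat.card ↥(A ⊔ centralizer (X : Set G))) (Set.toFinite _) (by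
      obtain ⟨A, hA, hc⟩ := hA
      exact ⟨A, hA, hc⟩)
  have h2 := hw.two_lt
  have hAT := hf.le A hA
  obtain ⟨hl, hi, hcm⟩ := h.minA hf hV.two hA h2 hc fun B hB hB' => hmin B ⟨hB, hB'⟩
  obtain ⟨h4, hC2⟩ := card_four hs hAT hc h2 hl hi
  -- an element of `V` whose component is not centralised by `A`
  have hex : ∃ v ∈ V, ∃ x ∈ c l, x * v ∈ N l ∧ ∃ a ∈ A, a * x ≠ x * a := by
    by_contra hcon
    push Not at hcon
    obtain ⟨v, hv, x, hx, hxv, hx1, v', hv', x', hx', hxv', hx1', hne⟩ := hw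
    have h5 : x ∈ c l ⊓ centralizer (A : Set G) :=
      mem_inf.2 ⟨hx, mem_centralizer_iff.2 fun a ha => hcon v hv x hx hxv a ha⟩
    have h6 : x' ∈ c l ⊓ centralizer (A : Set G) :=
      mem_inf.2 ⟨hx', mem_centralizer_iff.2 fun a ha => hcon v' hv' x' hx' hxv' a ha⟩
    exact hne (UniPlus.eq_of_card_two hC2 h5 h6 hx1 hx1')
  obtain ⟨v, hv, x, hx, hxv, a, ha, hax⟩ := hex
  have haT := hAT ha
  have hinv : x⁻¹ = x := h.inv_eq (h.cX l hx)
  set w := v * (a * v * a⁻¹) with hw'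
  have hwV : w ∈ V := mul_mem hv (QV.memV h hV haT hv)
  have hcm' : ∀ m, m ≠ l → Mv N c a m m := fun m hm => h.mv_of_cen haT (hcm m hm a ha)
  -- the components of `w`
  have hwl : w ∉ N l := by
    intro hwN
    have e0 : v = x * (x * v) := by rw [← mul_assoc, h.mul_self (h.cX l hx), one_mul]
    have hn' : a * (x * v) * a⁻¹ ∈ N l := (hl a ha).cen.2 hxv
    have hxX := h.cX l hx
    have hvX := hV.VX hv
    have hnX : x * v ∈ X := mul_mem hxX hvX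
    have haxc : a * x * a⁻¹ ∈ c l := by
      rw [← (hl a ha).2]
      exact ⟨x, hx, rfl⟩
    have e1 : w = x * (a * x * a⁻¹) * ((x * v) * (a * (x * v) * a⁻¹)) := by
      have h5 := h.cm hnX (h.cX l haxc)
      calc w = x * (x * v) * (a * (x * (x * v)) * a⁻¹) := by rw [← e0]
        _ = x * ((x * v) * (a * x * a⁻¹)) * (a * (x * v) * a⁻¹) := by group
        _ = x * ((a * x * a⁻¹) * (x * v)) * (a * (x * v) * a⁻¹) := by rw [h5]
        _ = _ := by group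
    have h6 : x * (a * x * a⁻¹) ∈ c l ⊓ N l := by
      refine mem_inf.2 ⟨mul_mem hx haxc, ?_⟩
      have h7 := mul_mem hwN (inv_mem (mul_mem hxv hn'))
      rwa [e1, mul_inv_cancel_right] at h7
    rw [h.triv l, mem_bot] at h6
    have h7 : a * x * a⁻¹ = x := by
      rw [eq_inv_of_mul_eq_one_right h6, hinv]
    exact hax (mul_inv_eq_iff_eq_mul.1 h7)
  have hwm : ∀ m, m ≠ l → w ∈ N m := by
    intro m hm
    obtain ⟨y, hy, hyv⟩ := h.fix m v (hV.VX hv)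
    have e0 : v = y * (y * v) := by rw [← mul_assoc, h.mul_self (h.cX m hy), one_mul]
    have hy1 : a * y * a⁻¹ = y := by rw [hcm m hm a ha y hy]; group
    have hn' : a * (y * v) * a⁻¹ ∈ N m := (hcm' m hm).cen.2 hyv
    have h5 := h.cm (mul_mem (h.cX m hy) (hV.VX hv)) (h.cX m hy)
    have e1 : w = (y * v) * (a * (y * v) * a⁻¹) := by
      calc w = y * (y * v) * (a * (y * (y * v)) * a⁻¹) := by rw [← e0]
        _ = y * (y * v) * ((a * y * a⁻¹) * (a * (y * v) * a⁻¹)) := by group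
        _ = y * ((y * v) * y) * (a * (y * v) * a⁻¹) := by rw [hy1]; group
        _ = (y * y) * (y * v) * (a * (y * v) * a⁻¹) := by rw [h5]; group
        _ = _ := by rw [h.mul_self (h.cX m hy), one_mul]
    rw [e1]
    exact mul_mem hyv hn'
  have hQ : ∀ q ∈ Q, Mv N c q l l := by
    intro q hq
    obtain ⟨m, hm⟩ := h.perm q (hV.QT hq) l
    by_cases e : m = l
    · rwa [e] at hm
    · exfalso
      apply hwl
      refine hm.cen.1 ?_
      rw [hV.fix hwV hq]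
      exact hwm m e
  refine ⟨hQ, h4, ?_⟩
  obtain ⟨v, hv, x, hx, hxv, hx1, v', hv', x', hx', hxv', hx1', hne⟩ := hw
  have h5 := h.comp_mem hV hQ hv hx hxv
  have h6 := h.comp_mem hV hQ hv' hx' hxv'
  -- `c l ∩ V` has more than 2 elements
  have h7 : Wide V N c l := ⟨v, hv, x, hx, hxv, hx1, v', hv', x', hx', hxv', hx1', hne⟩
  have h8 : 2 < Nat.card ↥(c l ⊓ V) := by
    have h9 : Wide V (fun m => N m) (fun m => c m ⊓ V) l := ⟨v, hv, x, ⟨hx, h5⟩, hxv, hx1, v', hv', x', ⟨hx', h6⟩,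
      hxv', hx1', hne⟩
    exact h9.two_lt
  have h9 : Nat.card ↥(c l ⊓ V) ∣ Nat.card (c l) := Subgroup.card_dvd_of_le inf_le_left
  rw [h4] at h9
  have h10 : Nat.card ↥(c l ⊓ V) ≤ 4 := Nat.le_of_dvd (by norm_num) h9
  have h11 : Nat.card ↥(c l ⊓ V) = 4 := by
    interval_cases hk : Nat.card ↥(c l ⊓ V)
    · omega
    · rfl
  have h12 := Subgroup.eq_of_le_of_card_ge (inf_le_left : c l ⊓ V ≤ c l) (by rw [h11, h4])
  rw [← h12]
  exact inf_le_right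

end YB

/-! ### The levels -/

section line

variable [Finite G] {ι : Type} [Finite ι] [Finite Λ] {S : Sylow 2 G} {P : Subgroup G} {n : ℕ}
  {L W Z C A : ι → Subgroup G} {T : Subgroup G} {N c : Λ → Subgroup G}

theorem BO_bo {T' : Subgroup G} {m : ℕ} {D : Subgroup G} (hD : D ∈ BO (S : Subgroup G) (lev (S : Subgroup G) m))
    (hDT : D ≤ T') : D ∈ bo T' (zc (lev (S : Subgroup G) m)) :=
  ⟨hDT, hD.2.toElemM, fun E h1 h2 => hD.2.max E h2 h1⟩

/-- a 2-group over `B` normalises `Ω₁Z(lev S m)` -/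
theorem two_norm_zc (hT : IsPGroup 2 T) (hB : SwapL.BL (S : Subgroup G) n ≤ T) {m : ℕ} (hm : m ≤ n + 1) :
    T ≤ normalizer (zc (lev (S : Subgroup G) m) : Set G) :=
  ((SwapL.lb S n).two_le hT hB).trans ((SwapL.norm_lev S hm).trans (normalizer_le_zc _))

theorem BO_le_B {m : ℕ} (hm : m ≤ n) {D : Subgroup G} (hD : D ∈ BO (S : Subgroup G) (lev (S : Subgroup G) m)) :
    D ≤ SwapL.BL (S : Subgroup G) n := by
  have h0 : D ≤ lev (S : Subgroup G) (m + 1) := NO3S.Level.BO.le_nxt hD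
  have h1 : lev (S : Subgroup G) (m + 1) ≤ lev (S : Subgroup G) (n + 1) := lev_mono _ (by omega)
  exact (h0.trans h1).trans (SwapL.lb S n).KB

/-- **the first level with a best offender which does not centralise all `c l`** -/
theorem exists_level (h : Ln S P n L W Z C A 2) (hT : IsPGroup 2 T) (hB : SwapL.BL (S : Subgroup G) n ≤ T) {j : ℕ}
    (hj : j ≤ n) (hy : YB T (zc (lev (S : Subgroup G) j)) N c) (hZ : ∃ l, ¬ zc T ≤ N l) :
    ∃ m, j ≤ m ∧ m ≤ n ∧ (∀ l, c l ≤ zc (lev (S : Subgroup G) m)) ∧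
      ∃ D ∈ BO (S : Subgroup G) (lev (S : Subgroup G) m), ∃ l, ¬ Cen D (c l) := by
  classical
  have hne : ∃ m, j ≤ m ∧ m ≤ n ∧ ∃ D ∈ BO (S : Subgroup G) (lev (S : Subgroup G) m), ∃ l, ¬ Cen D (c l) := by
    by_contra hcon
    push Not at hcon
    obtain ⟨l, hl⟩ := hZ
    refine hl ((zc_T_le S hT hB).trans (zj_le h.fr fun i z hz => ?_))
    -- an element of `A i` which moves `W i`
    have hane := h.fr.Ane i
    push Not at hane
    obtain ⟨b, hb, v, hv, hbv⟩ := hane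
    have r := rt h.fr hB hb fun h1 => hbv (h1 v hv)
    obtain ⟨w, hw, rfl⟩ := r.all z hz
    have hAi : A i ∈ BO (S : Subgroup G) (lev (S : Subgroup G) n) :=
      ⟨(h.fr.AB i).trans (SwapL.lb S n).BS, ⟨h.fr.AX i, fun E h1 h2 => h.fr.best i E h2 h1⟩⟩
    have hcen := hcon n hj le_rfl (A i) hAi l
    have hbT : b ∈ T := hB (h.fr.AB i hb)
    have hbl : Mv N c b l l := hy.mv_of_cen hbT (hcen b hb)
    have hwX : w ∈ zc (lev (S : Subgroup G) j) := (qv h hT hB hj).VX hw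
    obtain ⟨y, hy', hyw⟩ := hy.fix l w hwX
    have e0 : w = y * (y * w) := by rw [← mul_assoc, hy.mul_self (hy.cX l hy'), one_mul]
    have hy1 : b * y * b⁻¹ = y := by rw [hcen b hb y hy']; group
    have hn' : b * (y * w) * b⁻¹ ∈ N l := hbl.cen.2 hyw
    have h5 := hy.cm (mul_mem (hy.cX l hy') hwX) (hy.cX l hy')
    have e1 : w * (b * w * b⁻¹) = (y * w) * (b * (y * w) * b⁻¹) := by
      calc w * (b * w * b⁻¹) = y * (y * w) * (b * (y * (y * w)) * b⁻¹) := by rw [← e0]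
        _ = y * (y * w) * ((b * y * b⁻¹) * (b * (y * w) * b⁻¹)) := by group
        _ = y * ((y * w) * y) * (b * (y * w) * b⁻¹) := by rw [hy1]; group
        _ = (y * y) * (y * w) * (b * (y * w) * b⁻¹) := by rw [h5]; group
        _ = _ := by rw [hy.mul_self (hy.cX l hy'), one_mul]
    rw [e1]
    exact mul_mem hyw hn'
  have hspec := Nat.find_spec hne
  have hmin : ∀ m', j ≤ m' → m' < Nat.find hne → ∀ D ∈ BO (S : Subgroup G) (lev (S : Subgroup G) m'), ∀ l,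
      Cen D (c l) := by
    intro m' h1 h2 D hD l
    by_contra hcon
    exact Nat.find_min hne h2 ⟨h1, (h2.le.trans hspec.2.1), D, hD, l, hcon⟩
  refine ⟨Nat.find hne, hspec.1, hspec.2.1, ?_, hspec.2.2⟩
  have key : ∀ m', j ≤ m' → m' ≤ Nat.find hne → ∀ l, c l ≤ zc (lev (S : Subgroup G) m') := by
    intro m' h1
    induction m', h1 using Nat.le_induction with
    | base => exact fun _ l => hy.cX l
    | succ m' h1 ih =>
      intro h2 l x hx
      have h3 := ih (by omega) l hx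
      have hx' := mem_zc.1 h3
      refine (lev_isLev (S : Subgroup G) (m' + 1)).mem_of_comm (lev_le _ _ hx'.1) hx'.2.1 ?_
      have h4 : lev (S : Subgroup G) (m' + 1) ≤ centralizer ({x} : Set G) := by
        show nxt (S : Subgroup G) (lev (S : Subgroup G) m') ≤ _
        refine sup_le (fun s hs => ?_) (sSup_le fun D hD d hd => ?_)
        · rw [mem_centralizer_singleton_iff]
          exact (mem_centralizer_iff.1 hs.2 x h3).symm
        · rw [mem_centralizer_singleton_iff]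
          exact hmin m' h1 (by omega) D hD l d hd x hx
      exact fun y hy => mem_centralizer_singleton_iff.1 (h4 hy)
  exact key _ hspec.1 le_rfl

/-- **(B)** -/
theorem lin_V (h : Ln S P n L W Z C A 2) (hT : IsPGroup 2 T) (hB : SwapL.BL (S : Subgroup G) n ≤ T) {j : ℕ}
    (hj : j ≤ n) (hy : YB T (zc (lev (S : Subgroup G) j)) N c) (htr : ∀ l m, ∃ t ∈ T, Mv N c t l m)
    (hs : YB.Sub T N c) (hZ : ∃ l, ¬ zc T ≤ N l) (hw : ∀ l, YB.Wide (zl (S : Subgroup G) P) N c l) (l : Λ) :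
    (∀ q ∈ o2 P, Mv N c q l l) ∧ Nat.card (c l) = 4 ∧ c l ≤ zl (S : Subgroup G) P := by
  obtain ⟨m, hjm, hmn, hcm, D, hD, l₀, hl₀⟩ := exists_level h hT hB hj hy hZ
  have hle : zc (lev (S : Subgroup G) m) ≤ zc (lev (S : Subgroup G) j) :=
    (lev_isLev (S : Subgroup G) j).zc_le_zc (lev_mono _ hjm) (lev_le _ m)
  have hym : YB T (zc (lev (S : Subgroup G) m)) N c := hy.mono_X hle (two_norm_zc hT hB (by omega)) hcm
  have hqm := qv h hT hB hmn
  have hDT : D ≤ T := (BO_le_B hmn hD).trans hB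
  obtain ⟨h1, h2, h3⟩ := hym.lin hs (bo_fam T (zc (lev (S : Subgroup G) m))) hqm (hw l₀) ⟨D, BO_bo hD hDT, hl₀⟩
  obtain ⟨t, ht, htm⟩ := htr l₀ l
  refine ⟨fun q hq => ?_, ?_, ?_⟩
  · have h4 : t⁻¹ * q * t ∈ o2 P := by
      have := (mem_normalizer_iff.1 (inv_mem (hqm.TQ ht)) q).1 hq
      rwa [inv_inv] at this
    have h5 := (htm.mul (h1 _ h4)).mul htm.inv
    have e : t * (t⁻¹ * q * t) * t⁻¹ = q := by group
    rwa [e] at h5
  · rw [← htm.2, card_cj, h2]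
  · rw [← htm.2]
    rintro _ ⟨x, hx, rfl⟩
    exact YB.QV.memV hym hqm ht (h3 hx)

end line

end Cfsg.Agent.Omega.OM.Lev.Low

end

section


/-!
# TORUS, `k = 2 = q`: `K` is transitive on the lines

* `exists_line` : every vector of `V` lies on a line `N₁ ^ k`, `k ∈ K` (`PB B K V N₁ D q`);
* `line_tr` : with (LINE) and the splitting, every `H`-conjugate of `c` is a `K`-conjugate.
-/

set_option autoImplicit false
set_option linter.unusedSectionVars false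

namespace Cfsg.Agent.Omega.OM.Lev.Low.Two

open Subgroup Cfsg Cfsg.Agent.ZN Cfsg.Agent.ZN.ChoiceBase
open Cfsg.Agent.Omega.SQ1.Bau (Mv)
open scoped commutatorElement

universe u

variable {G : Type u} [Group G] [Finite G] {T H B K V N₁ D c : Subgroup G} {q : ℕ}

/-- every element of `V` lies on a line -/
theorem exists_line' (hPB : PB B K V N₁ D q) {v : G} (hv : v ∈ V) : ∃ k ∈ K, k⁻¹ * v * k ∈ N₁ := by
  by_cases hv1 : v ∈ N₁
  · exact ⟨1, one_mem _, by simpa using hv1⟩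
  obtain ⟨l, hl, hm⟩ := hPB.mv
  obtain ⟨a, ha, b, hb, e⟩ := hPB.pl.split hl hm hv
  have hlb : l * b * l⁻¹ ∈ V := hPB.Nn l hl b (hPB.N1N hb)
  have hw : l * b * l⁻¹ ∉ N₁ := fun h1 => hv1 (by rw [e]; exact mul_mem ha h1)
  obtain ⟨x, hx, n0, hn0, e1⟩ := hPB.line hlb hw ha
  have hxK := hPB.BL hx
  refine ⟨x * l, mul_mem hxK hl, ?_⟩
  have hlD : (x * l)⁻¹ * n0 * (x * l) = n0 := by
    have h1 := hPB.N0c _ (inv_mem (mul_mem hxK hl)) n0 hn0
    rw [h1]; group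
  have hcom : n0 * (l * b * l⁻¹) = (l * b * l⁻¹) * n0 := hPB.comm (hPB.N1N (hPB.N01 hn0)) hlb
  have e2 : v = x * (l * b * l⁻¹) * x⁻¹ * n0 := by
    rw [e, e1]
    calc x * (l * b * l⁻¹) * x⁻¹ * (l * b * l⁻¹)⁻¹ * n0 * (l * b * l⁻¹)
        = x * (l * b * l⁻¹) * x⁻¹ * (l * b * l⁻¹)⁻¹ * (n0 * (l * b * l⁻¹)) := by group
      _ = x * (l * b * l⁻¹) * x⁻¹ * (l * b * l⁻¹)⁻¹ * ((l * b * l⁻¹) * n0) := by rw [hcom]
      _ = _ := by group
  have e3 : (x * l)⁻¹ * v * (x * l) = b * ((x * l)⁻¹ * n0 * (x * l)) := by rw [e2]; group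
  rw [e3, hlD]
  exact mul_mem hb (hPB.N01 hn0)

/-- every `H`-conjugate of `c` is a `K`-conjugate -/
theorem line_tr (hPB : PB B K V N₁ D q) (hKH : K ≤ H) (hHV : H ≤ normalizer (V : Set G))
    (hHn : H ≤ normalizer ((⁅V, K⁆ : Subgroup G) : Set G)) (hc : c = ⁅V, K⁆ ⊓ N₁) (hs : ⁅V, K⁆ ⊓ D = ⊥) (hne : c ≠ ⊥)
    (hl : ∀ y ∈ H, ∀ v ∈ N₁, v ∉ D → y * v * y⁻¹ ∈ N₁ → cj y N₁ = N₁) {y : G} (hy : y ∈ H) :
    ∃ k ∈ K, cj y c = cj k c := by
  obtain ⟨⟨v, hv⟩, hv1⟩ := (Subgroup.ne_bot_iff_exists_ne_one).1 hne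
  have hv' := hv
  rw [hc] at hv'
  obtain ⟨hvV, hvN⟩ := mem_inf.1 hv'
  have hyv : y * v * y⁻¹ ∈ V := (mem_normalizer_iff.1 (hHV hy) v).1 (hPB.VN hvV)
  obtain ⟨k, hk, hkv⟩ := exists_line' hPB hyv
  have hkH := hKH hk
  have h1 : k⁻¹ * y ∈ H := mul_mem (inv_mem hkH) hy
  have h2 : cj (k⁻¹ * y) N₁ = N₁ := by
    refine hl _ h1 v hvN (fun hvD => hv1 (Subtype.ext ?_)) ?_
    · have h3 : v ∈ ⁅V, K⁆ ⊓ D := ⟨hvV, hvD⟩
      rw [hs, mem_bot] at h3
      exact h3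
    · have e : k⁻¹ * y * v * (k⁻¹ * y)⁻¹ = k⁻¹ * (y * v * y⁻¹) * k := by group
      rw [e]
      exact hkv
  have h4 : cj (k⁻¹ * y) c = c := by
    rw [hc, cj_inf, cj_eq_of_mem_normalizer (hHn h1), h2]
  refine ⟨k, hk, ?_⟩
  have h5 := congrArg (cj k) h4
  rw [cj_cj] at h5
  rwa [show k * (k⁻¹ * y) = y by group] at h5

end Cfsg.Agent.Omega.OM.Lev.Low.Two

end

section


/-!
# TORUS, `k = 2 = q`: the instance of `TwoRes.Res`, and the minimal parabolics over `S`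

* `idx`, `exists_out`, `zc_S` : over `Bg S P B ZJ L W Z C 2`, `ι = Fin 2`: `|S : B| = 2`, `Ω₁Z(S) = ⟨v 0 v 1⟩`;
* `res_of` : `Res` from the block `TwoBlk.exists_one` and `v i ∈ c`, `v i' ∈ C(K)`;
* `gen_le` : a local `L ≥ S` is generated by elements normalising `Ω₁Z(lev S j)`, `j ≤ n`, or centralising `z`, if
  `lev S n ≤ O₂(R)` for all `R ∈ P*(S)` and `Ω₁Z(S) = ⟨z⟩`.
-/

set_option autoImplicit false
set_option linter.unusedSectionVars false

namespace Cfsg.Agent.Omega.OM.Lev.Low.TwoInst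

open Subgroup Cfsg Cfsg.Agent.ZN Cfsg.Agent.ZN.ChoiceBase
open Cfsg.Agent.ZN.ChoiceSit (Syl)
open Cfsg.Agent.Omega.MinPar (IsLoc IsPar IsParS)
open Cfsg.Agent.Omega.NO3S.EThree.Frame (Bg)
open Cfsg.Agent.Omega.NO3S.Level (lev lev_mono lev_isLev lev_le)
open Cfsg.Agent.Omega.OM.SwapL (Ln ZL)
open Cfsg.Agent.Omega.OM.GLev
open Cfsg.Agent.Omega.OM.Lev.Low
open Cfsg.Agent.Omega.FFThm (NatKM)
open Cfsg.Agent.Omega.FrameFF (cv)
open Cfsg.Agent.Omega.SQ1.Bau (elem_comm elem_sq card_sup_comm)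
open Cfsg.Agent.MinSimple.MinParabolic (IsMinPar)

universe u

variable {G : Type u} [Group G] [Finite G]

section bg

variable {S : Sylow 2 G} {P B ZJ : Subgroup G} {L W Z C : Fin 2 → Subgroup G} (h : Bg S P B ZJ L W Z C 2)
include h

theorem fin_two {i j k : Fin 2} (h1 : i ≠ j) (h2 : k ≠ j) : k = i := by
  revert i j k; decide

/-- an element of `S - B` interchanges `Z 0` and `Z 1` -/
theorem cj_Z {s : G} (hs : s ∈ (S : Subgroup G)) (hsB : s ∉ B) : cj s (Z 0) = Z 1 ∧ cj s (Z 1) = Z 0 := by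
  obtain ⟨σ, hσ⟩ := h.perm_S hs
  have h0 : σ 0 ≠ 0 := by
    intro e
    apply hsB
    rw [← TC.UniLev.T_eq h]
    refine mem_inf.2 ⟨hs, ?_⟩
    rw [mem_normalizer_iff_cj, (hσ 0).2.1, e]
  have h1 : σ 0 = 1 := by
    have : ∀ a : Fin 2, a ≠ 0 → a = 1 := by decide
    exact this _ h0
  have h2 : σ 1 = 0 := by
    have : ∀ a : Fin 2, a ≠ 1 → a = 0 := by decide
    refine this _ fun e => ?_
    have := σ.injective (e.trans h1.symm)
    exact absurd this (by decide)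
  exact ⟨by rw [(hσ 0).2.1, h1], by rw [(hσ 1).2.1, h2]⟩

/-- `|S : B| ≤ 2` -/
theorem idx {a b : G} (ha : a ∈ (S : Subgroup G)) (haB : a ∉ B) (hb : b ∈ (S : Subgroup G)) (hbB : b ∉ B) :
    a * b ∈ B := by
  rw [← TC.UniLev.T_eq h]
  refine mem_inf.2 ⟨mul_mem ha hb, ?_⟩
  rw [mem_normalizer_iff_cj, ← cj_cj, (cj_Z h hb hbB).1, (cj_Z h ha haB).2]

/-- `B < S` -/
theorem exists_out : ∃ s ∈ (S : Subgroup G), s ∉ B := by
  obtain ⟨s, hs, e⟩ := h.trans 0 1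
  refine ⟨s, hs, fun hsB => ?_⟩
  have h1 := (h.cj_Z_iff hs).2 e
  have h2 : cj s (Z 0) = Z 0 := by
    have : s ∈ (S : Subgroup G) ⊓ normalizer (Z 0 : Set G) := by
      rw [TC.UniLev.T_eq h]
      exact hsB
    exact cj_eq_of_mem_normalizer this.2
  rw [h2] at h1
  exact absurd (h.Z_inj h1) (by decide)

variable {v : Fin 2 → G} (hv1 : ∀ i, v i ≠ 1) (hv : ∀ i, ∀ x, x ∈ Z i ↔ x = 1 ∨ x = v i)
include hv1 hv

theorem swap {s : G} (hs : s ∈ (S : Subgroup G)) (hsB : s ∉ B) : s * v 0 * s⁻¹ = v 1 ∧ s * v 1 * s⁻¹ = v 0 := by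
  obtain ⟨h0, h1⟩ := cj_Z h hs hsB
  have key : ∀ i j, cj s (Z i) = Z j → s * v i * s⁻¹ = v j := by
    intro i j e
    have h2 : s * v i * s⁻¹ ∈ Z j := by
      rw [← e]
      exact ⟨v i, (hv i _).2 (Or.inr rfl), rfl⟩
    rcases (hv j _).1 h2 with h3 | h3
    · exact absurd (conj_eq_one_iff.1 h3) (hv1 i)
    · exact h3
  exact ⟨key 0 1 h0, key 1 0 h1⟩

theorem v_comm : v 0 * v 1 = v 1 * v 0 :=
  h.fr.Vc (h.fr.ZV 0 ((hv 0 _).2 (Or.inr rfl))) (h.fr.ZV 1 ((hv 1 _).2 (Or.inr rfl)))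

theorem v_sq (i : Fin 2) : v i * v i = 1 := by
  have h1 := h.fr.Vsq (h.fr.ZV i ((hv i _).2 (Or.inr rfl)))
  rwa [pow_two] at h1

theorem v_ne : v 0 ≠ v 1 := by
  intro e
  have h1 : v 0 ∈ Z 0 ⊓ Z 1 := ⟨(hv 0 _).2 (Or.inr rfl), (hv 1 _).2 (Or.inr e)⟩
  have h2 := h.Z_disj (show (0 : Fin 2) ≠ 1 by decide)
  rw [h2] at h1
  exact hv1 0 (mem_bot.1 h1)

/-- `v 0 v 1 ∈ Ω₁Z(S)` -/
theorem z_mem : v 0 * v 1 ∈ zc (S : Subgroup G) := by
  have h0 : v 0 ∈ ZJ := h.fr.Z_le 0 ((hv 0 _).2 (Or.inr rfl))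
  have h1 : v 1 ∈ ZJ := h.fr.Z_le 1 ((hv 1 _).2 (Or.inr rfl))
  have hZS : ZJ ≤ (S : Subgroup G) := (h.fr.ZJV.trans h.fr.VB).trans h.BS
  refine ChoiceBase.mem_zc.2 ⟨mul_mem (hZS h0) (hZS h1), ?_, fun s hs => ?_⟩
  · rw [pow_two]
    calc v 0 * v 1 * (v 0 * v 1) = v 0 * (v 1 * v 0) * v 1 := by group
      _ = v 0 * (v 0 * v 1) * v 1 := by rw [v_comm h hv1 hv]
      _ = (v 0 * v 0) * (v 1 * v 1) := by group
      _ = 1 := by rw [v_sq h hv1 hv, v_sq h hv1 hv, one_mul]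
  · by_cases hsB : s ∈ B
    · exact ((h.fr.mem_ZJ _).1 (mul_mem h0 h1)).2 s hsB
    · obtain ⟨e0, e1⟩ := swap h hv1 hv hs hsB
      refine mul_inv_eq_iff_eq_mul.1 ?_
      calc s * (v 0 * v 1) * s⁻¹ = (s * v 0 * s⁻¹) * (s * v 1 * s⁻¹) := by group
        _ = v 0 * v 1 := by rw [e0, e1, v_comm h hv1 hv]

/-- `Ω₁Z(S) = {1, v 0 v 1}` -/
theorem zc_S {x : G} (hx : x ∈ zc (S : Subgroup G)) (hx1 : x ≠ 1) : x = v 0 * v 1 := by
  have h1 := TC.OfBg.zc_le_ZJ h le_rfl h.BS hx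
  obtain ⟨s, hs, hsB⟩ := exists_out h
  obtain ⟨e0, e1⟩ := swap h hv1 hv hs hsB
  have hfix : s * x * s⁻¹ = x := by rw [(ChoiceBase.mem_zc.1 hx).2.2 s hs]; group
  rcases (TC.OfBg.mem_ZJ_iff h hv).1 h1 with e | e | e | e
  · exact absurd e hx1
  · rw [e, e0] at hfix
    exact absurd hfix.symm (v_ne h hv1 hv)
  · rw [e, e1] at hfix
    exact absurd hfix (v_ne h hv1 hv)
  · exact e

end bg

/-- `|V_P| ≥ 16` -/
theorem card_V {S : Sylow 2 G} {P B ZJ : Subgroup G} {L W Z C : Fin 2 → Subgroup G} (h : Bg S P B ZJ L W Z C 2) :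
    16 ≤ Nat.card (zl (S : Subgroup G) P) := by
  have hW : ∀ i, Nat.card (W i) = 4 := fun i => by
    rw [(h.fr.blk i).card, h.fr.cardZ i]
  have h01 : W 0 ⊓ W 1 = ⊥ := h.W_disj (by decide)
  have h1 := card_sup_comm (A := W 0) (B := W 1) fun a ha b hb => h.fr.Vc (h.fr.WV 0 ha) (h.fr.WV 1 hb)
  rw [h01, Subgroup.card_bot, mul_one, hW, hW] at h1
  calc 16 = Nat.card ↥(W 0 ⊔ W 1) := h1.symm
    _ ≤ _ := Subgroup.card_le_of_le (sup_le (h.fr.WV 0) (h.fr.WV 1))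

/-- **The instance of `Res`.** -/
theorem res_of {S : Sylow 2 G} {P : Subgroup G} {n : ℕ} {L W Z C A : Fin 2 → Subgroup G}
    (hln : Ln S P n L W Z C A 2) (hbg : Bg S P (SwapL.BL (S : Subgroup G) n) (ZL (S : Subgroup G) n) L W Z C 2)
    {v : Fin 2 → G} (hv1 : ∀ i, v i ≠ 1) (hv : ∀ i, ∀ x, x ∈ Z i ↔ x = 1 ∨ x = v i) {M N₁ D K c : Subgroup G}
    {j : ℕ} (hj : j ≤ n) (hpb : PB (LevB.BL (S : Subgroup G) j) K M N₁ D 4)
    (hBN : SwapL.BL (S : Subgroup G) n ≤ normalizer ((⁅M, K⁆ : Subgroup G) : Set G))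
    (hyb : YB (SwapL.BL (S : Subgroup G) n) (zc (lev (S : Subgroup G) j))
      (fun _ : Fin 1 => zc (lev (S : Subgroup G) j) ⊓ centralizer (K : Set G)) (fun _ => c))
    (hc1 : c ≤ N₁) (hc2 : N₁ ≤ c ⊔ D) (hcD : c ⊓ D = ⊥) (hc4 : Nat.card c = 4) (hcV : c ≤ ⁅M, K⁆)
    {i i' : Fin 2} (hii : i ≠ i') (h1 : v i ∈ c) (h2 : v i' ∈ centralizer (K : Set G)) :
    TwoRes.Res S (SwapL.BL (S : Subgroup G) n) (LevB.BL (S : Subgroup G) j) (zc (lev (S : Subgroup G) j)) M N₁ D K c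
      (v 0 * v 1) (v i) (v i') where
  BS := hbg.BS
  SB := hbg.S_norm_B
  idx := fun a ha haB b hb hbB => idx hbg ha haB hb hbB
  ne := exists_out hbg
  SX := ((lev_isLev (S : Subgroup G) j).S_norm).trans (NO3S.Level.normalizer_le_zc _)
  X2 := NO3S.OneLine.zc_elem _
  B0eq := rfl
  B0B := BL_mono (S : Subgroup G) (by omega : j ≤ n + 1)
  XB0 := by
    have h3 := LevB.zc_B S j
    rw [← h3]
    exact fun x hx => (ChoiceBase.mem_zc.1 hx).1
  pb := hpb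
  BN := hBN
  yb := hyb
  cN1 := hc1
  N1c := hc2
  cD := hcD
  c4 := hc4
  cV := hcV
  zz := z_mem hbg hv1 hv
  zS := fun x hx hx1 => zc_S hbg hv1 hv hx hx1
  ez := by
    have : ∀ a b : Fin 2, a ≠ b → (a = 0 ∧ b = 1) ∨ (a = 1 ∧ b = 0) := by decide
    rcases this i i' hii with ⟨rfl, rfl⟩ | ⟨rfl, rfl⟩
    · rfl
    · exact v_comm hbg hv1 hv
  z1c := h1
  z1n := hv1 i
  z2c := by
    refine mem_inf.2 ⟨?_, h2⟩
    have h3 : v i' ∈ zl (S : Subgroup G) P := hbg.fr.ZV i' ((hv i' _).2 (Or.inr rfl))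
    exact (hln.fr.VX.trans ((lev_isLev (S : Subgroup G) j).zc_le_zc (lev_mono _ hj) (lev_le _ n))) h3
  z2n := hv1 i'
  X16 := (card_V hbg).trans (Subgroup.card_le_of_le
    (hln.fr.VX.trans ((lev_isLev (S : Subgroup G) j).zc_le_zc (lev_mono _ hj) (lev_le _ n))))

/-- **The generation of a local group over `S`.** -/
theorem gen_le (S : Sylow 2 G) {L : Subgroup G} (hL : IsLoc (S : Subgroup G) L) {n j : ℕ} (hj : j ≤ n)
    (hall : ∀ R, IsParS (S : Subgroup G) R → lev (S : Subgroup G) n ≤ o2 R) {z : G} (hz : z ∈ zc (S : Subgroup G))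
    (hz1 : z ≠ 1) (hzS : ∀ x ∈ zc (S : Subgroup G), x ≠ 1 → x = z) :
    L ≤ closure {g | (g ∈ L ∧ g * z = z * g) ∨
      cj g (zc (lev (S : Subgroup G) j)) = zc (lev (S : Subgroup G) j)} := by
  have hlv := lev_isLev (S : Subgroup G) j
  refine hL.le_of_forall S ?_ fun Y hY hYL => ?_
  · intro g hg
    refine subset_closure (Or.inr (cj_eq_of_mem_normalizer ?_))
    exact NO3S.Level.normalizer_le_zc _ (hlv.norm _ hlv.le le_rfl hg.2)
  · by_cases hZ : Y ≤ normalizer (zc (S : Subgroup G) : Set G)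
    · intro g hg
      refine subset_closure (Or.inl ⟨hYL hg, ?_⟩)
      have h1 : g * z * g⁻¹ ∈ zc (S : Subgroup G) := (mem_normalizer_iff.1 (hZ hg) z).1 hz
      have h2 := hzS _ h1 fun e => hz1 (conj_eq_one_iff.1 e)
      exact mul_inv_eq_iff_eq_mul.1 h2
    · have h1 := hall Y ⟨hY, hZ⟩
      have h2 : Y ≤ normalizer (lev (S : Subgroup G) j : Set G) :=
        hlv.le_norm_of_o2 ((lev_mono _ hj).trans h1) (hY.isLoc.o2_le S)
      exact fun g hg => subset_closure (Or.inr (cj_eq_of_mem_normalizer (NO3S.Level.normalizer_le_zc _ (h2 hg))))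

end Cfsg.Agent.Omega.OM.Lev.Low.TwoInst

end

section


/-!
# (LL), `k = 2`: the end of the case of a torus (helper109 #23071, (F) and (G))

`S` is a Sylow 2-subgroup of `⟨K, S⟩`, `B` has index 2 in `S`, `s ∈ S ∖ B`, `X ⊴ S` is elementary abelian,
`B₀ = C_S(X)`, `(K, F)` is a block over `B₀` (`F` the natural module, `c = [F, B₀] = C_F(B₀)` its line), `B` normalises
`K`, `X = c × C_X(K)`, `|X| ≤ |c|²`, `c^s ≤ C(K)`; `U ⊴ ⟨K, S⟩` is elementary abelian and `A ≤ B₀` exact: `U = F C_U(A)`,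
`B₀ = A C_{B₀}(F)`.

* `Dat.K_norm` : **(F)**: `K` normalises `F^s` (so `⟨K, S⟩` permutes `F`, `F^s`, and `F ∩ F^s = 1`);
* `Dat.cz_le` : **(G)**: the elements of `⟨K, S⟩` which centralise some `1 ≠ z ∈ X ∩ Z(S)` normalise `X`;
* `Dat.not_le` : `K` does not normalise `X`.
-/

set_option autoImplicit false

namespace Cfsg.Agent.Omega.OM.Lev.Low.End

open Subgroup Cfsg Cfsg.Agent.ZN.ChoiceBase Cfsg.Agent.ZN.ChoiceSit
open Cfsg.Agent.Omega.SQ1.Bau (mem_sup_comm card_sup_comm mem_sup_norm)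

universe u

variable {G : Type u} [Group G]

/-! ### General lemmas -/

theorem mem_norm_of [Finite G] {K : Subgroup G} {g : G} (h : ∀ k ∈ K, g * k * g⁻¹ ∈ K) :
    g ∈ normalizer (K : Set G) := mem_normalizer_of_cj_le (by
  rintro _ ⟨k, hk, rfl⟩
  exact h k hk)

theorem conj_mem_of_norm {K : Subgroup G} {g k : G} (h : g ∈ normalizer (K : Set G)) (hk : k ∈ K) :
    g * k * g⁻¹ ∈ K := (mem_normalizer_iff.1 h k).1 hk

theorem conj_mem_of_norm' {K : Subgroup G} {g k : G} (h : g ∈ normalizer (K : Set G)) (hk : k ∈ K) :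
    g⁻¹ * k * g ∈ K := by
  have := conj_mem_of_norm (inv_mem h) hk
  rwa [inv_inv] at this

theorem mem_cj_of {K : Subgroup G} {g k : G} (hk : k ∈ K) : g * k * g⁻¹ ∈ cj g K := ⟨k, hk, rfl⟩

theorem exists_of_mem_cj {K : Subgroup G} {g k : G} (hk : k ∈ cj g K) : ∃ x ∈ K, k = g * x * g⁻¹ := by
  obtain ⟨x, hx, rfl⟩ := hk
  exact ⟨x, hx, rfl⟩

theorem cj_sup (g : G) (H K : Subgroup G) : cj g (H ⊔ K) = cj g H ⊔ cj g K := Subgroup.map_sup H K _

/-- A Sylow 2-subgroup meets a normal subgroup in a Sylow 2-subgroup. -/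
theorem syl_inf [Finite G] {T H N : Subgroup G} (hT : Syl T H) (hN : N ≤ H)
    (hn : ∀ h ∈ H, ∀ n ∈ N, h * n * h⁻¹ ∈ N) : Syl (T ⊓ N) N := by
  refine ⟨inf_le_right, hT.2.1.to_le inf_le_left, ?_⟩
  intro R hR h2 hTR
  obtain ⟨S, hS, hRS⟩ := exists_syl h2 (hR.trans hN)
  obtain ⟨x, hx, e⟩ := syl_conj hS hT
  have h1 : cj x R ≤ T ⊓ N := by
    rintro _ ⟨r, hr, rfl⟩
    refine ⟨?_, hn x hx r (hR hr)⟩
    rw [← e]
    exact ⟨r, hRS hr, rfl⟩
  have h3 := Subgroup.card_le_of_le h1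
  rw [card_cj] at h3
  exact (Subgroup.eq_of_le_of_card_ge hTR h3).symm

/-- If all squares of `Y` lie in the normal subgroup `C`, then `Y = T C` for a Sylow 2-subgroup `T`. -/
theorem dec_of_sq [Finite G] {T Y C : Subgroup G} (hT : Syl T Y) (_hC : C ≤ Y)
    (hn : ∀ y ∈ Y, ∀ c ∈ C, y * c * y⁻¹ ∈ C) (hsq : ∀ y ∈ Y, y * y ∈ C) {y : G} (hy : y ∈ Y) :
    ∃ t ∈ T, ∃ c ∈ C, y = t * c := by
  have h2 : Fact (Nat.Prime 2) := ⟨Nat.prime_two⟩
  obtain ⟨P, hP⟩ := syl_iff.1 hT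
  have hN : (C.subgroupOf Y).Normal := ⟨fun c hc g => by
    rw [mem_subgroupOf] at hc ⊢
    exact hn g g.2 c hc⟩
  have hp : IsPGroup 2 (Y ⧸ C.subgroupOf Y) := by
    intro q
    obtain ⟨g, rfl⟩ := QuotientGroup.mk'_surjective (C.subgroupOf Y) q
    refine ⟨1, ?_⟩
    rw [← map_pow, pow_one, pow_two, QuotientGroup.mk'_apply, QuotientGroup.eq_one_iff, mem_subgroupOf]
    exact hsq g g.2
  have hs := QuotientGroup.mk'_surjective (C.subgroupOf Y)
  have h3 : ((P.mapSurjective hs : Sylow 2 (Y ⧸ C.subgroupOf Y)) : Subgroup (Y ⧸ C.subgroupOf Y)) = ⊤ :=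
    (hp.to_subgroup ⊤ |> (P.mapSurjective hs).is_maximal' <| le_top).symm
  have h4 : QuotientGroup.mk' (C.subgroupOf Y) ⟨y, hy⟩ ∈
      ((P.mapSurjective hs : Sylow 2 (Y ⧸ C.subgroupOf Y)) : Subgroup (Y ⧸ C.subgroupOf Y)) := by
    rw [h3]; exact mem_top _
  rw [Sylow.coe_mapSurjective] at h4
  obtain ⟨t, ht, e⟩ := h4
  rw [QuotientGroup.mk'_apply, QuotientGroup.mk'_apply, QuotientGroup.eq, mem_subgroupOf] at e
  refine ⟨t, ?_, _, e, ?_⟩
  · rw [← hP]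
    exact ⟨t, ht, rfl⟩
  · change y = (t : G) * ((t : G)⁻¹ * y)
    group

/-- The elements of `L` which act trivially on `X` and on `W / X`. -/
def YY (L X W : Subgroup G) : Subgroup G where
  carrier := {g | g ∈ L ∧ g ∈ normalizer (W : Set G) ∧ (∀ x ∈ X, g * x = x * g) ∧
    ∀ w ∈ W, g * w * g⁻¹ * w⁻¹ ∈ X}
  one_mem' := ⟨one_mem _, one_mem _, fun x _ => by simp, fun w _ => by simp⟩
  mul_mem' := by
    rintro g h ⟨g1, g2, g3, g4⟩ ⟨h1, h2, h3, h4⟩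
    refine ⟨mul_mem g1 h1, mul_mem g2 h2, fun x hx => ?_, fun w hw => ?_⟩
    · rw [mul_assoc, h3 x hx, ← mul_assoc, g3 x hx, mul_assoc]
    · have e1 := g3 _ (h4 w hw)
      have e2 : g * h * w * (g * h)⁻¹ * w⁻¹ = g * (h * w * h⁻¹ * w⁻¹) * w * g⁻¹ * w⁻¹ := by group
      have e3 : g * (h * w * h⁻¹ * w⁻¹) * w * g⁻¹ * w⁻¹ = (h * w * h⁻¹ * w⁻¹) * (g * w * g⁻¹ * w⁻¹) := by
        rw [e1]; group
      rw [e2, e3]
      exact mul_mem (h4 w hw) (g4 w hw)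
  inv_mem' := by
    rintro g ⟨g1, g2, g3, g4⟩
    refine ⟨inv_mem g1, inv_mem g2, fun x hx => ?_, fun w hw => ?_⟩
    · have := g3 x hx
      calc g⁻¹ * x = g⁻¹ * (x * g) * g⁻¹ := by group
        _ = g⁻¹ * (g * x) * g⁻¹ := by rw [this]
        _ = x * g⁻¹ := by group
    · have h1 := g4 _ (conj_mem_of_norm' g2 hw)
      have h2 := inv_mem h1
      have e : (g * (g⁻¹ * w * g) * g⁻¹ * (g⁻¹ * w * g)⁻¹)⁻¹ = g⁻¹ * w * g⁻¹⁻¹ * w⁻¹ := by group
      rwa [e] at h2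

/-- **The Sylow argument**: the elements of `YY` act on `W` like elements of `S ∩ YY`. -/
theorem act [Finite G] {S L X W : Subgroup G} (hS : Syl S L) (SX : S ≤ normalizer (X : Set G))
    (SW : S ≤ normalizer (W : Set G)) (X2 : ∀ x ∈ X, x * x = 1) {g : G} (hg : g ∈ YY L X W) :
    ∃ t ∈ S, (∀ x ∈ X, t * x = x * t) ∧ ∀ w ∈ W, g * w * g⁻¹ = t * w * t⁻¹ := by
  set H : Subgroup G := L ⊓ normalizer (X : Set G) ⊓ normalizer (W : Set G) with hH
  have hSH : Syl S H := by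
    refine ⟨le_inf (le_inf hS.1 SX) SW, hS.2.1, fun Q hQ h2 h => hS.2.2 Q (hQ.trans (inf_le_left.trans inf_le_left)) h2 h⟩
  have hYH : YY L X W ≤ H := by
    rintro g ⟨g1, g2, g3, -⟩
    refine ⟨⟨g1, mem_norm_of fun x hx => ?_⟩, g2⟩
    rw [g3 x hx, mul_inv_cancel_right]
    exact hx
  have hYn : ∀ h ∈ H, ∀ n ∈ YY L X W, h * n * h⁻¹ ∈ YY L X W := by
    rintro h ⟨⟨h1, h2⟩, h3⟩ n ⟨n1, n2, n3, n4⟩
    refine ⟨mul_mem (mul_mem h1 n1) (inv_mem h1), mul_mem (mul_mem h3 n2) (inv_mem h3), fun x hx => ?_,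
      fun w hw => ?_⟩
    · have e1 := n3 _ (conj_mem_of_norm' h2 hx)
      calc h * n * h⁻¹ * x = h * (n * (h⁻¹ * x * h)) * h⁻¹ := by group
        _ = h * ((h⁻¹ * x * h) * n) * h⁻¹ := by rw [e1]
        _ = x * (h * n * h⁻¹) := by group
    · have e1 := conj_mem_of_norm h2 (n4 _ (conj_mem_of_norm' h3 hw))
      have e : h * (n * (h⁻¹ * w * h) * n⁻¹ * (h⁻¹ * w * h)⁻¹) * h⁻¹ =
          h * n * h⁻¹ * w * (h * n * h⁻¹)⁻¹ * w⁻¹ := by group
      rwa [e] at e1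
  have h1 := syl_inf hSH hYH hYn
  obtain ⟨t, ht, c, hc, rfl⟩ := dec_of_sq (C := YY L X W ⊓ centralizer (W : Set G)) h1 inf_le_left
    (fun y hy c hc => mem_inf.2 ⟨mul_mem (mul_mem hy (mem_inf.1 hc).1) (inv_mem hy), by
      have h2 := hy.2.1
      have h3 : centralizer (W : Set G) = centralizer ((cj y W : Subgroup G) : Set G) := by
        rw [cj_eq_of_mem_normalizer h2]
      rw [h3, ← cj_centralizer]
      exact mem_cj_of (mem_inf.1 hc).2⟩)
    (fun y hy => mem_inf.2 ⟨mul_mem hy hy, by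
      rw [mem_centralizer_iff]
      intro w hw
      have h2 := hy.2.2.2 w hw
      have h3 := hy.2.2.1 _ h2
      have h4 := X2 _ h2
      set x := y * w * y⁻¹ * w⁻¹ with hx
      have h5 : y * w = x * w * y := by rw [hx]; group
      calc w * (y * y) = (x * x) * w * (y * y) := by rw [h4, one_mul]
        _ = x * (x * w * y) * y := by group
        _ = x * (y * w) * y := by rw [h5]
        _ = (x * y) * w * y := by group
        _ = (y * x) * w * y := by rw [h3]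
        _ = y * (x * w * y) := by group
        _ = y * (y * w) := by rw [h5]
        _ = y * y * w := by group⟩) hg
  refine ⟨t, ht.1, ht.2.2.2.1, fun w hw => ?_⟩
  have h2 := mem_centralizer_iff.1 hc.2 w hw
  calc t * c * w * (t * c)⁻¹ = t * (c * w) * c⁻¹ * t⁻¹ := by group
    _ = t * (w * c) * c⁻¹ * t⁻¹ := by rw [h2]
    _ = t * w * t⁻¹ := by group

/-! ### The situation -/

/-- The situation of (F), (G). -/
structure Dat (S B B0 X K F c U A : Subgroup G) (s : G) : Prop where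
  /-- `S` is a Sylow 2-subgroup of `⟨K, S⟩` -/
  syl : Syl S (K ⊔ S)
  BS : B ≤ S
  nB : S ≤ normalizer (B : Set G)
  sS : s ∈ S
  /-- `|S : B| = 2` -/
  sB : ∀ g ∈ S, g ∈ B ∨ s * g ∈ B
  SX : S ≤ normalizer (X : Set G)
  Xc : ∀ x ∈ X, ∀ y ∈ X, x * y = y * x
  X2 : ∀ x ∈ X, x * x = 1
  eB : B0 = S ⊓ centralizer (X : Set G)
  cardX : Nat.card X ≤ Nat.card c * Nat.card c
  /-- `B` permutes the lines `c^k`, `k ∈ K` -/
  BL : ∀ b ∈ B, ∀ k ∈ K, ∃ k' ∈ K, cj (b * k) c = cj k' c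
  B0K : B0 ≤ K
  KF : K ≤ normalizer (F : Set G)
  BF : B ≤ normalizer (F : Set G)
  KP : K ≤ normalizer ((B0 ⊓ centralizer (F : Set G) : Subgroup G) : Set G)
  cF : c ≤ F
  cX : c ≤ X
  /-- `[F, B₀] ≤ c` -/
  com : ∀ f ∈ F, ∀ b ∈ B0, b * f * b⁻¹ * f⁻¹ ∈ c
  /-- `X = c C_X(K)` -/
  split : ∀ x ∈ X, ∃ a ∈ c, ∃ y ∈ X, (∀ k ∈ K, k * y = y * k) ∧ x = a * y
  gen : ∀ x ∈ K, cj x c ≠ c → ∀ Y : Subgroup G, B0 ≤ Y → cj x B0 ≤ Y → K ≤ Y
  ex : ∃ x ∈ K, cj x c ≠ c ∧ ∀ f ∈ F, ∃ a ∈ c, ∃ b ∈ c, f = a * (x * b * x⁻¹)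
  Uc : ∀ x ∈ U, ∀ y ∈ U, x * y = y * x
  FU : F ≤ U
  KU : K ≤ normalizer (U : Set G)
  SU : S ≤ normalizer (U : Set G)
  AB : A ≤ B0
  /-- `B₀ = A C_{B₀}(F)` -/
  dec : ∀ b ∈ B0, ∃ a ∈ A, ∃ p ∈ B0, (∀ f ∈ F, p * f = f * p) ∧ b = a * p
  /-- `U = F C_U(A)` -/
  full : ∀ u ∈ U, ∃ f ∈ F, ∃ y ∈ U, (∀ a ∈ A, a * y = y * a) ∧ u = f * y
  /-- `c^s ≤ C(K)` (from (5)) -/
  cs : ∀ y ∈ c, ∀ k ∈ K, k * (s * y * s⁻¹) = s * y * s⁻¹ * k
  /-- a torus element -/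
  tor : ∃ h ∈ K, cj h c = c ∧ ∀ f ∈ F, h * f = f * h → f = 1

namespace Dat

variable {S B B0 X K F c U A : Subgroup G} {s : G} (d : Dat S B B0 X K F c U A s)

include d

theorem SB0 {g : G} (hg : g ∈ S) : cj g B0 = B0 := by
  rw [d.eB, cj_inf, cj_centralizer, cj_eq_of_mem_normalizer (le_normalizer hg), cj_eq_of_mem_normalizer (d.SX hg)]

theorem B0S : B0 ≤ S := by rw [d.eB]; exact inf_le_left

theorem B0X {b x : G} (hb : b ∈ B0) (hx : x ∈ X) : b * x = x * b := by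
  rw [d.eB] at hb
  exact (mem_centralizer_iff.1 hb.2 x hx).symm

theorem sB0 {g b : G} (hg : g ∈ S) (hb : b ∈ B0) : g⁻¹ * b * g ∈ B0 := by
  have h := d.SB0 (inv_mem hg)
  rw [← h]
  have := mem_cj_of (g := g⁻¹) hb
  rwa [inv_inv] at this

theorem ss : s * s ∈ B := by
  rcases d.sB s d.sS with h | h
  · exact mul_mem h h
  · exact h

theorem F_cen {y : G} (hy : y ∈ F) (h : ∀ k ∈ K, k * y = y * k) : y = 1 := by
  obtain ⟨t, ht, -, h1⟩ := d.tor
  exact h1 y hy (h t ht)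

theorem cFX : X ⊓ F = c := by
  apply le_antisymm _ (le_inf d.cX d.cF)
  rintro x ⟨hx, hxF⟩
  obtain ⟨a, ha, y, -, hk, rfl⟩ := d.split x hx
  have h1 : y ∈ F := by
    have := mul_mem (inv_mem (d.cF ha)) hxF
    rwa [inv_mul_cancel_left] at this
  rw [d.F_cen h1 hk, mul_one]
  exact ha

theorem Bc {g : G} (hg : g ∈ B) : cj g c = c := by
  have h := d.cFX
  rw [← h, cj_inf, cj_eq_of_mem_normalizer (d.SX (d.BS hg)), cj_eq_of_mem_normalizer (d.BF hg)]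

/-- `c^{s⁻¹} = c^s` -/
theorem c_inv : cj s⁻¹ c = cj s c := by
  have h := d.Bc d.ss
  rw [← cj_cj] at h
  calc cj s⁻¹ c = cj s⁻¹ (cj s (cj s c)) := by rw [h]
    _ = cj s c := cj_inv_cj _ _

/-- `F^{s⁻¹} = F^s` -/
theorem F_inv : cj s⁻¹ F = cj s F := by
  have h := cj_eq_of_mem_normalizer (d.BF d.ss)
  rw [← cj_cj] at h
  calc cj s⁻¹ F = cj s⁻¹ (cj s (cj s F)) := by rw [h]
    _ = cj s F := cj_inv_cj _ _

theorem ssF : cj s (cj s F) = F := by
  rw [cj_cj]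
  exact cj_eq_of_mem_normalizer (d.BF d.ss)

theorem ssc : cj s (cj s c) = c := by
  rw [cj_cj]
  exact d.Bc d.ss

/-- `g ∈ B` normalises `F^s`, `c^s` -/
theorem B_conj {g : G} (hg : g ∈ B) : s⁻¹ * g * s ∈ B := conj_mem_of_norm' (d.nB d.sS) hg

theorem BF2 {g : G} (hg : g ∈ B) : cj g (cj s F) = cj s F := by
  have h := cj_eq_of_mem_normalizer (d.BF (d.B_conj hg))
  rw [cj_cj]
  have e : g * s = s * (s⁻¹ * g * s) := by group
  rw [e, ← cj_cj, h]

theorem Bc2 {g : G} (hg : g ∈ B) : cj g (cj s c) = cj s c := by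
  have h := d.Bc (d.B_conj hg)
  rw [cj_cj]
  have e : g * s = s * (s⁻¹ * g * s) := by group
  rw [e, ← cj_cj, h]

theorem c2X : cj s c ≤ X := by
  have h := cj_eq_of_mem_normalizer (d.SX d.sS)
  rw [← h]
  exact cj_mono s d.cX

theorem c2F2 : cj s c ≤ cj s F := cj_mono s d.cF

theorem c2K {y k : G} (hy : y ∈ cj s c) (hk : k ∈ K) : k * y = y * k := by
  obtain ⟨x, hx, rfl⟩ := exists_of_mem_cj hy
  exact d.cs x hx k hk

theorem F_inf {y : G} (hy : y ∈ F) (hy' : y ∈ cj s c) : y = 1 := d.F_cen hy fun _ hk => d.c2K hy' hk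

theorem F2U : cj s F ≤ U := by
  have h := cj_eq_of_mem_normalizer (d.SU d.sS)
  rw [← h]
  exact cj_mono s d.FU

/-- `X = c × c^s`. -/
theorem Xdec [Finite G] {x : G} (hx : x ∈ X) : ∃ a ∈ c, ∃ b ∈ cj s c, x = a * b := by
  set C : Subgroup G := X ⊓ centralizer (K : Set G) with hC
  have h1 : cj s c ≤ C := le_inf d.c2X fun y hy => mem_centralizer_iff.2 fun k hk => d.c2K hy hk
  have h2 : X = c ⊔ C := by
    apply le_antisymm _ (sup_le d.cX inf_le_left)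
    intro y hy
    obtain ⟨a, ha, z, hz, hk, rfl⟩ := d.split y hy
    exact mul_mem (mem_sup_left ha) (mem_sup_right ⟨hz, mem_centralizer_iff.2 fun k hk' => hk k hk'⟩)
  have h3 := card_sup_comm (A := c) (B := C) fun a ha b hb => d.Xc a (d.cX ha) b hb.1
  have h4 : c ⊓ C = ⊥ := by
    rw [eq_bot_iff]
    rintro y ⟨hy, hy'⟩
    rw [mem_bot]
    exact d.F_cen (d.cF hy) fun k hk => mem_centralizer_iff.1 hy'.2 k hk
  rw [← h2, h4, Subgroup.card_bot, mul_one] at h3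
  have h5 : Nat.card C ≤ Nat.card c := by
    have h6 := d.cardX
    rw [h3] at h6
    exact Nat.le_of_mul_le_mul_left h6 Nat.card_pos
  have h6 : cj s c = C := Subgroup.eq_of_le_of_card_ge h1 (by rw [card_cj]; exact h5)
  have h7 : x ∈ c ⊔ C := by rw [← h2]; exact hx
  obtain ⟨a, ha, b, hb, rfl⟩ := mem_sup_comm (A := c) (B := C)
    (fun a ha b hb => d.Xc a (d.cX ha) b (mem_inf.1 hb).1) h7
  exact ⟨a, ha, b, by rw [h6]; exact hb, rfl⟩

/-- `[U, A] ≤ c` -/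
theorem UA {u a : G} (hu : u ∈ U) (ha : a ∈ A) : a * u * a⁻¹ * u⁻¹ ∈ c := by
  obtain ⟨f, hf, y, -, hy, rfl⟩ := d.full u hu
  have h1 := d.com f hf a (d.AB ha)
  have h2 := hy a ha
  have e : a * (f * y) * a⁻¹ * (f * y)⁻¹ = a * f * a⁻¹ * f⁻¹ := by
    have h3 : y * a⁻¹ = a⁻¹ * y := by
      calc y * a⁻¹ = a⁻¹ * (a * y) * a⁻¹ := by group
        _ = a⁻¹ * (y * a) * a⁻¹ := by rw [h2]
        _ = a⁻¹ * y := by group
    calc a * (f * y) * a⁻¹ * (f * y)⁻¹ = a * f * (y * a⁻¹) * y⁻¹ * f⁻¹ := by group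
      _ = a * f * (a⁻¹ * y) * y⁻¹ * f⁻¹ := by rw [h3]
      _ = _ := by group
  rw [e]
  exact h1

/-- `A` centralises `F^s` -/
theorem AF2 {a y : G} (ha : a ∈ A) (hy : y ∈ cj s F) : a * y = y * a := by
  have h1 := d.UA (d.F2U hy) ha
  obtain ⟨f, hf, rfl⟩ := exists_of_mem_cj hy
  have h2 : s⁻¹ * (a * (s * f * s⁻¹) * a⁻¹ * (s * f * s⁻¹)⁻¹) * s ∈ cj s c := by
    rw [← d.c_inv]
    have := mem_cj_of (g := s⁻¹) h1
    rwa [inv_inv] at this
  have h3 : s⁻¹ * (a * (s * f * s⁻¹) * a⁻¹ * (s * f * s⁻¹)⁻¹) * s ∈ F := by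
    have h4 := d.sB0 d.sS (d.AB ha)
    have h5 := conj_mem_of_norm (d.KF (d.B0K h4)) hf
    have h6 := mul_mem h5 (inv_mem hf)
    have e : s⁻¹ * a * s * f * (s⁻¹ * a * s)⁻¹ * f⁻¹ =
        s⁻¹ * (a * (s * f * s⁻¹) * a⁻¹ * (s * f * s⁻¹)⁻¹) * s := by group
    rwa [e] at h6
  have h4 := d.F_inf h3 h2
  have h5 : a * (s * f * s⁻¹) * a⁻¹ * (s * f * s⁻¹)⁻¹ = 1 := by
    have e : a * (s * f * s⁻¹) * a⁻¹ * (s * f * s⁻¹)⁻¹ =
        s * (s⁻¹ * (a * (s * f * s⁻¹) * a⁻¹ * (s * f * s⁻¹)⁻¹) * s) * s⁻¹ := by group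
    rw [e, h4]; group
  have h6 := mul_inv_eq_one.1 h5
  exact mul_inv_eq_iff_eq_mul.1 h6

/-- `[F^s, B₀] ≤ c^s` -/
theorem comF2 {b y : G} (hb : b ∈ B0) (hy : y ∈ cj s F) : b * y * b⁻¹ * y⁻¹ ∈ cj s c := by
  obtain ⟨f, hf, rfl⟩ := exists_of_mem_cj hy
  have h1 := mem_cj_of (g := s) (d.com f hf _ (d.sB0 d.sS hb))
  have e : s * (s⁻¹ * b * s * f * (s⁻¹ * b * s)⁻¹ * f⁻¹) * s⁻¹ =
      b * (s * f * s⁻¹) * b⁻¹ * (s * f * s⁻¹)⁻¹ := by group
  rwa [e] at h1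

section E

variable {x : G} (hx : x ∈ K) (hxc : cj x c ≠ c) (hsp : ∀ f ∈ F, ∃ a ∈ c, ∃ b ∈ c, f = a * (x * b * x⁻¹))

include hx

theorem E_le : A ⊔ cj x A ≤ K := by
  refine sup_le (d.AB.trans d.B0K) ?_
  rintro _ ⟨a, ha, rfl⟩
  exact mul_mem (mul_mem hx (d.B0K (d.AB ha))) (inv_mem hx)

include hxc

/-- `K = E π` -/
theorem K_dec {k : G} (hk : k ∈ K) : ∃ e ∈ A ⊔ cj x A, ∃ p ∈ B0, (∀ f ∈ F, p * f = f * p) ∧ k = e * p := by
  set P : Subgroup G := B0 ⊓ centralizer (F : Set G) with hP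
  have h0 : ∀ b ∈ B0, ∃ a ∈ A, ∃ p ∈ P, b = a * p := by
    intro b hb
    obtain ⟨a, ha, p, hp, hf, rfl⟩ := d.dec b hb
    exact ⟨a, ha, p, ⟨hp, mem_centralizer_iff.2 fun f hf' => (hf f hf').symm⟩, rfl⟩
  have h1 : K ≤ (A ⊔ cj x A) ⊔ P := by
    refine d.gen x hx hxc _ (fun b hb => ?_) ?_
    · obtain ⟨a, ha, p, hp, rfl⟩ := h0 b hb
      exact mul_mem (mem_sup_left (mem_sup_left ha)) (mem_sup_right hp)
    · rintro _ ⟨b, hb, rfl⟩
      obtain ⟨a, ha, p, hp, rfl⟩ := h0 b hb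
      have h2 : x * p * x⁻¹ ∈ P := conj_mem_of_norm (d.KP hx) hp
      have e : x * (a * p) * x⁻¹ = (x * a * x⁻¹) * (x * p * x⁻¹) := by group
      change x * (a * p) * x⁻¹ ∈ _
      rw [e]
      exact mul_mem (mem_sup_left (mem_sup_right (mem_cj_of ha))) (mem_sup_right h2)
  obtain ⟨e, he, p, hp, rfl⟩ := mem_sup_norm ((d.E_le hx).trans d.KP) (h1 hk)
  exact ⟨e, he, p, hp.1, fun f hf => (mem_centralizer_iff.1 hp.2 f hf).symm, rfl⟩

/-- The torus element in `E`. -/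
theorem tor_E : ∃ e ∈ A ⊔ cj x A, e ∈ K ∧ cj e c = c ∧ ∀ f ∈ F, e * f = f * e → f = 1 := by
  obtain ⟨t, ht, htc, htf⟩ := d.tor
  obtain ⟨e, he, p, -, hpf, rfl⟩ := d.K_dec hx hxc ht
  refine ⟨e, he, d.E_le hx he, ?_, fun f hf h => htf f hf ?_⟩
  · have h1 : cj p c = c := by
      apply mem_normalizer_iff_cj.1
      rw [mem_normalizer_iff]
      intro y
      constructor
      · intro hy
        rw [hpf y (d.cF hy), mul_inv_cancel_right]
        exact hy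
      · intro hy
        have h2 := hpf _ (d.cF hy)
        have h3 : y = p * y * p⁻¹ := by
          have h4 : p * (p * y * p⁻¹) = p * y := by rw [h2]; group
          exact (mul_left_cancel h4).symm
        rw [h3]
        exact hy
    rw [← cj_cj, h1] at htc
    exact htc
  · calc e * p * f = e * (p * f) := by group
      _ = e * (f * p) := by rw [hpf f hf]
      _ = (e * f) * p := by group
      _ = f * (e * p) := by rw [h]; group

include hsp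
omit hxc

/-- `F^s ≤ c C_U(E)` -/
theorem dec2 {y : G} (hy : y ∈ cj s F) :
    ∃ a ∈ c, ∃ w ∈ U, (∀ e ∈ A ⊔ cj x A, e * w = w * e) ∧ y = a * w := by
  have hyU := d.F2U hy
  obtain ⟨f', hf', u, hu, hua, e0⟩ := d.full _ (conj_mem_of_norm' (d.KU hx) hyU)
  obtain ⟨a, ha, b, hb, e1⟩ := hsp _ (conj_mem_of_norm (d.KF hx) hf')
  have e2 : y = a * ((x * b * x⁻¹) * (x * u * x⁻¹)) := by
    calc y = x * (x⁻¹ * y * x) * x⁻¹ := by group
      _ = (x * f' * x⁻¹) * (x * u * x⁻¹) := by rw [e0]; group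
      _ = _ := by rw [e1]; group
  have hxb : x * b * x⁻¹ ∈ U := conj_mem_of_norm (d.KU hx) (d.FU (d.cF hb))
  have hxu : x * u * x⁻¹ ∈ U := conj_mem_of_norm (d.KU hx) hu
  refine ⟨a, ha, _, mul_mem hxb hxu, ?_, e2⟩
  set w := (x * b * x⁻¹) * (x * u * x⁻¹) with hw
  have h1 : A ⊔ cj x A ≤ centralizer ({w} : Set G) := by
    refine sup_le (fun g hg => ?_) ?_
    · rw [mem_centralizer_iff]
      rintro _ rfl
      have h2 := d.AF2 hg hy
      have h3 := d.B0X (d.AB hg) (d.cX ha)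
      rw [e2] at h2
      have h4 : g * (a * w) = a * (g * w) := by rw [← mul_assoc, h3, mul_assoc]
      rw [h4, mul_assoc] at h2
      exact (mul_left_cancel h2).symm
    · rintro _ ⟨g, hg, rfl⟩
      rw [mem_centralizer_iff]
      rintro _ rfl
      change w * (x * g * x⁻¹) = (x * g * x⁻¹) * w
      have h3 := d.B0X (d.AB hg) (d.cX hb)
      have h4 := hua g hg
      calc w * (x * g * x⁻¹) = x * (b * (u * g)) * x⁻¹ := by rw [hw]; group
        _ = x * ((b * g) * u) * x⁻¹ := by rw [← h4]; group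
        _ = x * ((g * b) * u) * x⁻¹ := by rw [h3]
        _ = (x * g * x⁻¹) * w := by rw [hw]; group
  intro e he
  exact (mem_centralizer_iff.1 (h1 he) w rfl).symm

/-- `[F^s, e] ≤ c` for `e ∈ N_E(c)`. -/
theorem phi {y e : G} (hy : y ∈ cj s F) (he : e ∈ A ⊔ cj x A) (hec : cj e c = c) : e * y * e⁻¹ * y⁻¹ ∈ c := by
  obtain ⟨a, ha, w, hw, hwe, rfl⟩ := d.dec2 hx hsp hy
  have h1 : e * a * e⁻¹ ∈ c := by
    rw [← hec]; exact mem_cj_of ha
  have h2 := hwe e he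
  have e1 : e * (a * w) * e⁻¹ * (a * w)⁻¹ = e * a * e⁻¹ * a⁻¹ := by
    have h3 : w * e⁻¹ = e⁻¹ * w := by
      calc w * e⁻¹ = e⁻¹ * (e * w) * e⁻¹ := by group
        _ = e⁻¹ * (w * e) * e⁻¹ := by rw [h2]
        _ = e⁻¹ * w := by group
    calc e * (a * w) * e⁻¹ * (a * w)⁻¹ = e * a * (w * e⁻¹) * w⁻¹ * a⁻¹ := by group
      _ = e * a * (e⁻¹ * w) * w⁻¹ * a⁻¹ := by rw [h3]
      _ = _ := by group
  rw [e1]
  exact mul_mem h1 (inv_mem ha)

end E

/-! ### The commutator of the two tori -/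

omit d in
theorem comm_inv {g y : G} (h : g * y = y * g) : g⁻¹ * y = y * g⁻¹ := by
  calc g⁻¹ * y = g⁻¹ * (y * g) * g⁻¹ := by group
    _ = g⁻¹ * (g * y) * g⁻¹ := by rw [h]
    _ = y * g⁻¹ := by group

omit d in
theorem conj_eq {g y : G} (h : g * y = y * g) : g * y * g⁻¹ = y := by rw [h, mul_inv_cancel_right]

section T

variable [Finite G] {e : G}

omit [Finite G] in
/-- `F`, `F^s` generate `W`. -/
theorem W_dec {w : G} (hw : w ∈ F ⊔ cj s F) : ∃ f ∈ F, ∃ y ∈ cj s F, w = f * y :=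
  mem_sup_comm (fun a ha b hb => d.Uc a (d.FU ha) b (d.F2U hb)) hw

omit [Finite G] in
theorem W_le : F ⊔ cj s F ≤ U := sup_le d.FU d.F2U

omit [Finite G] in
theorem SW : S ≤ normalizer ((F ⊔ cj s F : Subgroup G) : Set G) := by
  have hB : ∀ g ∈ B, cj g (F ⊔ cj s F) = F ⊔ cj s F := by
    intro g hg
    rw [cj_sup, cj_eq_of_mem_normalizer (d.BF hg), d.BF2 hg]
  have hs : cj s (F ⊔ cj s F) = F ⊔ cj s F := by
    rw [cj_sup, d.ssF, sup_comm]
  intro g hg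
  rw [mem_normalizer_iff_cj]
  rcases d.sB g hg with h | h
  · exact hB g h
  · have h1 := hB _ h
    rw [← cj_cj] at h1
    have h2 := congrArg (cj s⁻¹) h1
    rw [cj_inv_cj] at h2
    rw [h2]
    have h3 := congrArg (cj s⁻¹) hs
    rw [cj_inv_cj] at h3
    exact h3.symm

/-- **`E` centralises `F^s`.** -/
theorem E_cen {x : G} (hx : x ∈ K) (hxc : cj x c ≠ c) (hsp : ∀ f ∈ F, ∃ a ∈ c, ∃ b ∈ c, f = a * (x * b * x⁻¹)) :
    ∀ g ∈ A ⊔ cj x A, ∀ y ∈ cj s F, g * y = y * g := by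
  obtain ⟨e, he, heK, hec, hef⟩ := d.tor_E hx hxc
  have hec' : cj e⁻¹ c = c := by
    have := congrArg (cj e⁻¹) hec
    rwa [cj_inv_cj, eq_comm] at this
  set e2 := s * e * s⁻¹ with he2
  -- `c`, `c^s` and `e`, `e2`
  have c1e : ∀ a ∈ c, e * a * e⁻¹ ∈ c := fun a ha => by
    have := mem_cj_of (g := e) ha
    rwa [hec] at this
  have c1e' : ∀ a ∈ c, e⁻¹ * a * e ∈ c := fun a ha => by
    have := mem_cj_of (g := e⁻¹) ha
    rwa [hec', inv_inv] at this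
  have c2e : ∀ b ∈ cj s c, e * b = b * e := fun b hb => d.c2K hb heK
  have c1e2 : ∀ a ∈ c, e2 * a = a * e2 := by
    intro a ha
    have h1 : s⁻¹ * a * s ∈ cj s c := by
      rw [← d.c_inv]
      have := mem_cj_of (g := s⁻¹) ha
      rwa [inv_inv] at this
    have h2 := c2e _ h1
    calc e2 * a = s * (e * (s⁻¹ * a * s)) * s⁻¹ := by rw [he2]; group
      _ = s * ((s⁻¹ * a * s) * e) * s⁻¹ := by rw [h2]
      _ = a * e2 := by rw [he2]; group
  have c2e2 : ∀ b ∈ cj s c, e2 * b * e2⁻¹ ∈ cj s c := by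
    rintro b hb
    obtain ⟨a, ha, rfl⟩ := exists_of_mem_cj hb
    have := mem_cj_of (g := s) (c1e a ha)
    have e1 : s * (e * a * e⁻¹) * s⁻¹ = e2 * (s * a * s⁻¹) * e2⁻¹ := by rw [he2]; group
    rwa [e1] at this
  have c2e2' : ∀ b ∈ cj s c, e2⁻¹ * b * e2 ∈ cj s c := by
    rintro b hb
    obtain ⟨a, ha, rfl⟩ := exists_of_mem_cj hb
    have := mem_cj_of (g := s) (c1e' a ha)
    have e1 : s * (e⁻¹ * a * e) * s⁻¹ = e2⁻¹ * (s * a * s⁻¹) * e2 := by rw [he2]; group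
    rwa [e1] at this
  -- `F`, `F^s`
  have f1e : ∀ f ∈ F, e * f * e⁻¹ ∈ F := fun f hf => conj_mem_of_norm (d.KF heK) hf
  have f1e' : ∀ f ∈ F, e⁻¹ * f * e ∈ F := fun f hf => conj_mem_of_norm' (d.KF heK) hf
  have f2e2 : ∀ y ∈ cj s F, e2 * y * e2⁻¹ ∈ cj s F := by
    rintro y hy
    obtain ⟨a, ha, rfl⟩ := exists_of_mem_cj hy
    have := mem_cj_of (g := s) (f1e a ha)
    have e1 : s * (e * a * e⁻¹) * s⁻¹ = e2 * (s * a * s⁻¹) * e2⁻¹ := by rw [he2]; group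
    rwa [e1] at this
  have f2e2' : ∀ y ∈ cj s F, e2⁻¹ * y * e2 ∈ cj s F := by
    rintro y hy
    obtain ⟨a, ha, rfl⟩ := exists_of_mem_cj hy
    have := mem_cj_of (g := s) (f1e' a ha)
    have e1 : s * (e⁻¹ * a * e) * s⁻¹ = e2⁻¹ * (s * a * s⁻¹) * e2 := by rw [he2]; group
    rwa [e1] at this
  have ph : ∀ y ∈ cj s F, e * y * e⁻¹ * y⁻¹ ∈ c := fun y hy => d.phi hx hsp hy he hec
  have ph' : ∀ y ∈ cj s F, e⁻¹ * y * e * y⁻¹ ∈ c := fun y hy => by
    have := d.phi hx hsp hy (inv_mem he) hec'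
    rwa [inv_inv] at this
  have hFs : ∀ f ∈ F, s⁻¹ * f * s ∈ cj s F := fun f hf => by
    rw [← d.F_inv]
    have := mem_cj_of (g := s⁻¹) hf
    rwa [inv_inv] at this
  have ps : ∀ f ∈ F, e2 * f * e2⁻¹ * f⁻¹ ∈ cj s c := by
    intro f hf
    have := mem_cj_of (g := s) (ph _ (hFs f hf))
    have e1 : s * (e * (s⁻¹ * f * s) * e⁻¹ * (s⁻¹ * f * s)⁻¹) * s⁻¹ = e2 * f * e2⁻¹ * f⁻¹ := by
      rw [he2]; group
    rwa [e1] at this
  have ps' : ∀ f ∈ F, e2⁻¹ * f * e2 * f⁻¹ ∈ cj s c := by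
    intro f hf
    have := mem_cj_of (g := s) (ph' _ (hFs f hf))
    have e1 : s * (e⁻¹ * (s⁻¹ * f * s) * e * (s⁻¹ * f * s)⁻¹) * s⁻¹ = e2⁻¹ * f * e2 * f⁻¹ := by
      rw [he2]; group
    rwa [e1] at this
  -- normalisers
  have eX : e ∈ normalizer (X : Set G) := mem_norm_of fun y hy => by
    obtain ⟨a, ha, b, hb, rfl⟩ := d.Xdec hy
    have h1 : e * (a * b) * e⁻¹ = (e * a * e⁻¹) * (e * b * e⁻¹) := by group
    rw [h1, conj_eq (c2e b hb)]
    exact mul_mem (d.cX (c1e a ha)) (d.c2X hb)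
  have eW : e ∈ normalizer ((F ⊔ cj s F : Subgroup G) : Set G) := mem_norm_of fun w hw => by
    obtain ⟨f, hf, y, hy, rfl⟩ := d.W_dec hw
    have h1 : e * (f * y) * e⁻¹ = (e * f * e⁻¹) * ((e * y * e⁻¹ * y⁻¹) * y) := by group
    rw [h1]
    exact mul_mem (mem_sup_left (f1e f hf)) (mul_mem (mem_sup_left (d.cF (ph y hy))) (mem_sup_right hy))
  have sX := d.SX d.sS
  have sW := d.SW d.sS
  have e2X : e2 ∈ normalizer (X : Set G) := mul_mem (mul_mem sX eX) (inv_mem sX)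
  have e2W : e2 ∈ normalizer ((F ⊔ cj s F : Subgroup G) : Set G) := mul_mem (mul_mem sW eW) (inv_mem sW)
  have eL : e ∈ K ⊔ S := mem_sup_left heK
  have e2L : e2 ∈ K ⊔ S := mul_mem (mul_mem (mem_sup_right d.sS) eL) (inv_mem (mem_sup_right d.sS))
  -- the commutator
  set n := e * e2 * e⁻¹ * e2⁻¹ with hn
  -- `n` on `F^s`
  have n2 : ∀ y ∈ cj s F, n * y * n⁻¹ * y⁻¹ =
      (e * y * e⁻¹ * y⁻¹) * (e * (e2⁻¹ * y * e2) * e⁻¹ * (e2⁻¹ * y * e2)⁻¹)⁻¹ := by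
    intro y hy
    set y' := e2⁻¹ * y * e2 with hy'
    have hy'F : y' ∈ cj s F := f2e2' y hy
    set q := e⁻¹ * y' * e * y'⁻¹ with hq
    have hqc : q ∈ c := ph' y' hy'F
    have h1 : n * y * n⁻¹ = e * (e2 * (e⁻¹ * y' * e) * e2⁻¹) * e⁻¹ := by rw [hn, hy']; group
    have h2 : e⁻¹ * y' * e = q * y' := by rw [hq]; group
    have h3 : e2 * (q * y') * e2⁻¹ = q * y := by
      calc e2 * (q * y') * e2⁻¹ = (e2 * q * e2⁻¹) * (e2 * y' * e2⁻¹) := by group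
        _ = q * (e2 * y' * e2⁻¹) := by rw [conj_eq (c1e2 q hqc)]
        _ = q * y := by rw [hy']; group
    have h4 : e * q * e⁻¹ = (e * y' * e⁻¹ * y'⁻¹)⁻¹ := by rw [hq]; group
    have h5 : e * (q * y) * e⁻¹ * y⁻¹ = (e * q * e⁻¹) * (e * y * e⁻¹ * y⁻¹) := by group
    rw [h1, h2, h3, h5, h4]
    exact d.Xc _ (inv_mem (d.cX (ph y' hy'F))) _ (d.cX (ph y hy))
  have n2c : ∀ y ∈ cj s F, n * y * n⁻¹ * y⁻¹ ∈ c := fun y hy => by
    rw [n2 y hy]
    exact mul_mem (ph y hy) (inv_mem (ph _ (f2e2' y hy)))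
  -- `n` on `F`
  have n1c : ∀ f ∈ F, n * f * n⁻¹ * f⁻¹ ∈ cj s c := by
    intro f hf
    set r := e2⁻¹ * f * e2 * f⁻¹ with hr
    have hrc : r ∈ cj s c := ps' f hf
    set f' := e⁻¹ * f * e with hf'
    have hf'F : f' ∈ F := f1e' f hf
    set p := e2 * f' * e2⁻¹ * f'⁻¹ with hp
    have hpc : p ∈ cj s c := ps f' hf'F
    set r' := e2 * r * e2⁻¹ with hr'
    have hr'c : r' ∈ cj s c := c2e2 r hrc
    have h1 : n * f * n⁻¹ = e * (e2 * (e⁻¹ * (r * f) * e) * e2⁻¹) * e⁻¹ := by rw [hn, hr]; group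
    have h2 : e⁻¹ * (r * f) * e = r * f' := by
      have h3 : e⁻¹ * r = r * e⁻¹ := comm_inv (c2e r hrc)
      calc e⁻¹ * (r * f) * e = (e⁻¹ * r) * f * e := by group
        _ = r * f' := by rw [h3, hf']; group
    have h3 : e2 * (r * f') * e2⁻¹ = r' * p * f' := by rw [hr', hp]; group
    have h4 : e * (r' * p * f') * e⁻¹ = (r' * p) * f := by
      calc e * (r' * p * f') * e⁻¹ = (e * (r' * p) * e⁻¹) * (e * f' * e⁻¹) := by group
        _ = (r' * p) * (e * f' * e⁻¹) := by rw [conj_eq (c2e _ (mul_mem hr'c hpc))]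
        _ = _ := by rw [hf']; group
    rw [h1, h2, h3, h4, mul_inv_cancel_right]
    exact mul_mem hr'c hpc
  have nY : n ∈ YY (K ⊔ S) X (F ⊔ cj s F) := by
    refine ⟨mul_mem (mul_mem (mul_mem eL e2L) (inv_mem eL)) (inv_mem e2L),
      mul_mem (mul_mem (mul_mem eW e2W) (inv_mem eW)) (inv_mem e2W), fun y hy => ?_, fun w hw => ?_⟩
    · obtain ⟨a, ha, b, hb, rfl⟩ := d.Xdec hy
      have h1 : n * a * n⁻¹ = a := by
        have k1 : e2⁻¹ * a = a * e2⁻¹ := comm_inv (c1e2 a ha)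
        have k2 := conj_eq (c1e2 _ (c1e' a ha))
        calc n * a * n⁻¹ = e * e2 * e⁻¹ * (e2⁻¹ * a) * e2 * e * e2⁻¹ * e⁻¹ := by rw [hn]; group
          _ = e * (e2 * (e⁻¹ * a * e) * e2⁻¹) * e⁻¹ := by rw [k1]; group
          _ = e * (e⁻¹ * a * e) * e⁻¹ := by rw [k2]
          _ = a := by group
      have h2 : n * b * n⁻¹ = b := by
        have k1 := c2e2' b hb
        have k2 : e⁻¹ * (e2⁻¹ * b * e2) = (e2⁻¹ * b * e2) * e⁻¹ := comm_inv (c2e _ k1)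
        calc n * b * n⁻¹ = e * e2 * (e⁻¹ * (e2⁻¹ * b * e2)) * e * e2⁻¹ * e⁻¹ := by rw [hn]; group
          _ = e * b * e⁻¹ := by rw [k2]; group
          _ = b := conj_eq (c2e b hb)
      have h3 : n * (a * b) * n⁻¹ = a * b := by
        calc n * (a * b) * n⁻¹ = (n * a * n⁻¹) * (n * b * n⁻¹) := by group
          _ = a * b := by rw [h1, h2]
      exact mul_inv_eq_iff_eq_mul.1 h3
    · obtain ⟨f, hf, y, hy, rfl⟩ := d.W_dec hw
      have h1 := n1c f hf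
      have h2 := n2c y hy
      have h3 : n * (f * y) * n⁻¹ * (f * y)⁻¹ = (n * f * n⁻¹ * f⁻¹) * (n * y * n⁻¹ * y⁻¹) := by
        have k1 := d.Uc f (d.FU hf) (n * y * n⁻¹ * y⁻¹) (d.FU (d.cF h2))
        calc n * (f * y) * n⁻¹ * (f * y)⁻¹ = (n * f * n⁻¹) * (n * y * n⁻¹ * y⁻¹) * f⁻¹ := by group
          _ = (n * f * n⁻¹ * f⁻¹) * (f * (n * y * n⁻¹ * y⁻¹)) * f⁻¹ := by group
          _ = (n * f * n⁻¹ * f⁻¹) * (n * y * n⁻¹ * y⁻¹) := by rw [k1]; group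
      rw [h3]
      exact mul_mem (d.c2X h1) (d.cX h2)
  obtain ⟨t, htS, htX, htW⟩ := act d.syl d.SX d.SW d.X2 nY
  have htB : t ∈ B0 := by
    rw [d.eB]
    exact ⟨htS, mem_centralizer_iff.2 fun y hy => (htX y hy).symm⟩
  -- `φ(y) = φ(y')`
  have key : ∀ y ∈ cj s F, e * y * e⁻¹ * y⁻¹ = e * (e2⁻¹ * y * e2) * e⁻¹ * (e2⁻¹ * y * e2)⁻¹ := by
    intro y hy
    have h1 : n * y * n⁻¹ * y⁻¹ ∈ cj s c := by
      rw [htW y (mem_sup_right hy)]
      exact d.comF2 htB hy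
    have h2 := d.F_inf (d.cF (n2c y hy)) h1
    rw [n2 y hy] at h2
    exact mul_inv_eq_one.1 h2
  -- `e` centralises `F^s`
  have hcen : ∀ u ∈ cj s F, e * u = u * e := by
    let ψ : cj s F → cj s F := fun y => y * ⟨e2⁻¹ * y * e2, f2e2' y y.2⟩⁻¹
    have hinj : Function.Injective ψ := by
      intro y z h
      have h0 : (y : G) * (e2⁻¹ * y * e2)⁻¹ = z * (e2⁻¹ * z * e2)⁻¹ := congrArg Subtype.val h
      set v : G := (z : G)⁻¹ * y with hv
      have hvF : v ∈ cj s F := mul_mem (inv_mem z.2) y.2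
      have h1 : e2⁻¹ * v * e2 = v := by
        have h2 : (z : G)⁻¹ * y = (e2⁻¹ * z * e2)⁻¹ * (e2⁻¹ * y * e2) := by
          calc (z : G)⁻¹ * y = (z : G)⁻¹ * (y * (e2⁻¹ * y * e2)⁻¹) * (e2⁻¹ * y * e2) := by group
            _ = (z : G)⁻¹ * (z * (e2⁻¹ * z * e2)⁻¹) * (e2⁻¹ * y * e2) := by rw [h0]
            _ = _ := by group
        rw [hv]
        calc e2⁻¹ * ((z : G)⁻¹ * y) * e2 = (e2⁻¹ * z * e2)⁻¹ * (e2⁻¹ * y * e2) := by group
          _ = _ := h2.symm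
      obtain ⟨f, hf, hvf⟩ := exists_of_mem_cj hvF
      have h3 : e * f = f * e := by
        have h4 : v * e2 = e2 * v := by
          calc v * e2 = e2 * (e2⁻¹ * v * e2) := by group
            _ = e2 * v := by rw [h1]
        rw [hvf, he2] at h4
        calc e * f = s⁻¹ * ((s * e * s⁻¹) * (s * f * s⁻¹)) * s := by group
          _ = s⁻¹ * ((s * f * s⁻¹) * (s * e * s⁻¹)) * s := by rw [h4]
          _ = f * e := by group
      have h5 := hef f hf h3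
      rw [h5] at hvf
      have h6 : (z : G)⁻¹ * y = 1 := by rw [← hv, hvf]; group
      exact Subtype.ext (inv_mul_eq_one.1 h6).symm
    have hsur : Function.Surjective ψ := Finite.surjective_of_injective hinj
    intro u hu
    obtain ⟨y, hy⟩ := hsur ⟨u, hu⟩
    have hyu : (y : G) * (e2⁻¹ * y * e2)⁻¹ = u := congrArg Subtype.val hy
    have h1 := key y y.2
    set y' := e2⁻¹ * (y : G) * e2 with hy'
    have hy'F : y' ∈ cj s F := f2e2' _ y.2
    have hc1 := d.Uc (e * y' * e⁻¹ * y'⁻¹) (d.FU (d.cF (ph y' hy'F))) _ (d.F2U y.2)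
    have h2 : e * u * e⁻¹ = u := by
      rw [← hyu]
      have h3 : e * (y : G) * e⁻¹ = (e * y * e⁻¹ * (y : G)⁻¹) * y := by group
      calc e * ((y : G) * y'⁻¹) * e⁻¹ = (e * (y : G) * e⁻¹) * (e * y' * e⁻¹)⁻¹ := by group
        _ = ((e * y' * e⁻¹ * y'⁻¹) * y) * (e * y' * e⁻¹)⁻¹ := by rw [h3, h1]
        _ = ((y : G) * (e * y' * e⁻¹ * y'⁻¹)) * (e * y' * e⁻¹)⁻¹ := by rw [hc1]
        _ = (y : G) * ((e * y' * e⁻¹ * y'⁻¹) * (e * y' * e⁻¹)⁻¹) := by group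
        _ = (y : G) * y'⁻¹ := by
          have hc2 := d.Uc (e * y' * e⁻¹) ((d.SU.trans le_rfl |> fun _ =>
            conj_mem_of_norm (d.KU heK) (d.F2U hy'F))) y'⁻¹ (inv_mem (d.F2U hy'F))
          rw [hc2]; group
    exact mul_inv_eq_iff_eq_mul.1 h2
  -- `E` centralises `F^s`
  intro g hg y hy
  obtain ⟨a, ha, w, hw, hwe, rfl⟩ := d.dec2 hx hsp hy
  have h1 := hcen _ hy
  have h2 := hwe e he
  have h3 : e * a = a * e := by
    have h4 : (e * a) * w = (a * e) * w := by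
      calc (e * a) * w = e * (a * w) := by group
        _ = a * w * e := h1
        _ = a * (w * e) := by group
        _ = a * (e * w) := by rw [h2]
        _ = (a * e) * w := by group
    exact mul_right_cancel h4
  rw [hef a (d.cF ha) h3, one_mul]
  exact hwe g hg

end T

/-! ### (F) -/

/-- **(F)**: `K` normalises `F^s`. -/
theorem K_norm [Finite G] : K ≤ normalizer ((cj s F : Subgroup G) : Set G) := by
  obtain ⟨x, hx, hxc, hsp⟩ := d.ex
  intro k hk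
  obtain ⟨e, he, p, hp, -, rfl⟩ := d.K_dec hx hxc hk
  have h1 : e ∈ normalizer ((cj s F : Subgroup G) : Set G) := mem_norm_of fun y hy => by
    rw [conj_eq (d.E_cen hx hxc hsp e he y hy)]
    exact hy
  refine mul_mem h1 (mem_norm_of fun y hy => ?_)
  have h2 := mul_mem (d.c2F2 (d.comF2 hp hy)) hy
  rwa [inv_mul_cancel_right] at h2

/-- `F ∩ F^s = 1` -/
theorem inf_eq [Finite G] {y : G} (hy : y ∈ F) (hy' : y ∈ cj s F) : y = 1 := by
  obtain ⟨x, hx, hxc, hsp⟩ := d.ex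
  obtain ⟨e, he, -, -, hef⟩ := d.tor_E hx hxc
  exact hef y hy (d.E_cen hx hxc hsp e he y hy')

/-- `⟨K, S⟩` permutes `F`, `F^s`. -/
theorem perm [Finite G] {g : G} (hg : g ∈ K ⊔ S) :
    (cj g F = F ∧ cj g (cj s F) = cj s F) ∨ (cj g F = cj s F ∧ cj g (cj s F) = F) := by
  have hK : ∀ k ∈ K, cj k F = F ∧ cj k (cj s F) = cj s F := fun k hk =>
    ⟨cj_eq_of_mem_normalizer (d.KF hk), cj_eq_of_mem_normalizer (d.K_norm hk)⟩
  have hB : ∀ k ∈ B, cj k F = F ∧ cj k (cj s F) = cj s F := fun k hk =>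
    ⟨cj_eq_of_mem_normalizer (d.BF hk), d.BF2 hk⟩
  have hs : cj s⁻¹ F = cj s F ∧ cj s⁻¹ (cj s F) = F := ⟨d.F_inv, cj_inv_cj _ _⟩
  let H : Subgroup G :=
    { carrier := {g | (cj g F = F ∧ cj g (cj s F) = cj s F) ∨ (cj g F = cj s F ∧ cj g (cj s F) = F)}
      one_mem' := Or.inl ⟨cj_one _, cj_one _⟩
      mul_mem' := by
        rintro a b (⟨a1, a2⟩ | ⟨a1, a2⟩) (⟨b1, b2⟩ | ⟨b1, b2⟩)
        · exact Or.inl ⟨by rw [← cj_cj, b1, a1], by rw [← cj_cj, b2, a2]⟩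
        · exact Or.inr ⟨by rw [← cj_cj, b1, a2], by rw [← cj_cj, b2, a1]⟩
        · exact Or.inr ⟨by rw [← cj_cj, b1, a1], by rw [← cj_cj, b2, a2]⟩
        · exact Or.inl ⟨by rw [← cj_cj, b1, a2], by rw [← cj_cj, b2, a1]⟩
      inv_mem' := by
        rintro a (⟨a1, a2⟩ | ⟨a1, a2⟩)
        · refine Or.inl ⟨?_, ?_⟩
          · have := congrArg (cj a⁻¹) a1
            rw [cj_inv_cj] at this; exact this.symm
          · have := congrArg (cj a⁻¹) a2
            rw [cj_inv_cj] at this; exact this.symm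
        · refine Or.inr ⟨?_, ?_⟩
          · have := congrArg (cj a⁻¹) a2
            rw [cj_inv_cj] at this; exact this.symm
          · have := congrArg (cj a⁻¹) a1
            rw [cj_inv_cj] at this; exact this.symm }
  have hKH : K ≤ H := fun k hk => Or.inl (hK k hk)
  have hSH : S ≤ H := by
    intro g hg
    have h1 : s⁻¹ ∈ H := Or.inr hs
    rcases d.sB g hg with h | h
    · exact Or.inl (hB g h)
    · have h2 : s * g ∈ H := Or.inl (hB _ h)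
      have h3 := mul_mem h1 h2
      rwa [inv_mul_cancel_left] at h3
  exact sup_le hKH hSH hg

/-- The lines. -/
def Ln (K c : Subgroup G) (s : G) (D : Subgroup G) : Prop :=
  (∃ k ∈ K, D = cj k c) ∨ ∃ k ∈ K, D = cj (s * k) c

theorem ln [Finite G] {g : G} (hg : g ∈ K ⊔ S) {D : Subgroup G} (hD : Ln K c s D) : Ln K c s (cj g D) := by
  obtain ⟨x, hx, hxc, hsp⟩ := d.ex
  have hK : ∀ g ∈ K, ∀ D, Ln K c s D → Ln K c s (cj g D) := by
    rintro g hg D (⟨k, hk, rfl⟩ | ⟨k, hk, rfl⟩)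
    · exact Or.inl ⟨g * k, mul_mem hg hk, cj_cj _ _ _⟩
    · obtain ⟨e, he, p, hp, -, rfl⟩ := d.K_dec hx hxc hg
      have h1 : cj (s * k) c ≤ cj s F := by
        rw [← cj_cj]
        refine cj_mono s ?_
        rw [← cj_eq_of_mem_normalizer (d.KF hk)]
        exact cj_mono k d.cF
      have h2 : cj p (cj (s * k) c) ≤ cj s F := by
        have := cj_mono p h1
        have h3 : cj p (cj s F) = cj s F := by
          have h4 := cj_eq_of_mem_normalizer (d.K_norm (d.B0K hp))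
          exact h4
        rwa [h3] at this
      have h3 : cj e (cj p (cj (s * k) c)) = cj p (cj (s * k) c) := by
        apply mem_normalizer_iff_cj.1
        exact mem_norm_of fun y hy => by
          rw [conj_eq (d.E_cen hx hxc hsp e he y (h2 hy))]
          exact hy
      rw [← cj_cj, h3, cj_cj]
      refine Or.inr ⟨s⁻¹ * p * s * k, mul_mem (d.B0K (d.sB0 d.sS hp)) hk, ?_⟩
      congr 1
      group
  have hB : ∀ g ∈ B, ∀ D, Ln K c s D → Ln K c s (cj g D) := by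
    rintro g hg D (⟨k, hk, rfl⟩ | ⟨k, hk, rfl⟩)
    · obtain ⟨k', hk', e⟩ := d.BL g hg k hk
      exact Or.inl ⟨k', hk', by rw [cj_cj, e]⟩
    · have hg' := d.B_conj hg
      obtain ⟨k', hk', e⟩ := d.BL _ hg' k hk
      refine Or.inr ⟨k', hk', ?_⟩
      rw [cj_cj]
      have e1 : g * (s * k) = s * ((s⁻¹ * g * s) * k) := by group
      rw [e1, ← cj_cj, e, cj_cj]
  have hs : ∀ D, Ln K c s D → Ln K c s (cj s D) := by
    rintro D (⟨k, hk, rfl⟩ | ⟨k, hk, rfl⟩)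
    · exact Or.inr ⟨k, hk, cj_cj _ _ _⟩
    · obtain ⟨k', hk', e⟩ := d.BL _ d.ss k hk
      refine Or.inl ⟨k', hk', ?_⟩
      rw [cj_cj, ← mul_assoc, e]
  have hs' : ∀ D, Ln K c s D → Ln K c s (cj s⁻¹ D) := by
    intro D hD
    have h1 := hs _ (hB _ (inv_mem d.ss) _ hD)
    have e : s * (s * s)⁻¹ = s⁻¹ := by group
    rwa [cj_cj, e] at h1
  let H : Subgroup G :=
    { carrier := {g | (∀ D, Ln K c s D → Ln K c s (cj g D)) ∧ ∀ D, Ln K c s D → Ln K c s (cj g⁻¹ D)}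
      one_mem' := ⟨fun D hD => by rwa [cj_one], fun D hD => by rwa [inv_one, cj_one]⟩
      mul_mem' := by
        rintro a b ⟨a1, a2⟩ ⟨b1, b2⟩
        refine ⟨fun D hD => ?_, fun D hD => ?_⟩
        · rw [← cj_cj]
          exact a1 _ (b1 _ hD)
        · rw [mul_inv_rev, ← cj_cj]
          exact b2 _ (a2 _ hD)
      inv_mem' := by
        rintro a ⟨a1, a2⟩
        exact ⟨a2, fun D hD => by rw [inv_inv]; exact a1 D hD⟩ }
  have hKH : K ≤ H := fun k hk => ⟨hK k hk, hK _ (inv_mem hk)⟩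
  have hBH : B ≤ H := fun k hk => ⟨hB k hk, hB _ (inv_mem hk)⟩
  have hSH : S ≤ H := by
    intro g hg
    have h1 : s⁻¹ ∈ H := ⟨hs', fun D hD => by rw [inv_inv]; exact hs D hD⟩
    rcases d.sB g hg with h | h
    · exact hBH h
    · have h3 := mul_mem h1 (hBH h)
      rwa [inv_mul_cancel_left] at h3
  exact (sup_le hKH hSH hg).1 D hD

/-- A line which contains an element `≠ 1` of `c` is `c`. -/
theorem line_eq [Finite G] {D : Subgroup G} (hD : Ln K c s D) {a : G} (ha : a ∈ c) (ha1 : a ≠ 1) (haD : a ∈ D) :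
    D = c := by
  rcases hD with ⟨k, hk, rfl⟩ | ⟨k, hk, rfl⟩
  · by_contra hne
    apply ha1
    refine d.F_cen (d.cF ha) fun y hy => ?_
    have h1 : K ≤ centralizer ({a} : Set G) := by
      refine d.gen k hk hne _ (fun b hb => ?_) ?_
      · rw [mem_centralizer_iff]
        intro y hy
        rw [show y = a from hy]
        exact (d.B0X hb (d.cX ha)).symm
      · rintro _ ⟨b, hb, rfl⟩
        obtain ⟨a', ha', e⟩ := exists_of_mem_cj haD
        rw [mem_centralizer_iff]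
        intro y hy
        rw [show y = a from hy]
        change a * (k * b * k⁻¹) = k * b * k⁻¹ * a
        have h2 := d.B0X hb (d.cX ha')
        rw [e]
        calc k * a' * k⁻¹ * (k * b * k⁻¹) = k * (a' * b) * k⁻¹ := by group
          _ = k * (b * a') * k⁻¹ := by rw [h2]
          _ = k * b * k⁻¹ * (k * a' * k⁻¹) := by group
    exact (mem_centralizer_iff.1 (h1 hy) a rfl).symm
  · exfalso
    apply ha1
    refine d.inf_eq (d.cF ha) ?_
    have h1 : cj (s * k) c ≤ cj s F := by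
      rw [← cj_cj]
      refine cj_mono s ?_
      rw [← cj_eq_of_mem_normalizer (d.KF hk)]
      exact cj_mono k d.cF
    exact h1 haD

/-- The same for `c^s`. -/
theorem line_eq' [Finite G] {D : Subgroup G} (hD : Ln K c s D) {a : G} (ha : a ∈ cj s c) (ha1 : a ≠ 1)
    (haD : a ∈ D) : D = cj s c := by
  have hs : s⁻¹ ∈ K ⊔ S := mem_sup_right (inv_mem d.sS)
  have h1 := d.ln hs hD
  obtain ⟨y, hy, rfl⟩ := exists_of_mem_cj ha
  have hy1 : y ≠ 1 := by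
    rintro rfl
    exact ha1 (by group)
  have h2 : y ∈ cj s⁻¹ D := by
    have := mem_cj_of (g := s⁻¹) haD
    have e : s⁻¹ * (s * y * s⁻¹) * s⁻¹⁻¹ = y := by group
    rwa [e] at this
  have h3 := d.line_eq h1 hy hy1 h2
  rw [← h3, cj_cj_inv]

/-- **(G)**: the elements of `⟨K, S⟩` which centralise `z ∈ X`, `z ≠ 1` fixed by `S`, normalise `X`. -/
theorem cz_le [Finite G] {z g : G} (hz : z ∈ X) (hz1 : z ≠ 1) (hS : ∀ t ∈ S, t * z = z * t) (hg : g ∈ K ⊔ S)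
    (hgz : g * z = z * g) : g ∈ normalizer (X : Set G) := by
  obtain ⟨a, ha, b, hb, e0⟩ := d.Xdec hz
  have haF : a ∈ F := d.cF ha
  have hbF : b ∈ cj s F := d.c2F2 hb
  -- the decomposition is unique
  have huniq : ∀ x ∈ F, ∀ y ∈ cj s F, x * y = a * b → x = a ∧ y = b := by
    intro x hx y hy h
    have h1 : a⁻¹ * x = b * y⁻¹ := by
      calc a⁻¹ * x = a⁻¹ * (x * y) * y⁻¹ := by group
        _ = a⁻¹ * (a * b) * y⁻¹ := by rw [h]
        _ = b * y⁻¹ := by group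
    have h2 := d.inf_eq (mul_mem (inv_mem haF) hx) (by rw [h1]; exact mul_mem hbF (inv_mem hy))
    have h3 : a = x := inv_mul_eq_one.1 h2
    refine ⟨h3.symm, ?_⟩
    rw [← h3] at h
    exact mul_left_cancel h
  have hab : a * b = b * a := d.Xc a (d.cX ha) b (d.c2X hb)
  -- `a, b ≠ 1`
  have hs1 : s * z * s⁻¹ = z := by rw [hS s d.sS, mul_inv_cancel_right]
  have hsa : s * a * s⁻¹ ∈ cj s F := mem_cj_of haF
  have hsb : s * b * s⁻¹ ∈ F := by
    have := mem_cj_of (g := s) hbF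
    rwa [d.ssF] at this
  have h4 : (s * b * s⁻¹) * (s * a * s⁻¹) = a * b := by
    calc (s * b * s⁻¹) * (s * a * s⁻¹) = s * (b * a) * s⁻¹ := by group
      _ = s * (a * b) * s⁻¹ := by rw [hab]
      _ = a * b := by rw [← e0, hs1]
  obtain ⟨h5, h6⟩ := huniq _ hsb _ hsa h4
  have ha1 : a ≠ 1 := by
    rintro rfl
    apply hz1
    rw [e0, ← h6]; group
  have hb1 : b ≠ 1 := by
    rintro rfl
    apply hz1
    rw [e0, ← h5]; group
  have hgz' : (g * a * g⁻¹) * (g * b * g⁻¹) = a * b := by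
    calc (g * a * g⁻¹) * (g * b * g⁻¹) = g * (a * b) * g⁻¹ := by group
      _ = a * b := by rw [← e0, hgz, mul_inv_cancel_right]
  have hc : Ln K c s c := Or.inl ⟨1, one_mem _, (cj_one _).symm⟩
  have hc2 : Ln K c s (cj s c) := Or.inr ⟨1, one_mem _, by rw [mul_one]⟩
  have l1 := d.ln hg hc
  have l2 := d.ln hg hc2
  have hfin : (cj g c = c ∧ cj g (cj s c) = cj s c) ∨ (cj g c = cj s c ∧ cj g (cj s c) = c) := by
    rcases d.perm hg with ⟨p1, p2⟩ | ⟨p1, p2⟩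
    · have k1 : g * a * g⁻¹ ∈ F := by rw [← p1]; exact mem_cj_of haF
      have k2 : g * b * g⁻¹ ∈ cj s F := by rw [← p2]; exact mem_cj_of hbF
      obtain ⟨k3, k4⟩ := huniq _ k1 _ k2 hgz'
      refine Or.inl ⟨d.line_eq l1 ha ha1 ?_, d.line_eq' l2 hb hb1 ?_⟩
      · have := mem_cj_of (g := g) ha
        rwa [k3] at this
      · have := mem_cj_of (g := g) hb
        rwa [k4] at this
    · have k1 : g * a * g⁻¹ ∈ cj s F := by rw [← p1]; exact mem_cj_of haF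
      have k2 : g * b * g⁻¹ ∈ F := by rw [← p2]; exact mem_cj_of hbF
      have k0 : (g * b * g⁻¹) * (g * a * g⁻¹) = a * b := by
        calc (g * b * g⁻¹) * (g * a * g⁻¹) = g * (b * a) * g⁻¹ := by group
          _ = g * (a * b) * g⁻¹ := by rw [hab]
          _ = (g * a * g⁻¹) * (g * b * g⁻¹) := by group
          _ = a * b := hgz'
      obtain ⟨k3, k4⟩ := huniq _ k2 _ k1 k0
      refine Or.inr ⟨d.line_eq' l1 hb hb1 ?_, d.line_eq l2 ha ha1 ?_⟩
      · have := mem_cj_of (g := g) ha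
        rwa [k4] at this
      · have := mem_cj_of (g := g) hb
        rwa [k3] at this
  refine mem_norm_of fun y hy => ?_
  obtain ⟨u, hu, v, hv, rfl⟩ := d.Xdec hy
  have e1 : g * (u * v) * g⁻¹ = (g * u * g⁻¹) * (g * v * g⁻¹) := by group
  rw [e1]
  have m1 := mem_cj_of (g := g) hu
  have m2 := mem_cj_of (g := g) hv
  rcases hfin with ⟨f1, f2⟩ | ⟨f1, f2⟩
  · rw [f1] at m1
    rw [f2] at m2
    exact mul_mem (d.cX m1) (d.c2X m2)
  · rw [f1] at m1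
    rw [f2] at m2
    exact mul_mem (d.c2X m1) (d.cX m2)

/-- `K` does not normalise `X`. -/
theorem not_le : ¬ K ≤ normalizer (X : Set G) := by
  obtain ⟨x, hx, hxc, -⟩ := d.ex
  intro h
  apply hxc
  have h1 := d.cFX
  rw [← h1, cj_inf, cj_eq_of_mem_normalizer (h hx), cj_eq_of_mem_normalizer (d.KF hx)]

end Dat

end Cfsg.Agent.Omega.OM.Lev.Low.End

end

section


/-!
# TORUS, `k = 2 = q`: the splitting of the block

Over `TwoRes.Res`: if `[[M, K], B0]^(s⁻¹) ≤ C(K)` for some `s ∈ S - B`, then `c^ := [[M, K], B0] = c`, `[M, K] ∩ D = 1`,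
`|[M, K]| = 16`, `[M, K] ∩ N1 = c` (`split`).
-/

set_option autoImplicit false
set_option linter.unusedSectionVars false

namespace Cfsg.Agent.Omega.OM.Lev.Low.TwoRes.Res

open Subgroup Cfsg Cfsg.Agent.ZN Cfsg.Agent.ZN.ChoiceBase
open Cfsg.Agent.Omega.SQ1.Bau (elem_comm elem_sq card_sup_comm mem_sup_comm Mv not_mv_iff mv_inv)
open Cfsg.Agent.Omega.MinPar (IsLoc)
open scoped commutatorElement

universe u

variable {G : Type u} [Group G] [Finite G] {S : Sylow 2 G} {B B0 X M N1 D K c : Subgroup G} {z z1 z2 : G}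
  (h : Res S B B0 X M N1 D K c z z1 z2)
include h

theorem chat_N1 : ⁅(⁅M, K⁆ : Subgroup G), B0⁆ ≤ N1 := by
  rw [commutator_le]
  intro v hv b hb
  have h1 := inv_mem (h.pb.quad b hb v (h.pb.VN hv))
  have e : (b * v * b⁻¹ * v⁻¹)⁻¹ = ⁅v, b⁆ := by rw [commutatorElement_def]; group
  rwa [e] at h1

theorem chat_V : ⁅(⁅M, K⁆ : Subgroup G), B0⁆ ≤ ⁅M, K⁆ := by
  rw [commutator_le]
  intro v hv b hb
  have h1 := mul_mem hv ((mem_normalizer_iff.1 (h.pb.LV (h.pb.BL hb)) _).1 (inv_mem hv))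
  have e : v * (b * v⁻¹ * b⁻¹) = ⁅v, b⁆ := by rw [commutatorElement_def]; group
  rwa [e] at h1

theorem N1_X (hZB : zc B0 = X) : N1 ≤ X := fun n hn => by
  rw [← hZB]
  exact (BlOf.line_iff h.pb (h.pb.N1N hn)).1 hn

theorem chat_inf (hZB : zc B0 = X) {s : G} (hs : s ∈ (S : Subgroup G)) (hsB : s ∉ B)
    (h5 : cj s⁻¹ ⁅(⁅M, K⁆ : Subgroup G), B0⁆ ≤ centralizer (K : Set G)) {x : G}
    (hx : x ∈ ⁅(⁅M, K⁆ : Subgroup G), B0⁆) (hxK : ∀ k ∈ K, k * x = x * k) : x = 1 := by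
  have hxX := h.N1_X hZB (h.chat_N1 hx)
  have h1 : x ∈ (X ⊓ centralizer (K : Set G)) ⊓ cj s (X ⊓ centralizer (K : Set G)) := by
    refine mem_inf.2 ⟨mem_inf.2 ⟨hxX, mem_centralizer_iff.2 hxK⟩, ?_⟩
    rw [mem_cj]
    refine mem_inf.2 ⟨?_, h5 ⟨x, hx, by simp⟩⟩
    have h2 := (mem_normalizer_iff.1 (inv_mem (h.SX hs)) x).1 hxX
    rwa [inv_inv] at h2
  rw [h.inter hs hsB] at h1
  exact mem_bot.1 h1

/-- **The splitting.** -/
theorem split (hZB : zc B0 = X) {s : G} (hs : s ∈ (S : Subgroup G)) (hsB : s ∉ B)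
    (h5 : cj s⁻¹ ⁅(⁅M, K⁆ : Subgroup G), B0⁆ ≤ centralizer (K : Set G)) :
    ⁅(⁅M, K⁆ : Subgroup G), B0⁆ = c ∧ ⁅M, K⁆ ⊓ D = ⊥ ∧ ⁅M, K⁆ ⊓ N1 = c ∧ Nat.card (⁅M, K⁆ : Subgroup G) = 16 := by
  have hpb := h.pb
  obtain ⟨l, hl, hm⟩ := hpb.mv
  have hsup := hpb.V_sup hl hm
  rw [← hpb.VB_eq] at hsup
  have hone := fun {x : G} => h.chat_inf hZB hs hsB h5 (x := x)
  have hcN1 := h.chat_N1
  set F : Subgroup G := ⁅M, K⁆ with hF
  set ch : Subgroup G := ⁅F, B0⁆ with hch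
  have hchM : ch ≤ M := hcN1.trans hpb.N1N
  have hcjM : cj l ch ≤ M := by
    rintro _ ⟨x, hx, rfl⟩
    exact hpb.Nn l hl x (hchM hx)
  -- `F ∩ D = 1`
  have hFD : F ⊓ D = ⊥ := by
    rw [eq_bot_iff]
    rintro x ⟨hxF, hxD⟩
    obtain ⟨a, ha, b, hb, rfl⟩ := mem_sup_comm (A := ch) (B := cj l ch)
      (fun a ha b hb => hpb.comm (hchM ha) (hcjM hb)) (hsup hxF)
    have hb' : l⁻¹ * b * l ∈ ch := mem_cj.1 hb
    have hbN : b ∈ N1 := by
      have h1 := mul_mem (inv_mem (hcN1 ha)) (hpb.N01 hxD)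
      rwa [inv_mul_cancel_left] at h1
    have hbD : b ∈ D := by
      have h1 := hpb.opp l hl hm _ (hcN1 hb') (by
        have e : l * (l⁻¹ * b * l) * l⁻¹ = b := by group
        rwa [e])
      have e : l * (l⁻¹ * b * l) * l⁻¹ = b := by group
      rwa [e] at h1
    have hbK := fun k hk => hpb.N0c k hk b hbD
    have hb1 : b = 1 := by
      have e : l⁻¹ * b * l = b := by
        rw [mul_assoc, ← hbK l hl, inv_mul_cancel_left]
      rw [e] at hb'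
      exact hone hb' hbK
    rw [hb1, mul_one] at hxD ⊢
    exact mem_bot.2 (hone ha fun k hk => hpb.N0c k hk a hxD)
  -- cards
  have hM : F ⊔ D = M := by
    apply le_antisymm (sup_le hpb.VN (hpb.N01.trans hpb.N1N))
    intro v hv
    obtain ⟨u, hu, n, hn, rfl⟩ := hpb.exists_V hv
    exact mul_mem (mem_sup_left hu) (mem_sup_right hn)
  have hD : D ≤ M := hpb.N01.trans hpb.N1N
  have hcard : Nat.card F = 16 := by
    have h1 := card_sup_comm (A := F) (B := D) fun a ha b hb => hpb.comm (hpb.VN ha) (hD hb)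
    rw [hM, hFD, Subgroup.card_bot, mul_one, hpb.card, hpb.card1] at h1
    have h2 : 0 < Nat.card D := Nat.card_pos
    refine Nat.eq_of_mul_eq_mul_right h2 ?_
    rw [← h1]; ring
  have hFN : F ⊓ N1 = c := by
    symm
    refine Subgroup.eq_of_le_of_card_ge (le_inf h.cV h.cN1) ?_
    rw [h.c4]
    have h1 := card_sup_comm (A := F ⊓ N1) (B := D) fun a ha b hb =>
      hpb.comm (hpb.N1N (mem_inf.1 ha).2) (hD hb)
    have e1 : (F ⊓ N1) ⊔ D = N1 := by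
      apply le_antisymm (sup_le inf_le_right hpb.N01)
      intro v hv
      obtain ⟨u, hu, n, hn, rfl⟩ := hpb.exists_V (hpb.N1N hv)
      refine mul_mem (mem_sup_left (mem_inf.2 ⟨hu, ?_⟩)) (mem_sup_right hn)
      have h2 := mul_mem hv (inv_mem (hpb.N01 hn))
      rwa [mul_inv_cancel_right] at h2
    have e2 : (F ⊓ N1) ⊓ D = ⊥ := by
      rw [eq_bot_iff, ← hFD]
      exact fun x hx => ⟨(mem_inf.1 (mem_inf.1 hx).1).1, (mem_inf.1 hx).2⟩
    rw [e1, e2, Subgroup.card_bot, mul_one, hpb.card1] at h1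
    have h2 : 0 < Nat.card D := Nat.card_pos
    have h3 : Nat.card ↥(F ⊓ N1) = 4 := Nat.eq_of_mul_eq_mul_right h2 (by rw [← h1]; ring)
    exact h3.le
  refine ⟨?_, hFD, hFN, hcard⟩
  have hle : ch ≤ c := by
    rw [← hFN]
    exact le_inf h.chat_V hcN1
  refine Subgroup.eq_of_le_of_card_ge hle ?_
  rw [h.c4]
  have h1 := card_sup_comm (A := ch) (B := cj l ch) fun a ha b hb => hpb.comm (hchM ha) (hcjM hb)
  have h2 : Nat.card F ≤ Nat.card ↥(ch ⊔ cj l ch) := Subgroup.card_le_of_le hsup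
  have h3 : 0 < Nat.card ↥(ch ⊓ cj l ch) := Nat.card_pos
  rw [card_cj] at h1
  rw [hcard] at h2
  by_contra hcon
  push Not at hcon
  have h4 : Nat.card ch ≤ 3 := by omega
  have h5' : Nat.card ch * Nat.card ch ≤ 9 := Nat.mul_le_mul h4 h4 |>.trans (by norm_num)
  nlinarith

end Cfsg.Agent.Omega.OM.Lev.Low.TwoRes.Res

end
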