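import Cfsg.Agent.Mrg.Omega.NO3S.Level.Claim
import Cfsg.Agent.Mrg.Omega.OM.Lev.Low.BlOf
import Cfsg.Agent.Mrg.Omega.OM.Lev.GSym


/-!
# TEXT LL / #23071 (F): the situation `Set5` for a block `K` over `BL S j` and `H = ⟨K, S⟩`

* `bl_conj` : conjugates of a block `Claim.Bl` by elements which normalise `B`, `ZJ`, `Y`;
* `set5_of` : `Set5` for the `S`-conjugates of one block;
* `V_le_of` : `[N, K] ≤ X` if `Ω₁Z(S) ≤ X` and `K` normalises `X` (`K` moves `Ω₁Z(S)`);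
* `set5_neg`, `set5_lev` : the stages `-1` and `n`; `U = ⟨V^H⟩` (`UU H V`);
* `exists_set5`, **`out`** : for `K` over `BL S j` with `H = K S` of characteristic 2 (`j = 0`), `K ≤ N(lev S i)` (`j = i + 1`).
-/

set_option autoImplicit false
set_option linter.unusedSectionVars false

namespace Cfsg.Agent.Omega.OM.Lev.Low.SetS

open Subgroup Cfsg Cfsg.Agent.ZN Cfsg.Agent.ZN.ChoiceBase
open Cfsg.Agent.PLocal.ThompsonJ
open Cfsg.Agent.Omega.SQ1.Bau (elem_comm elem_sq Mv)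
open Cfsg.Agent.Omega.NO3S.Level.Claim (Fm Bl cB mem_cB cB_le cB_cj)
open Cfsg.Agent.Omega.NO3S.ThmB (Fr DM cj_le_cj_iff mem_cj_of exists_of_mem_cj comm_le mem_comm)
open Cfsg.Agent.Omega.NO3S.Level (Lev lev BO nxt lev_isLev lev_le)
open Cfsg.Agent.Omega.OM.LevB (BL lb zc_B)
open Cfsg.Agent.Omega.OM.Lev.Low.Five (Set5)
open Cfsg.Agent.Omega.OM.Lev.Low.BlOf (bl_V fm_lev fm_neg famA famA_cj famA_le)

universe u

variable {G : Type u} [Group G]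

/-! ### Conjugates of a block -/

theorem cj_norm {g : G} {X : Subgroup G} (h : g ∈ normalizer (X : Set G)) {x : G} : g⁻¹ * x * g ∈ X ↔ x ∈ X := by
  rw [← mem_cj, cj_eq_of_mem_normalizer h]

theorem mv_cj {g x : G} {V : Subgroup G} (h : Mv (cj g V) x) : Mv V (g⁻¹ * x * g) := by
  obtain ⟨v, hv, hv'⟩ := h
  refine ⟨g⁻¹ * v * g, mem_cj.1 hv, fun h1 => hv' (mem_cj.2 ?_)⟩
  have e : g⁻¹ * (x * v * x⁻¹) * g = g⁻¹ * x * g * (g⁻¹ * v * g) * (g⁻¹ * x * g)⁻¹ := by group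
  rw [e]
  exact h1

theorem mv_cj' {g x : G} {V : Subgroup G} (h : Mv V (g⁻¹ * x * g)) : Mv (cj g V) x := by
  obtain ⟨v, hv, hv'⟩ := h
  refine ⟨g * v * g⁻¹, mem_cj_of hv, fun h1 => hv' ?_⟩
  have e : g⁻¹ * x * g * v * (g⁻¹ * x * g)⁻¹ = g⁻¹ * (x * (g * v * g⁻¹) * x⁻¹) * g := by group
  rw [e]
  exact mem_cj.1 h1

/-- Conjugates of a block. -/
theorem bl_conj [Finite G] {S Y H B ZJ L V : Subgroup G} {AA : Set (Subgroup G)} (k : Bl S Y H B ZJ AA L V) {g : G}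
    (hH : g ∈ H) (hB : g ∈ normalizer (B : Set G)) (hZ : g ∈ normalizer (ZJ : Set G))
    (hY : g ∈ normalizer (Y : Set G)) (hA : ∀ A ∈ AA, cj g A ∈ AA) : Bl S Y H B ZJ AA (cj g L) (cj g V) := by
  have eB : cj g B = B := cj_eq_of_mem_normalizer hB
  have eZ : cj g ZJ = ZJ := cj_eq_of_mem_normalizer hZ
  have eY : cj g Y = Y := cj_eq_of_mem_normalizer hY
  have ecB : cB B (cj g V) = cj g (cB B V) := by
    conv_lhs => rw [← eB]
    exact cB_cj g B V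
  have eVZ : cj g V ⊓ ZJ = cj g (V ⊓ ZJ) := by rw [cj_inf, eZ]
  have hLn : ∀ {X : Subgroup G}, L ≤ normalizer (X : Set G) → cj g L ≤ normalizer ((cj g X : Subgroup G) : Set G) := by
    intro X hX
    rw [← cj_normalizer]
    exact cj_mono g hX
  refine
    { BL := by rw [← eB]; exact cj_mono g k.BL
      LH := ?_
      LY := by rw [← eY]; exact hLn k.LY
      LV := hLn k.LV
      LP := by rw [ecB]; exact hLn k.LP
      VY := by rw [← eY]; exact cj_mono g k.VY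
      quad := ?_
      cent := ?_
      card := ?_
      off := ?_
      gen := ?_
      split := ?_
      mv := ?_
      faith := ?_
      ne := ?_ }
  · rintro _ ⟨x, hx, rfl⟩
    exact mul_mem (mul_mem hH (k.LH hx)) (inv_mem hH)
  · intro b hb v hv
    have h1 := k.quad _ ((cj_norm hB).2 hb) _ (mem_cj.1 hv)
    have e : g⁻¹ * b * g * (g⁻¹ * v * g) * (g⁻¹ * b * g)⁻¹ * (g⁻¹ * v * g)⁻¹ = g⁻¹ * (b * v * b⁻¹ * v⁻¹) * g := by group
    rw [e] at h1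
    exact (cj_norm hZ).1 h1
  · intro b hb hbc v hv hbv
    refine (cj_norm hZ).1 (k.cent _ ((cj_norm hB).2 hb) (fun h1 => hbc ?_) _ (mem_cj.1 hv) ?_)
    · rw [ecB]
      exact mem_cj.2 h1
    · calc g⁻¹ * b * g * (g⁻¹ * v * g) = g⁻¹ * (b * v) * g := by group
        _ = g⁻¹ * (v * b) * g := by rw [hbv]
        _ = _ := by group
  · rw [eVZ, ecB, card_cj, card_cj, card_cj]
    exact k.card
  · obtain ⟨A, h1, h2⟩ := k.off
    refine ⟨cj g A, hA A h1, fun h3 => h2 ?_⟩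
    rw [ecB] at h3
    exact cj_le_cj_iff.1 h3
  · intro x hx hm X hX1 hX2
    rw [eVZ] at hm
    have h1 : L ≤ cj g⁻¹ X := by
      refine k.gen _ (mem_cj.1 hx) (mv_cj hm) _ ?_ ?_
      · rw [← cj_le_iff, eB]
        exact hX1
      · rw [← cj_le_iff, cj_cj]
        have e : g * (g⁻¹ * x * g) = x * g := by group
        rw [e, ← cj_cj, eB]
        exact hX2
    exact cj_le_iff.2 h1
  · intro z hz
    obtain ⟨a, ha, c, hc, hcl, e⟩ := k.split _ ((cj_norm hZ).2 hz)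
    refine ⟨g * a * g⁻¹, ?_, g * c * g⁻¹, ?_, fun l hl => ?_, ?_⟩
    · rw [eVZ]
      exact mem_cj_of ha
    · rw [← eZ]
      exact mem_cj_of hc
    · have h1 := hcl _ (mem_cj.1 hl)
      calc l * (g * c * g⁻¹) = g * ((g⁻¹ * l * g) * c) * g⁻¹ := by group
        _ = g * (c * (g⁻¹ * l * g)) * g⁻¹ := by rw [h1]
        _ = _ := by group
    · calc z = g * (g⁻¹ * z * g) * g⁻¹ := by group
        _ = g * (a * c) * g⁻¹ := by rw [e]
        _ = _ := by group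
  · intro x hx hm e he hec
    rw [eVZ] at hm ⊢
    have h1 := k.mv _ (mem_cj.1 hx) (mv_cj hm) _ ((cj_norm hB).2 he) fun h1 => hec (by
      rw [ecB]
      exact mem_cj.2 h1)
    apply mv_cj'
    have e1 : g⁻¹ * (x * e * x⁻¹) * g = g⁻¹ * x * g * (g⁻¹ * e * g) * (g⁻¹ * x * g)⁻¹ := by group
    rw [e1]
    exact h1
  · intro v hv b hb hc
    have h1 := k.faith _ (mem_cj.1 hv) _ ((cj_norm hB).2 hb) fun l hl => by
      have h2 := hc (g * l * g⁻¹) (mem_cj_of hl)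
      have e : g⁻¹ * b * g * (g⁻¹ * v * g) * (g⁻¹ * b * g)⁻¹ * (g⁻¹ * v * g)⁻¹ = g⁻¹ * (b * v * b⁻¹ * v⁻¹) * g := by
        group
      rw [e]
      calc l * (g⁻¹ * (b * v * b⁻¹ * v⁻¹) * g) = g⁻¹ * (g * l * g⁻¹ * (b * v * b⁻¹ * v⁻¹)) * g := by group
        _ = g⁻¹ * (b * v * b⁻¹ * v⁻¹ * (g * l * g⁻¹)) * g := by rw [h2]
        _ = _ := by group
    calc b * v = g * (g⁻¹ * b * g * (g⁻¹ * v * g)) * g⁻¹ := by group
      _ = g * (g⁻¹ * v * g * (g⁻¹ * b * g)) * g⁻¹ := by rw [h1]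
      _ = _ := by group
  · obtain ⟨x, hx, hm⟩ := k.ne
    refine ⟨g * x * g⁻¹, mem_cj_of hx, ?_⟩
    rw [eVZ]
    apply mv_cj'
    have e : g⁻¹ * (g * x * g⁻¹) * g = x := by group
    rw [e]
    exact hm

/-! ### `⟨V^H⟩` -/

/-- `⟨V^H⟩` -/
def UU (H V : Subgroup G) : Subgroup G := ⨆ x : H, cj (x : G) V

theorem le_UU (H V : Subgroup G) : V ≤ UU H V := by
  have h1 := le_iSup (fun x : H => cj (x : G) V) 1
  rwa [OneMemClass.coe_one, cj_one] at h1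

theorem UU_le {H V C : Subgroup G} (hV : V ≤ C) (hH : H ≤ normalizer (C : Set G)) : UU H V ≤ C :=
  iSup_le fun x => (cj_mono _ hV).trans (cj_eq_of_mem_normalizer (hH x.2)).le

theorem UU_norm [Finite G] (H V : Subgroup G) : H ≤ normalizer (UU H V : Set G) := by
  intro g hg
  refine mem_normalizer_of_cj_le ?_
  show Subgroup.map _ (UU H V) ≤ _
  rw [UU, Subgroup.map_iSup]
  refine iSup_le fun x => ?_
  have h1 := le_iSup (fun x : H => cj (x : G) V) ⟨g * x, mul_mem hg x.2⟩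
  refine le_trans (le_of_eq ?_) h1
  exact cj_cj g x V

/-! ### `Set5` for the `S`-conjugates of a block -/

theorem set5_of [Finite G] {S U H B ZJ K V : Subgroup G} {AA : Set (Subgroup G)} (fm : Fm S U H B ZJ AA)
    (bl : Bl S U H B ZJ AA K V) (U2 : IsElementaryAbelian 2 U) (hSH : S ≤ H) (hB : S ≤ normalizer (B : Set G))
    (hZ : S ≤ normalizer (ZJ : Set G)) (hU : S ≤ normalizer (U : Set G)) (hA : ∀ A ∈ AA, ∀ g ∈ S, cj g A ∈ AA)
    (gen : ∀ C : Subgroup G, V ≤ C → S ≤ normalizer (C : Set G) → K ≤ normalizer (C : Set G) → U ≤ C) :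
    Set5 S U H B ZJ S AA (fun x : S => cj (x : G) K) (fun x : S => cj (x : G) V) where
  fm := fm
  bl := fun x => bl_conj bl (hSH x.2) (hB x.2) (hZ x.2) (hU x.2) fun A h => hA A h x x.2
  U2 := U2
  BP := fm.BS
  PU := hU
  PZ := hZ
  PA := hA
  tr := fun l m => ⟨(m : G) * (l : G)⁻¹, mul_mem m.2 (inv_mem l.2), by
    rw [cj_cj]
    congr 1
    group⟩
  gen := fun C h1 h2 h3 => gen C (by
    have h := h1 1
    rwa [OneMemClass.coe_one, cj_one] at h) h2 (by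
    have h := h3 1
    rwa [OneMemClass.coe_one, cj_one] at h)

/-! ### The module of the block -/

/-- `[N, K] ≤ X` if `Ω₁Z(S) ≤ X`, `K` normalises `X` and moves `Ω₁Z(S)`. -/
theorem V_le_of [Finite G] {S B K N N1 N0 X : Subgroup G} {q : ℕ} (h : PB B K N N1 N0 q) (hSB : zc S ≤ zc B)
    (hX : zc S ≤ X) (hKX : K ≤ normalizer (X : Set G)) (hz : ¬ K ≤ centralizer (zc S : Set G)) : ⁅N, K⁆ ≤ X := by
  obtain ⟨k, hk, hkz⟩ := SetLike.not_le_iff_exists.1 hz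
  rw [mem_centralizer_iff] at hkz
  push Not at hkz
  obtain ⟨z, hzS, hne⟩ := hkz
  obtain ⟨c, hc, hcl, n, hn, e⟩ := h.Z_split (hSB hzS)
  have hcN : ∀ v ∈ N, v * c = c * v := fun v hv => (ChoiceBase.mem_zc.1 hc).2.2 v (h.NB hv)
  have hcom : ∀ l ∈ K, l * z * l⁻¹ * z⁻¹ = l * n * l⁻¹ * n⁻¹ := by
    intro l hl
    have h1 : (l * n * l⁻¹ * n⁻¹) * c = c * (l * n * l⁻¹ * n⁻¹) :=
      hcN _ (mul_mem (h.Nn l hl n (h.N1N hn)) (inv_mem (h.N1N hn)))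
    calc l * z * l⁻¹ * z⁻¹ = (l * c) * n * l⁻¹ * n⁻¹ * c⁻¹ := by rw [e]; group
      _ = c * (l * n * l⁻¹ * n⁻¹) * c⁻¹ := by rw [hcl l hl]; group
      _ = _ := by rw [← h1]; group
  have hM : ¬ N ⊓ X ≤ N0 := by
    intro hle
    obtain ⟨l, hl, hm⟩ := h.mv
    have h1 : l * n * l⁻¹ * n⁻¹ ∈ N0 := by
      refine hle (mem_inf.2 ⟨mul_mem (h.Nn l hl n (h.N1N hn)) (inv_mem (h.N1N hn)), ?_⟩)
      rw [← hcom l hl]
      exact mul_mem ((mem_normalizer_iff.1 (hKX hl) z).1 (hX hzS)) (inv_mem (hX hzS))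
    have h2 : l * n * l⁻¹ ∈ N1 := by
      have h3 := mul_mem (h.N01 h1) hn
      rwa [inv_mul_cancel_right] at h3
    have h3 := h.opp l hl hm n hn h2
    have hn0 : n ∈ N0 := by
      have h4 := h.pl.W0n l⁻¹ (inv_mem hl) _ h3
      have e1 : l⁻¹ * (l * n * l⁻¹) * l⁻¹⁻¹ = n := by group
      rwa [e1] at h4
    apply hne
    have c1 : Commute k c := hcl k hk
    have c2 : Commute k n := h.N0c k hk n hn0
    rw [e]
    exact (c1.mul_right c2).eq.symm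
  have h1 : K ≤ normalizer ((N ⊓ X : Subgroup G) : Set G) := fun l hl =>
    mem_normalizer_of_cj_le (by
      rw [cj_inf, cj_eq_of_mem_normalizer (h.LN hl), cj_eq_of_mem_normalizer (hKX hl)])
  exact (h.V_le inf_le_left h1 hM).trans inf_le_right

/-! ### The stages -/

section stage

variable [Finite G] (S : Sylow 2 G)

theorem S_norm_lev (n : ℕ) : (S : Subgroup G) ≤ normalizer (lev (S : Subgroup G) n : Set G) :=
  (lev_isLev (S : Subgroup G) n).S_norm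

theorem S_norm_zc (n : ℕ) : (S : Subgroup G) ≤ normalizer (zc (lev (S : Subgroup G) n) : Set G) :=
  (S_norm_lev S n).trans (NO3S.Level.normalizer_le_zc _)

theorem S_norm_BL (n : ℕ) : (S : Subgroup G) ≤ normalizer (BL (S : Subgroup G) n : Set G) := by
  intro g hg
  refine mem_normalizer_of_cj_le ?_
  rw [BL, cj_inf, cj_centralizer, cj_eq_of_mem_normalizer (le_normalizer hg), cj_eq_of_mem_normalizer (S_norm_zc S n hg)]

theorem zc_le_zcB (n : ℕ) : zc (S : Subgroup G) ≤ zc (BL (S : Subgroup G) n) := by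
  rw [zc_B]
  exact (lev_isLev (S : Subgroup G) n).zc_le

theorem zj_eq : zc (lev (S : Subgroup G) 0) = zj (S : Subgroup G) := by
  ext x
  show x ∈ zc (jj (S : Subgroup G)) ↔ _
  rw [ChoiceBase.mem_zc, ChoiceBase.mem_zj]

theorem BL_zero : BL (S : Subgroup G) 0 = bau (S : Subgroup G) := by
  ext x
  rw [mem_bau, BL, mem_inf, mem_centralizer_iff, zj_eq]
  exact Iff.rfl

theorem S_norm_ZJ {U : Subgroup G} (hU : (S : Subgroup G) ≤ normalizer (U : Set G)) (n : ℕ) :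
    (S : Subgroup G) ≤ normalizer ((U ⊓ zc (lev (S : Subgroup G) n) : Subgroup G) : Set G) := fun g hg =>
  mem_normalizer_of_cj_le (by
    rw [cj_inf, cj_eq_of_mem_normalizer (hU hg), cj_eq_of_mem_normalizer (S_norm_zc S n hg)])

theorem syl_of (H : Subgroup G) (hSH : (S : Subgroup G) ≤ H) : ChoiceSit.Syl (S : Subgroup G) H :=
  ⟨hSH, S.isPGroup', fun _ _ h2 h3 => S.is_maximal' h2 h3⟩

/-- `Ω₁Z(S) ≤ Ω₁Z(O₂(H))` -/
theorem zc_le_o2 {H : Subgroup G} (hSH : (S : Subgroup G) ≤ H) (hc : H ⊓ centralizer (o2 H : Set G) ≤ o2 H) :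
    zc (S : Subgroup G) ≤ zc (o2 H) := by
  have hQ : o2 H ≤ (S : Subgroup G) := ChoiceSit.o2_le_syl (syl_of S H hSH)
  intro z hz
  obtain ⟨h1, h2, h3⟩ := ChoiceBase.mem_zc.1 hz
  have h4 : ∀ y ∈ o2 H, y * z = z * y := fun y hy => h3 y (hQ hy)
  exact ChoiceBase.mem_zc.2 ⟨hc ⟨hSH h1, mem_centralizer_iff.2 h4⟩, h2, h4⟩

variable {j : ℕ} {K N N1 N0 H : Subgroup G} {q : ℕ}

/-- `V ≤ Ω₁Z(O₂(H))` -/
theorem V_le_o2 (h : PB (BL (S : Subgroup G) j) K N N1 N0 q) (hKH : K ≤ H) (hSH : (S : Subgroup G) ≤ H)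
    (hc : H ⊓ centralizer (o2 H : Set G) ≤ o2 H) (hz : ¬ K ≤ centralizer (zc (S : Subgroup G) : Set G)) :
    UU H ⁅N, K⁆ ≤ zc (o2 H) := by
  have hH : H ≤ normalizer (zc (o2 H) : Set G) :=
    (MinSimple.VModule.le_normalizer_o2 H).trans (NO3S.Level.normalizer_le_zc _)
  exact UU_le (V_le_of h (zc_le_zcB S j) (zc_le_o2 S hSH hc) (hKH.trans hH) hz) hH

/-- `V ≤ Ω₁Z(lev S n)` -/
theorem V_le_lev {n : ℕ} (h : PB (BL (S : Subgroup G) j) K N N1 N0 q) (hHn : H ≤ normalizer (lev (S : Subgroup G) n : Set G))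
    (hKH : K ≤ H) (hz : ¬ K ≤ centralizer (zc (S : Subgroup G) : Set G)) :
    UU H ⁅N, K⁆ ≤ zc (lev (S : Subgroup G) n) := by
  have hH : H ≤ normalizer (zc (lev (S : Subgroup G) n) : Set G) := hHn.trans (NO3S.Level.normalizer_le_zc _)
  exact UU_le (V_le_of h (zc_le_zcB S j) (lev_isLev (S : Subgroup G) n).zc_le (hKH.trans hH) hz) hH

theorem gen_of (hHle : H ≤ K ⊔ (S : Subgroup G)) (C : Subgroup G) (hV : ⁅N, K⁆ ≤ C)
    (hS : (S : Subgroup G) ≤ normalizer (C : Set G)) (hK : K ≤ normalizer (C : Set G)) : UU H ⁅N, K⁆ ≤ C :=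
  UU_le hV (hHle.trans (sup_le hK hS))

/-- **Stage `-1`.** -/
theorem set5_neg (h : PB (BL (S : Subgroup G) 0) K N N1 N0 q) (hKH : K ≤ H) (hSH : (S : Subgroup G) ≤ H)
    (hHle : H ≤ K ⊔ (S : Subgroup G)) (hc : H ⊓ centralizer (o2 H : Set G) ≤ o2 H)
    (hz : ¬ K ≤ centralizer (zc (S : Subgroup G) : Set G)) (hX : zc (lev (S : Subgroup G) 0) ≤ UU H ⁅N, K⁆) :
    Set5 (S : Subgroup G) (UU H ⁅N, K⁆) H (BL (S : Subgroup G) 0) (UU H ⁅N, K⁆ ⊓ zc (lev (S : Subgroup G) 0))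
      (S : Subgroup G) (famA (S : Subgroup G) (UU H ⁅N, K⁆)) (fun x : (S : Subgroup G) => cj (x : G) K)
      (fun x : (S : Subgroup G) => cj (x : G) ⁅N, K⁆) := by
  have hUo := V_le_o2 S h hKH hSH hc hz
  have hUel : IsElementaryAbelian 2 (UU H ⁅N, K⁆) := isElementaryAbelian_mono (NO3S.OneLine.zc_elem _) hUo
  have hUS : UU H ⁅N, K⁆ ≤ (S : Subgroup G) :=
    (hUo.trans (MinSimple.VModule.zc_le _)).trans (ChoiceSit.o2_le_syl (syl_of S H hSH))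
  have hUb : UU H ⁅N, K⁆ ≤ bau (S : Subgroup G) := by
    rw [← BL_zero]
    exact le_inf hUS fun x hx => mem_centralizer_iff.2 fun z hz => elem_comm hUel z (hX hz) x hx
  have hHU := UU_norm H ⁅N, K⁆
  have fm := fm_neg (S := (S : Subgroup G)) hUel hUb hHU
  rw [← BL_zero, ← zj_eq] at fm
  have hSU := hSH.trans hHU
  refine set5_of fm (bl_V h fm (by rw [zc_B]) (le_UU H _) hKH (hKH.trans hHU)) hUel hSH (S_norm_BL S 0)
    (S_norm_ZJ S hSU 0) hSU (fun A hA g hg => ?_) (gen_of S hHle)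
  refine famA_cj hA (hSU hg) ?_ hUS
  rintro _ ⟨a, ha, rfl⟩
  exact mul_mem (mul_mem hg (ChoiceBase.jj_le _ (famA_le hA ha))) (inv_mem hg)

/-- **Stage `n`.** -/
theorem set5_lev {n : ℕ} (h : PB (BL (S : Subgroup G) (n + 1)) K N N1 N0 q) (hKH : K ≤ H) (hSH : (S : Subgroup G) ≤ H)
    (hHle : H ≤ K ⊔ (S : Subgroup G)) (hHn : H ≤ normalizer (lev (S : Subgroup G) n : Set G))
    (hz : ¬ K ≤ centralizer (zc (S : Subgroup G) : Set G)) :
    Set5 (S : Subgroup G) (UU H ⁅N, K⁆) H (BL (S : Subgroup G) (n + 1))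
      (UU H ⁅N, K⁆ ⊓ zc (lev (S : Subgroup G) (n + 1))) (S : Subgroup G)
      (BO (S : Subgroup G) (lev (S : Subgroup G) n)) (fun x : (S : Subgroup G) => cj (x : G) K)
      (fun x : (S : Subgroup G) => cj (x : G) ⁅N, K⁆) := by
  have hUX := V_le_lev S h hHn hKH hz
  have hUel : IsElementaryAbelian 2 (UU H ⁅N, K⁆) := isElementaryAbelian_mono (NO3S.OneLine.zc_elem _) hUX
  have hHU := UU_norm H ⁅N, K⁆
  have fm : Fm (S : Subgroup G) (UU H ⁅N, K⁆) H (BL (S : Subgroup G) (n + 1))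
      (UU H ⁅N, K⁆ ⊓ zc (lev (S : Subgroup G) (n + 1))) (BO (S : Subgroup G) (lev (S : Subgroup G) n)) :=
    fm_lev (lev_isLev (S : Subgroup G) n) hUX hHn
  have hSU := hSH.trans hHU
  refine set5_of fm (bl_V h fm (by rw [zc_B]) (le_UU H _) hKH (hKH.trans hHU)) hUel hSH (S_norm_BL S (n + 1))
    (S_norm_ZJ S hSU (n + 1)) hSU (fun A hA g hg => ?_) (gen_of S hHle)
  refine BO.conj hA (S_norm_lev S n hg) ?_
  rintro _ ⟨a, ha, rfl⟩
  exact mul_mem (mul_mem hg (hA.1 ha)) (inv_mem hg)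

/-- **All stages.** -/
theorem exists_set5 (h : PB (BL (S : Subgroup G) j) K N N1 N0 q) (hKH : K ≤ H) (hSH : (S : Subgroup G) ≤ H)
    (hHle : H ≤ K ⊔ (S : Subgroup G)) (hz : ¬ K ≤ centralizer (zc (S : Subgroup G) : Set G))
    (h0 : j = 0 → H ⊓ centralizer (o2 H : Set G) ≤ o2 H ∧ zc (lev (S : Subgroup G) j) ≤ UU H ⁅N, K⁆)
    (h1 : ∀ n, j = n + 1 → H ≤ normalizer (lev (S : Subgroup G) n : Set G)) :
    ∃ AA : Set (Subgroup G), Set5 (S : Subgroup G) (UU H ⁅N, K⁆) H (BL (S : Subgroup G) j)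
      (UU H ⁅N, K⁆ ⊓ zc (lev (S : Subgroup G) j)) (S : Subgroup G) AA (fun x : (S : Subgroup G) => cj (x : G) K)
      (fun x : (S : Subgroup G) => cj (x : G) ⁅N, K⁆) := by
  cases j with
  | zero => exact ⟨_, set5_neg S h hKH hSH hHle (h0 rfl).1 hz (h0 rfl).2⟩
  | succ n => exact ⟨_, set5_lev S h hKH hSH hHle (h1 n rfl) hz⟩

/-- **OUT**: an exact `A ≤ B` on `U = ⟨V^H⟩` which moves `V = [N, K]`, `[U, A] = [V, A] = [V, B]`, `B = A C_B(V)`, and for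
`t ∈ S` the line `[V, B]` is `t`-invariant or `[V, B]^t` is centralised by `K`. -/
theorem out (h : PB (BL (S : Subgroup G) j) K N N1 N0 q) (hKH : K ≤ H) (hSH : (S : Subgroup G) ≤ H)
    (hHle : H ≤ K ⊔ (S : Subgroup G)) (hz : ¬ K ≤ centralizer (zc (S : Subgroup G) : Set G))
    (h0 : j = 0 → H ⊓ centralizer (o2 H : Set G) ≤ o2 H ∧ zc (lev (S : Subgroup G) j) ≤ UU H ⁅N, K⁆)
    (h1 : ∀ n, j = n + 1 → H ≤ normalizer (lev (S : Subgroup G) n : Set G)) :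
    IsElementaryAbelian 2 (UU H ⁅N, K⁆) ∧ UU H ⁅N, K⁆ ≤ BL (S : Subgroup G) j ∧
      (∃ A : Subgroup G, A ≤ BL (S : Subgroup G) j ∧ ¬ A ≤ centralizer ((⁅N, K⁆ : Subgroup G) : Set G) ∧
        (∀ u ∈ UU H ⁅N, K⁆, ∃ v ∈ ⁅N, K⁆, ∃ c ∈ UU H ⁅N, K⁆, (∀ a ∈ A, a * c = c * a) ∧ u = v * c) ∧
        (∀ b ∈ BL (S : Subgroup G) j, ∃ a ∈ A, ∃ p ∈ cB (BL (S : Subgroup G) j) ⁅N, K⁆, b = a * p) ∧
        ⁅⁅N, K⁆, A⁆ = ⁅⁅N, K⁆, BL (S : Subgroup G) j⁆ ∧
        ⁅UU H ⁅N, K⁆, A⁆ = ⁅⁅N, K⁆, BL (S : Subgroup G) j⁆) ∧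
      ∀ t ∈ (S : Subgroup G), cj t ⁅⁅N, K⁆, BL (S : Subgroup G) j⁆ = ⁅⁅N, K⁆, BL (S : Subgroup G) j⁆ ∨
        cj t ⁅⁅N, K⁆, BL (S : Subgroup G) j⁆ ≤ centralizer (K : Set G) := by
  obtain ⟨AA, X⟩ := exists_set5 S h hKH hSH hHle hz h0 h1
  refine ⟨X.U2, X.fm.YB, ?_, fun t ht => ?_⟩
  · obtain ⟨A, hA⟩ := X.exists_move 1
    have hc := X.comm_eq hA
    have hd := fun b hb => X.dec hA (b := b) hb
    have hf := fun u hu => X.full hA (u := u) hu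
    have hcu := (X.fam 1).commutator_eq hA
    rw [hc] at hcu
    have hn := hA.2
    have hle := X.fm.le A hA.1.1
    simp only [OneMemClass.coe_one, cj_one] at hc hd hf hcu hn
    exact ⟨A, hle, hn, hf, hd, hc, hcu⟩
  · have h2 := X.five ht 1 1
    simpa only [OneMemClass.coe_one, cj_one] using h2

end stage

/-! ### `X ≤ U` -/

/-- `X = c C_X(K)`, `c ≤ V`, `c^s ≤ C(K)`, nothing in `X` is centralised by `K` and `K^s`: `X = c c^s`, `C_X(K) = c^s`. -/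
theorem X_eq [Finite G] {X K c : Subgroup G} {s : G} (hcX : c ≤ X)
    (hs : s ∈ normalizer (X : Set G)) (hsp : ∀ x ∈ X, ∃ a ∈ c, ∃ d ∈ X, d ∈ centralizer (K : Set G) ∧ x = a * d)
    (hc : cj s c ≤ centralizer (K : Set G))
    (h1 : ∀ x ∈ X, x ∈ centralizer (K : Set G) → x ∈ centralizer (cj s K : Set G) → x = 1) :
    X = c ⊔ cj s c ∧ X ⊓ centralizer (K : Set G) = cj s c := by
  have eX : cj s X = X := cj_eq_of_mem_normalizer hs
  have hsX : cj s c ≤ X := by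
    rw [← eX]
    exact cj_mono s hcX
  -- `X = c^s C_X(K^s)`
  have hsp' : ∀ x ∈ X, ∃ a ∈ cj s c, ∃ d ∈ X, d ∈ centralizer (cj s K : Set G) ∧ x = a * d := by
    intro x hx
    rw [← eX] at hx
    obtain ⟨a, ha, d, hd, hdK, e⟩ := hsp _ (mem_cj.1 hx)
    refine ⟨s * a * s⁻¹, mem_cj_of ha, s * d * s⁻¹, ?_, ?_, ?_⟩
    · rw [← eX]
      exact mem_cj_of hd
    · rw [← cj_centralizer]
      exact mem_cj_of hdK
    · calc x = s * (s⁻¹ * x * s) * s⁻¹ := by group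
        _ = s * (a * d) * s⁻¹ := by rw [e]
        _ = _ := by group
  have h2 : X ⊓ centralizer (K : Set G) = cj s c := by
    apply le_antisymm _ (le_inf hsX hc)
    rintro x ⟨hx, hxK⟩
    obtain ⟨a, ha, d, hd, hdK, e⟩ := hsp' x hx
    have hd1 : d = 1 := by
      refine h1 d hd ?_ hdK
      have e1 : d = a⁻¹ * x := by rw [e]; group
      rw [e1]
      exact mul_mem (inv_mem (hc ha)) hxK
    rw [e, hd1, mul_one]
    exact ha
  refine ⟨le_antisymm (fun x hx => ?_) (sup_le hcX hsX), h2⟩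
  obtain ⟨a, ha, d, hd, hdK, rfl⟩ := hsp x hx
  refine mul_mem (mem_sup_left ha) (mem_sup_right ?_)
  rw [← h2]
  exact ⟨hd, hdK⟩

/-- `c c^s ≤ ⟨V^H⟩` -/
theorem X_le_UU [Finite G] {X H V c : Subgroup G} {s : G} (hX : X ≤ c ⊔ cj s c) (hcV : c ≤ V) (hs : s ∈ H) :
    X ≤ UU H V := by
  refine hX.trans (sup_le (hcV.trans (le_UU H V)) ?_)
  refine (cj_mono s (hcV.trans (le_UU H V))).trans (le_of_eq ?_)
  exact cj_eq_of_mem_normalizer (UU_norm H V hs)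

end Cfsg.Agent.Omega.OM.Lev.Low.SetS
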