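import Cfsg.Agent.Mrg.Omega.OM.Lev.Low.YK
import Cfsg.Agent.Mrg.Omega.OM.Lev.Low.Half
import Cfsg.Agent.Mrg.Omega.NO3S.Level.Claim
import Cfsg.Agent.Mrg.Omega.OM.Lev.Low.BlOf
import Cfsg.Agent.Mrg.Omega.OM.Lev.Low.YNat
import Mathlib

section


/-!
# The instance of `Set5` for the blocks in the support of `z i`

`Inp S P n L W Z C A T Y j K E N c` : the frame `Ln` of `P` at the stage `n` (`q = 2`), `B ≤ T`, `Y` of the stage `j ≤ n`
with its blocks. `σ` : a set of blocks which centralise some `Z j'`.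

* `Inp.exists_set5` : `Set5` for `P = L i`, `Γ = ⟨L i, K l | l ∈ σ⟩`, `U = ⟨[E l, K l]^Γ⟩`.
-/

set_option autoImplicit false
set_option linter.unusedSectionVars false

namespace Cfsg.Agent.Omega.OM.Lev.Low

open Subgroup Cfsg Cfsg.Agent.ZN.ChoiceBase Cfsg.Agent.ZN.ChoiceSit
open Cfsg.Agent.ZN (jj zj bau zc zl o2)
open Cfsg.Agent.Omega.LemmaK (Block WeakNormal)
open Cfsg.Agent.Omega.SQ1.Bau (elem_comm elem_sq)
open Cfsg.Agent.Omega.OM.SwapL (Ln ZL)
open Cfsg.Agent.Omega.OM.LevB (lb zc_B nxt_lev isLev_T bz_lev)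
open Cfsg.Agent.Omega.NO3S.Level (lev lev_mono lev_isLev Lev BO nxt lev_le_succ lev_le)
open Cfsg.Agent.Omega.NO3S.Level.Claim (Fm Bl)
open Cfsg.Agent.Omega.OM.Lev.Low.Five (Set5)
open scoped commutatorElement

universe u

variable {G : Type u} [Group G] [Finite G] {ι Λ : Type} {S : Sylow 2 G} {P : Subgroup G} {n : ℕ}
  {L W Z C A : ι → Subgroup G} {T Y : Subgroup G} {j : ℕ} {K E N c : Λ → Subgroup G}

/-- The input. -/
structure Inp {ι Λ : Type} (S : Sylow 2 G) (P : Subgroup G) (n : ℕ) (L W Z C A : ι → Subgroup G) (T Y : Subgroup G)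
    (j : ℕ) (K E N c : Λ → Subgroup G) : Prop where
  ln : Ln S P n L W Z C A 2
  syl : Syl T Y
  BT : SwapL.BL (S : Subgroup G) n ≤ T
  jn : j ≤ n
  char2 : Y ⊓ centralizer (o2 Y : Set G) ≤ o2 Y
  low : ∀ i < j, lev (S : Subgroup G) i ≤ o2 Y
  yk : YK T Y (zc (lev (S : Subgroup G) j)) (LevB.BL (S : Subgroup G) j) K E N c

namespace Inp

variable (h : Inp S P n L W Z C A T Y j K E N c)
include h

theorem BjB : LevB.BL (S : Subgroup G) j ≤ SwapL.BL (S : Subgroup G) n :=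
  BL_mono (S : Subgroup G) (h.jn.trans (Nat.le_succ n))

theorem BjT : LevB.BL (S : Subgroup G) j ≤ T := h.BjB.trans h.BT

theorem BjL (i : ι) : LevB.BL (S : Subgroup G) j ≤ L i := h.BjB.trans (h.ln.fr.blk i).BL

theorem LQ (i : ι) : L i ≤ normalizer (o2 P : Set G) := fun l hl => mem_normalizer_of_cj_le (by
  rintro _ ⟨x, hx, rfl⟩
  exact h.ln.fr.LQ i l hl x hx)

theorem levQ {m : ℕ} (hm : m ≤ n) : lev (S : Subgroup G) m ≤ o2 P := (lev_mono _ hm).trans h.ln.le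

theorem LK (i : ι) {m : ℕ} (hm : m ≤ n) : L i ≤ normalizer (lev (S : Subgroup G) m : Set G) :=
  (h.LQ i).trans ((lev_isLev (S : Subgroup G) m).norm _ (h.levQ hm) (o2_le_syl h.ln.hyp.syl))

theorem LX (i : ι) : L i ≤ normalizer (zc (lev (S : Subgroup G) j) : Set G) :=
  (h.LK i h.jn).trans (NO3S.Level.normalizer_le_zc _)

theorem QL (i : ι) : o2 P ≤ L i := h.ln.fr.QB.trans (h.ln.fr.blk i).BL

theorem QT : o2 P ≤ T := h.ln.fr.QB.trans h.BT

theorem TBj : T ≤ normalizer (LevB.BL (S : Subgroup G) j : Set G) := (lb S j).two_le h.syl.2.1 h.BjT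

theorem elX : IsElementaryAbelian 2 (zc (lev (S : Subgroup G) j)) := NO3S.OneLine.zc_elem _

theorem wn : WeakNormal 2 (LevB.BL (S : Subgroup G) j) := fun _ hR hBR => (lb S j).two_le hR hBR

theorem V_sq (l : Λ) : ∀ v ∈ ⁅E l, K l⁆, v ^ 2 = 1 := fun v hv => by
  obtain ⟨N1, N0, r, hp⟩ := h.yk.pb l
  exact elem_sq hp.el v (hp.VN hv)

theorem V_act (l : Λ) {k x : G} (hk : k ∈ K l) (hx : x ∈ zc (lev (S : Subgroup G) j)) :
    k * x * k⁻¹ * x⁻¹ ∈ ⁅E l, K l⁆ := by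
  obtain ⟨N1, N0, r, hp⟩ := h.yk.pb l
  exact hp.act_V hk (by rw [zc_B]; exact hx)

theorem V_cent (l : Λ) : ⁅E l, K l⁆ ≤ centralizer (zc (lev (S : Subgroup G) j) : Set G) := by
  obtain ⟨N1, N0, r, hp⟩ := h.yk.pb l
  exact (hp.VN.trans hp.NB).trans inf_le_right

/-- the centraliser of `K l` in `X` -/
theorem mem_cK {l : Λ} {x : G} (hx : x ∈ zc (lev (S : Subgroup G) j)) :
    x ∈ N l ↔ x ∈ centralizer (K l : Set G) := by
  rw [h.yk.memN l x hx, mem_centralizer_iff]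
  exact Iff.rfl

/-- **The instance of `Set5`.** -/
theorem exists_set5 (i : ι) {i' : ι} (hi : i' ≠ i) (σ : Λ → Prop) (hσ : ∀ l, σ l → Z i' ≤ N l)
    (htr : ∀ l m : {l // σ l}, ∃ g ∈ L i, cj g ⁅E l, K l⁆ = ⁅E m, K m⁆) :
    ∃ AA, Set5 T (UU (L i ⊔ ⨆ l : {l // σ l}, K l) fun l : {l // σ l} => ⁅E l, K l⁆)
      (L i ⊔ ⨆ l : {l // σ l}, K l) (LevB.BL (S : Subgroup G) j)
      (UU (L i ⊔ ⨆ l : {l // σ l}, K l) (fun l : {l // σ l} => ⁅E l, K l⁆) ⊓ zc (lev (S : Subgroup G) j)) (L i) AA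
      (fun l : {l // σ l} => K l) fun l : {l // σ l} => ⁅E l, K l⁆ := by
  set Γ : Subgroup G := L i ⊔ ⨆ l : {l // σ l}, K l with hΓ
  set V' : {l // σ l} → Subgroup G := fun l => ⁅E l, K l⁆ with hV'
  set U := UU Γ V' with hU
  have hT2 := h.syl.2.1
  have hb := lb S j
  have hle : lev (S : Subgroup G) j ≤ T := hb.KB.trans h.BjT
  have hLΓ : L i ≤ Γ := le_sup_left
  have hKΓ : ∀ l : {l // σ l}, K l ≤ Γ := fun l => (le_iSup (fun l : {l // σ l} => K l) l).trans le_sup_right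
  have hUn : Γ ≤ normalizer (U : Set G) := UU_norm
  -- the common part
  have fin : ∀ AA, IsElementaryAbelian 2 U →
      Fm T U Γ (LevB.BL (S : Subgroup G) j) (U ⊓ zc (lev (S : Subgroup G) j)) AA →
      (∀ A ∈ AA, ∀ g ∈ L i, cj g A ∈ AA) →
      Set5 T U Γ (LevB.BL (S : Subgroup G) j) (U ⊓ zc (lev (S : Subgroup G) j)) (L i) AA
        (fun l : {l // σ l} => K l) V' := by
    intro AA h2 hfm hPA
    refine ⟨hfm, fun l => ?_, h2, h.BjL i, hLΓ.trans hUn, fun g hg => ?_, hPA, htr, fun C hC hPC hKC => ?_⟩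
    · obtain ⟨N1, N0, r, hp⟩ := h.yk.pb l
      exact BlOf.bl_V hp hfm (by rw [zc_B]) (le_UU (V := V') l) (hKΓ l) ((hKΓ l).trans hUn)
    · rw [mem_normalizer_iff_cj, cj_inf, cj_eq_of_mem_normalizer (hUn (hLΓ hg)),
        cj_eq_of_mem_normalizer (h.LX i hg)]
    · exact UU_le hC (sup_le hPC (iSup_le hKC))
  -- stages
  have hj := h.jn
  have hlow := h.low
  have hBjT := h.BjT
  rcases Nat.eq_zero_or_pos j with h0 | hpos
  · -- stage `-1`
    have hjj : jj T = jj (S : Subgroup G) := MinSimple.EmptyTI.jj_eq S hT2 (by rw [h0] at hle; exact hle)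
    have hzz : zc (lev (S : Subgroup G) j) = zj T := by
      rw [h0]
      show zc (jj (S : Subgroup G)) = zj T
      rw [← hjj, zc_jj]
    have hbau : bau T = LevB.BL (S : Subgroup G) j := by
      rw [← hb.inf_eq hT2 hBjT, hzz]
      rfl
    -- the local group
    set H' : Subgroup G := normalizer (Z i' : Set G) with hH'
    have hZ1 : Z i' ≠ ⊥ := by
      intro e
      have h1 := h.ln.fr.cardZ i'
      rw [e, Subgroup.card_bot] at h1
      omega
    have hZ2 : IsPGroup 2 (Z i') := (lb S (n + 1)).Bp.to_le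
      (((h.ln.fr.Z_le i').trans (h.ln.fr.ZJV)).trans (h.ln.fr.VQ.trans h.ln.fr.QB))
    have hcG := h.ln.hyp.ctx.char2.2 (Z i') hZ2 hZ1
    have hc' : H' ⊓ centralizer (o2 H' : Set G) ≤ o2 H' := by
      rintro x ⟨hx, hxc⟩
      have h2 : (⟨x, hx⟩ : normalizer (Z i' : Set G)) ∈
          centralizer (pCore 2 (normalizer (Z i' : Set G)) : Set (normalizer (Z i' : Set G))) := by
        rw [mem_centralizer_iff]
        intro y hy
        refine Subtype.ext ?_
        exact mem_centralizer_iff.mp hxc (y : G) ⟨y, hy, rfl⟩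
      exact ⟨⟨x, hx⟩, hcG h2, rfl⟩
    have hcl : ∀ Q' : Subgroup G, Q' ≤ centralizer (Z i' : Set G) → Q' ≤ H' := fun Q' hQ' =>
      hQ'.trans (centralizer_le_normalizer _)
    have hZX : Z i' ≤ zc (lev (S : Subgroup G) j) := ((h.ln.fr.Z_le i').trans h.ln.fr.ZJV).trans
      (h.ln.fr.VX.trans ((lev_isLev (S : Subgroup G) j).zc_le_zc (lev_mono _ h.jn) (lev_le _ n)))
    have hKc : ∀ l : {l // σ l}, K l ≤ H' := fun l => hcl _ fun k hk => mem_centralizer_iff.2 fun z hz =>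
      ((h.yk.memN l z (hZX hz)).1 (hσ l l.2 hz) k hk).symm
    have hΓH : Γ ≤ H' := by
      refine sup_le (hcl _ fun l hl => mem_centralizer_iff.2 fun z hz => ?_) (iSup_le hKc)
      exact (h.ln.fr.LC i l hl z (h.ln.fr.Z_le i' hz)
        (h.ln.fr.WjC i i' hi.symm ((h.ln.fr.blk i').ZV hz))).symm
    have hUz : U ≤ zc (o2 H') := UU_le_zc (B₀ := LevB.BL (S : Subgroup G) j) (K := fun l : {l // σ l} => K l)
      (fun l => by
        obtain ⟨N1, N0, r, hp⟩ := h.yk.pb l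
        exact hp.block h.wn) hKc hΓH (isPGroup_o2 H') (le_normalizer_o2 H') hc' fun l => h.V_sq l
    have hU2 : IsElementaryAbelian 2 U :=
      PLocal.OffenderStep.isElementaryAbelian_of_comm
        (fun x hx y hy => (mem_zc.1 (hUz hy)).2.2 x (mem_zc.1 (hUz hx)).1) fun x hx => (mem_zc.1 (hUz hx)).2.1
    have hUX : U ≤ centralizer (zc (lev (S : Subgroup G) j) : Set G) :=
      UU_cent (K := fun l : {l // σ l} => K l) (elem_comm hU2) (fun l => h.V_cent l) (h.LX i) hΓ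
        fun l k hk x hx => h.V_act l hk hx
    have hUB : U ≤ LevB.BL (S : Subgroup G) j := by
      have h1 : IsPGroup 2 (LevB.BL (S : Subgroup G) j ⊔ U : Subgroup G) :=
        IsPGroup.to_sup_of_normal_right' hb.Bp ((isPGroup_o2 H').to_le (hUz.trans (zc_le _)))
          ((h.BjL i).trans (hLΓ.trans hUn))
      have h2 := hb.syl.2.2 (LevB.BL (S : Subgroup G) j ⊔ U) (sup_le hb.Bc hUX) h1 le_sup_left
      rw [← h2]
      exact le_sup_right
    have hUT : U ≤ T := hUB.trans hBjT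
    have hfm := BlOf.fm_neg (S := T) (H := Γ) hU2 (by rw [hbau]; exact hUB) hUn
    rw [hbau, ← hzz] at hfm
    refine ⟨_, fin _ hU2 hfm fun A hA g hg => BlOf.famA_cj hA (hUn (hLΓ hg)) ?_ hUT⟩
    have h3 : A ≤ o2 P := (BlOf.famA_le hA).trans (by
      rw [hjj]
      exact h.levQ (Nat.zero_le n))
    have h4 := cj_mono g h3
    rw [cj_eq_of_mem_normalizer (h.LQ i hg)] at h4
    exact h4.trans h.QT
  · -- stages `m + 1`
    obtain ⟨m, rfl⟩ := Nat.exists_eq_succ_of_ne_zero hpos.ne'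
    have hleT : lev (S : Subgroup G) (m + 1) ≤ T := hle
    have hL := isLev_T S hT2 ((lev_le_succ _ m).trans hleT)
    have hnx := nxt_lev S hT2 hleT
    have hKo := hlow m (Nat.lt_succ_self m)
    have hYK : Y ≤ normalizer (lev (S : Subgroup G) m : Set G) := hL.le_norm_of_o2 hKo (o2_le_syl h.syl)
    have hΓK : Γ ≤ normalizer (lev (S : Subgroup G) m : Set G) :=
      sup_le (h.LK i ((Nat.le_succ m).trans h.jn)) (iSup_le fun l => (h.yk.KY l).trans hYK)
    have hVz : zl T Y ≤ zc (lev (S : Subgroup G) m) :=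
      (MinSimple.VModule.zl_le_zc h.syl.1 hT2 (syl_not_dvd h.syl) h.char2).trans (hL.zc_o2_le hKo (o2_le_syl h.syl))
    have hUz : U ≤ zc (lev (S : Subgroup G) m) := by
      refine UU_le (fun l => ?_) (hΓK.trans (NO3S.Level.normalizer_le_zc _))
      obtain ⟨N1, N0, r, hp⟩ := h.yk.pb l
      exact hp.VN.trans ((h.yk.EY l).trans hVz)
    have hU2 : IsElementaryAbelian 2 U := PLocal.ThompsonJ.isElementaryAbelian_mono (NO3S.OneLine.zc_elem _) hUz
    have hfm := BlOf.fm_lev (H := Γ) hL hUz hΓK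
    rw [hnx, hb.inf_eq hT2 hBjT] at hfm
    refine ⟨_, fin _ hU2 hfm fun A hA g hg => BO.conj hA (h.LK i ((Nat.le_succ m).trans h.jn) hg) ?_⟩
    have h3 : A ≤ o2 P := by
      have h4 := BO.le_nxt hA
      rw [hnx] at h4
      exact h4.trans (h.levQ h.jn)
    have h4 := cj_mono g h3
    rw [cj_eq_of_mem_normalizer (h.LQ i hg)] at h4
    exact h4.trans h.QT

end Inp

end Cfsg.Agent.Omega.OM.Lev.Low

end

section


/-!
# TEXT LL v2 (helper584 #20624), (4) + (5) + (W), `q = 2`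

`wide` : if `Y` moves `Ω₁Z(T)`, then for every block `K l` of `Y` two elements of `V_P` have different nontrivial
components at `l`.
-/

set_option autoImplicit false
set_option linter.unusedSectionVars false

namespace Cfsg.Agent.Omega.OM.Lev.Low

open Subgroup Cfsg Cfsg.Agent.ZN.ChoiceBase Cfsg.Agent.ZN.ChoiceSit
open Cfsg.Agent.ZN (jj zj bau zc zl o2)
open Cfsg.Agent.Omega.SQ1.Bau (elem_comm elem_sq)
open Cfsg.Agent.Omega.OM.SwapL (Ln ZL)
open Cfsg.Agent.Omega.OM.LevB (lb zc_B nxt_lev isLev_T bz_lev)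
open Cfsg.Agent.Omega.NO3S.Level (lev lev_mono lev_isLev Lev BO nxt lev_le_succ lev_le)
open Cfsg.Agent.Omega.OM.Lev.Low.Five (Set5)
open Cfsg.Agent.Omega.OM.Lev.Low.YB
open Cfsg.Agent.Omega.OM.Lev.Low.WDead (tri_of)
open scoped commutatorElement

universe u

variable {G : Type u} [Group G] [Finite G] {ι Λ : Type} {S : Sylow 2 G} {P : Subgroup G} {n : ℕ}
  {L W Z C A : ι → Subgroup G} {T Y : Subgroup G} {j : ℕ} {K E N c : Λ → Subgroup G}

namespace Inp

variable (h : Inp S P n L W Z C A T Y j K E N c)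
include h

theorem qv [Finite ι] : QV T (zc (lev (S : Subgroup G) j)) (o2 P) (zl (S : Subgroup G) P) :=
  Low.qv h.ln h.syl.2.1 h.BT h.jn

/-- `|π_l(V)| ≤ 2` for one `l` implies it for all `l` -/
theorem hf [Finite ι] {l₀ : Λ} (hl : ∀ v ∈ zl (S : Subgroup G) P, ∀ v' ∈ zl (S : Subgroup G) P, v ∉ N l₀ → v' ∉ N l₀ →
    v * v' ∈ N l₀) : Hf T (zc (lev (S : Subgroup G) j)) (o2 P) (zl (S : Subgroup G) P) N c where
  yb := h.yk.yb
  qv := h.qv
  half := by
    intro l v hv v' hv' hn hn'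
    obtain ⟨t, ht, hm⟩ := h.yk.tr l l₀
    have h1 := hl (t * v * t⁻¹) (QV.memV h.yk.yb h.qv ht hv) (t * v' * t⁻¹) (QV.memV h.yk.yb h.qv ht hv')
      (fun h2 => hn (hm.cen.1 h2)) fun h2 => hn' (hm.cen.1 h2)
    have e : t * v * t⁻¹ * (t * v' * t⁻¹) = t * (v * v') * t⁻¹ := by group
    rw [e] at h1
    exact hm.cen.1 h1

/-- `Ω₁Z(T)` is nontrivial at all `l` -/
theorem zc_all {l : Λ} (hl : ¬ zc T ≤ N l) (m : Λ) : ¬ zc T ≤ N m := by
  intro hm
  obtain ⟨z, hz, hzl⟩ := SetLike.not_le_iff_exists.1 hl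
  obtain ⟨t, ht, hlm⟩ := h.yk.tr l m
  have h1 := (mem_zc.1 hz).2.2 t ht
  have e : t * z * t⁻¹ = z := by rw [h1]; group
  refine hzl (hlm.cen.1 ?_)
  rw [e]
  exact hm hz

/-- **(4), (W)** -/
theorem two [Finite ι] [Finite Λ] {l₀ : Λ} (hZ : ¬ zc T ≤ N l₀)
    (hl : ∀ v ∈ zl (S : Subgroup G) P, ∀ v' ∈ zl (S : Subgroup G) P, v ∉ N l₀ → v' ∉ N l₀ → v * v' ∈ N l₀) : False := by
  have k := h.hf hl
  have fr := h.ln.fr
  have hBT := h.BT
  -- `z i`
  obtain ⟨i, hi⟩ : ∃ i, ¬ Z i ≤ N l₀ := by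
    by_contra hcon
    push Not at hcon
    exact hZ ((zc_T_le S h.syl.2.1 hBT).trans (zj_le fr hcon))
  obtain ⟨z, hz, hzl⟩ := SetLike.not_le_iff_exists.1 hi
  have hz1 : z ≠ 1 := fun e => hzl (e ▸ one_mem _)
  obtain ⟨i', hi'⟩ := h.ln.two i
  have hane := fr.Ane i
  push Not at hane
  obtain ⟨b, hb, v₁, hv₁, hne⟩ := hane
  have r := rt fr hBT hb fun h1 => hne (h1 v₁ hv₁)
  obtain ⟨m₀, hm⟩ := k.yb.perm b r.bT l₀
  have hml := k.moves r hm hz hzl
  obtain ⟨y, hy, hyp, hyl⟩ := k.yb.exists_single k.qv l₀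
  have e1 := k.eq_z r (fun z hz z' hz' h1 h2 => UniPlus.eq_of_card_two (fr.cardZ i) hz hz' h1 h2) hm hz hz1 hml hy
    hyp hyl
  have hsupp : ∀ l', z ∉ N l' ↔ l' ∈ Orb (o2 P) N c l₀ ∨ l' ∈ Orb (o2 P) N c m₀ := fun l' => by
    rw [e1]; exact k.supp r.bT hm hml hy hyp hyl
  obtain ⟨v, hv, y', hy'Z, hy'C, hyv, hy'N⟩ := k.exists_dec fr hBT hz hzl hy hyp
  -- the blocks in the support centralise `Z i'`
  have hσ : ∀ l, z ∉ N l → Z i' ≤ N l := fun l hl' w hw => by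
    by_contra hw'
    exact k.disj fr hBT (Ne.symm hi') hz hw hl' hw'
  -- `B` is transitive on the support
  have hbB : b ∈ SwapL.BL (S : Subgroup G) n := fr.AB i hb
  have htr0 : ∀ l, z ∉ N l → ∃ g ∈ SwapL.BL (S : Subgroup G) n, Mv N c g l₀ l := by
    intro l hl'
    rcases (hsupp l).1 hl' with ⟨q, hq, h1⟩ | ⟨q, hq, h1⟩
    · exact ⟨q, fr.QB hq, h1⟩
    · exact ⟨q * b, mul_mem (fr.QB hq) hbB, h1.mul hm⟩
  have htr1 : ∀ l m : {l // z ∉ N l}, ∃ g ∈ SwapL.BL (S : Subgroup G) n, Mv N c g (l : Λ) m := by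
    intro l m
    obtain ⟨g, hg, h1⟩ := htr0 l l.2
    obtain ⟨g', hg', h2⟩ := htr0 m m.2
    exact ⟨g' * g⁻¹, mul_mem hg' (inv_mem hg), h2.mul h1.inv⟩
  have hBL : SwapL.BL (S : Subgroup G) n ≤ L i := (fr.blk i).BL
  obtain ⟨AA, X⟩ := h.exists_set5 i hi' (fun l => z ∉ N l) hσ fun l m => by
    obtain ⟨g, hg, h1⟩ := htr1 l m
    exact ⟨g, hBL hg, h.yk.mv g (hBT hg) _ _ h1⟩
  -- the three elements of `W i`
  have hnb := SwapL.nb fr i
  have h4 : Nat.card (W i) = 4 := by rw [(fr.blk i).card, fr.cardZ i]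
  have hbz : b * z = z * b := (fr.blk i).cZ b hbB z hz
  obtain ⟨w, hw2, kt, hall⟩ := tri_of (P := L i) (L := L i) (Vi := W i) h4 (fr.blk i).el
    (fun l hl' => mem_normalizer_of_cj_le (by
      rintro _ ⟨x, hx, rfl⟩
      exact (fr.blk i).nV l hl' x hx)) le_rfl (fun x hx x' hx' hx1 hx1' => by
        obtain ⟨g, hg, s, hs, e⟩ := UniPlus.cover_two hnb hx
        obtain ⟨g', hg', s', hs', e'⟩ := UniPlus.cover_two hnb hx'
        have e2 : g * s * g⁻¹ = x := e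
        have e2' : g' * s' * g'⁻¹ = x' := e'
        have hs1 : s ≠ 1 := fun e3 => hx1 (by rw [← e2, e3]; group)
        have hs1' : s' ≠ 1 := fun e3 => hx1' (by rw [← e2', e3]; group)
        have e4 := UniPlus.eq_of_card_two (fr.cardZ i) hs hs' hs1 hs1'
        refine ⟨g' * g⁻¹, mul_mem hg' (inv_mem hg), ?_⟩
        rw [← e2, ← e2', ← e4]
        group) ((fr.blk i).ZV hz) hz1 (t := b) (hBL hbB) hbz (fun h5 => hne (mem_centralizer_iff.1 h5 v₁ hv₁).symm)
    (y' := y') (fun g hg => fr.LC i g hg y' hy'Z hy'C) fun u hu => fr.Vc (fr.ZJV hy'Z) (fr.WV i hu)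
  have hzX : z ∈ zc (lev (S : Subgroup G) j) := h.qv.VX (fr.ZV i hz)
  have hyX : y' ∈ zc (lev (S : Subgroup G) j) := h.qv.VX (fr.ZJV hy'Z)
  have hwV : ∀ a, w a ∈ zl (S : Subgroup G) P := by
    intro a
    have h5 : ∀ a, ∃ g ∈ L i, g * w 2 * g⁻¹ = w a := fun a => by
      obtain ⟨g, hg, -, h6⟩ := kt.ex (Equiv.swap 2 a)
      exact ⟨g, hg, by rw [h6, Equiv.swap_apply_left]⟩
    obtain ⟨g, hg, e⟩ := h5 a
    rw [← e, hw2]
    exact fr.LV i g hg z (fr.ZV i hz)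
  -- `v`
  have hv1 : v ≠ 1 := by
    rintro rfl
    rw [one_mul] at hyv
    exact hyl (by rw [hyv]; exact hy'N l₀ hzl)
  have hvz : v ≠ z := by
    rintro rfl
    have h5 : b * y = y * b := by
      rw [hyv]
      have c1 : Commute b v := hbz
      have c2 : Commute b y' := ((fr.mem_ZJ y').1 hy'Z).2 b hbB
      exact (c1.mul_right c2).eq
    have h6 : b * y * b⁻¹ = y := by rw [h5]; group
    rw [h6, k.yb.mul_self (k.qv.VX hy)] at e1
    exact hz1 e1
  have hv01 : v = w 0 ∨ v = w 1 := by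
    obtain ⟨a, ha⟩ := hall v hv hv1
    have h5 : ∀ a : Fin 3, a = 0 ∨ a = 1 ∨ a = 2 := by decide
    rcases h5 a with rfl | rfl | rfl
    · exact Or.inl ha
    · exact Or.inr ha
    · exact absurd (ha.trans hw2) hvz
  -- lines
  have hQT := h.QT
  have hline : ∀ p : Set Λ, Cp c p ≤ ⨆ l ∈ p, ⁅(⁅E l, K l⁆ : Subgroup G), LevB.BL (S : Subgroup G) j⁆ := fun p =>
    iSup₂_mono fun l _ => by
      obtain ⟨N1, N0, r', hp⟩ := h.yk.pb l
      rw [hp.VB_eq]
      exact h.yk.line l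
  have hl0' : z ∉ N l₀ := hzl
  refine X.no_two' kt (h.QL i) (h.QT.trans h.TBj) (h.LQ i) (fun q hq a => fr.cQ hq (hwV a)) ?_ ?_ ?_ ?_
    (σ := fun l => (l : Λ) ∈ Orb (o2 P) N c l₀) ⟨⟨l₀, hzl⟩, self_mem _ _⟩ ?_ ?_ ?_ ?_ hyv hv01 ?_
  · -- `trP`
    intro l m
    obtain ⟨g, hg, h5⟩ := htr1 l m
    exact ⟨g, hBL hg, h.TBj (hBT hg), h.yk.mv g (hBT hg) _ _ h5⟩
  · -- `cK`
    intro l m hlm x hx
    obtain ⟨N1, N0, r', hp⟩ := h.yk.pb l
    have h5 : x ∈ ⁅E (l : Λ), LevB.BL (S : Subgroup G) j⁆ := by rw [← hp.VB_eq]; exact hx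
    have h6 : x ∈ zc (lev (S : Subgroup G) j) := by
      have h7 := (X.c_le l) hx
      exact h7.2
    exact (h.mem_cK h6).1 (h.yk.cross l m (fun e => hlm (Subtype.ext e)) h5)
  · -- `hz`
    rw [hw2]
    have h5 : y ∈ sSup (Set.range fun l : {l // z ∉ N l} =>
        ⁅(⁅E (l : Λ), K (l : Λ)⁆ : Subgroup G), LevB.BL (S : Subgroup G) j⁆) := by
      refine (iSup₂_le fun l hl' => ?_ : (⨆ l ∈ Orb (o2 P) N c l₀,
        ⁅(⁅E l, K l⁆ : Subgroup G), LevB.BL (S : Subgroup G) j⁆) ≤ _) (hline _ hyp)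
      exact le_sSup ⟨⟨l, (hsupp l).2 (Or.inl hl')⟩, rfl⟩
    have h6 : b * y * b⁻¹ ∈ sSup (Set.range fun l : {l // z ∉ N l} =>
        ⁅(⁅E (l : Λ), K (l : Λ)⁆ : Subgroup G), LevB.BL (S : Subgroup G) j⁆) := by
      refine (iSup₂_le fun l hl' => ?_ : (⨆ l ∈ Orb (o2 P) N c m₀,
        ⁅(⁅E l, K l⁆ : Subgroup G), LevB.BL (S : Subgroup G) j⁆) ≤ _) (hline _ (k.cj_mem r.bT hm hyp))
      exact le_sSup ⟨⟨l, (hsupp l).2 (Or.inr hl')⟩, rfl⟩
    have h7 := mul_mem h5 h6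
    rwa [← e1] at h7
  · -- `hz'`
    intro l hcon
    rw [hw2] at hcon
    exact l.2 ((h.mem_cK hzX).2 hcon)
  · -- another orbit
    exact ⟨⟨m₀, (hsupp m₀).2 (Or.inr (self_mem _ _))⟩, hml⟩
  · -- `hQ`
    intro q hq l
    obtain ⟨m, hlm⟩ := k.yb.perm q (hQT hq) l
    have h5 : (l : Λ) ∈ Orb (o2 P) N c l₀ ↔ m ∈ Orb (o2 P) N c l₀ := orb_inv l₀ q hq l m hlm
    have h6 : (l : Λ) ∈ Orb (o2 P) N c m₀ ↔ m ∈ Orb (o2 P) N c m₀ := orb_inv m₀ q hq l m hlm
    refine ⟨⟨m, (hsupp m).2 ?_⟩, h5, h.yk.mv q (hQT hq) _ _ hlm⟩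
    rcases (hsupp l).1 l.2 with h7 | h7
    · exact Or.inl (h5.1 h7)
    · exact Or.inr (h6.1 h7)
  · -- `hQ'`
    intro l m hlm
    have h5 : (m : Λ) ∈ Orb (o2 P) N c l := by
      by_cases h6 : (l : Λ) ∈ Orb (o2 P) N c l₀
      · exact orb_trans (orb_symm h6) (hlm.1 h6)
      · have h7 := ((hsupp l).1 l.2).resolve_left h6
        have h8 := ((hsupp m).1 m.2).resolve_left fun h9 => h6 (hlm.2 h9)
        exact orb_trans (orb_symm h7) h8
    obtain ⟨q, hq, h6⟩ := h5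
    exact ⟨q, hq, h.yk.mv q (hQT hq) _ _ h6⟩
  · -- `hy`
    refine (iSup₂_le fun l hl' => ?_ : (⨆ l ∈ Orb (o2 P) N c l₀,
      ⁅(⁅E l, K l⁆ : Subgroup G), LevB.BL (S : Subgroup G) j⁆) ≤ _) (hline _ hyp)
    exact le_sSup ⟨⟨l, (hsupp l).2 (Or.inl hl')⟩, hl', rfl⟩
  · -- `hy'`
    intro l
    exact (h.mem_cK hyX).1 (hy'N l l.2)

/-- **Two elements of `V_P` with different nontrivial components at `l`.** -/
theorem wide [Finite ι] [Finite Λ] (hZ : ∃ l, ¬ zc T ≤ N l) (l : Λ) :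
    ∃ v ∈ zl (S : Subgroup G) P, ∃ a ∈ c l, a * v ∈ N l ∧ a ≠ 1 ∧
      ∃ v' ∈ zl (S : Subgroup G) P, ∃ a' ∈ c l, a' * v' ∈ N l ∧ a' ≠ 1 ∧ a ≠ a' := by
  by_contra hcon
  push Not at hcon
  obtain ⟨l₁, hl₁⟩ := hZ
  refine h.two (h.zc_all hl₁ l) fun v hv v' hv' hn hn' => ?_
  obtain ⟨a, ha, h1⟩ := h.yk.yb.fix l v (h.qv.VX hv)
  obtain ⟨a', ha', h1'⟩ := h.yk.yb.fix l v' (h.qv.VX hv')
  have ha1 : a ≠ 1 := fun e => hn (by rwa [e, one_mul] at h1)
  have ha1' : a' ≠ 1 := fun e => hn' (by rwa [e, one_mul] at h1')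
  have h2 := hcon v hv a ha h1 ha1 v' hv' a' ha' h1' ha1'
  subst h2
  have h3 := mul_mem (inv_mem h1) h1'
  have e : (a * v)⁻¹ * (a * v') = v⁻¹ * v' := by group
  rw [e, h.yk.yb.inv_eq (h.qv.VX hv)] at h3
  exact h3

end Inp

end Cfsg.Agent.Omega.OM.Lev.Low

end

section


/-!
# The instance of `YK`, `q = 2`

* `yk_nat` : natural type, with the blocks `LD`, `PB` for every summand and the complements `Co`;
* `yk_sym` : symmetric type;
* `exists_nat_two` : **if `lev S n ≰ O₂(Y)` and `Y` moves `Ω₁Z(T)`, then `Y` is of natural type over `F`, `|F| > 2`, and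
  for every block two elements of `V_P` have different nontrivial components.**
-/

set_option autoImplicit false
set_option linter.unusedSectionVars false

namespace Cfsg.Agent.Omega.OM.Lev.Low

open Subgroup Cfsg Cfsg.Agent.ZN.ChoiceBase Cfsg.Agent.ZN.ChoiceSit
open Cfsg.Agent.ZN (jj zj bau zc zl o2)
open Cfsg.Agent.MinSimple.MinParabolic (IsMinPar)
open Cfsg.Agent.Omega.NO3S.OneLine (NatC natC_of)
open Cfsg.Agent.Omega.OM.Lev.Nat (Wn mem_Wn)
open Cfsg.Agent.Omega.OM.GLev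
open Cfsg.Agent.Omega.FFThm (NatKM SymKM)
open Cfsg.Agent.Omega.FrameFF (cv)
open Cfsg.Agent.Omega.OM.SwapL (Ln ZL)
open Cfsg.Agent.Omega.NO3S.Level (lev lev_mono lev_isLev Lev lev_le)
open scoped commutatorElement

universe u

variable {G : Type u} [Group G] [Finite G]

/-- `K i` is a block for the `i`-th summand. -/
structure NB' {F : Type} [Field F] {T H V D : Subgroup G} {k : ℕ} (M : NatC F T H V D k) (B ZJ : Subgroup G)
    (K c : Fin k → Subgroup G) : Prop where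
  ld : ∀ i, LD M B ZJ (K i) i
  pb : ∀ i, PB B (K i) (Wn M i) (Wn M i ⊓ ZJ) D (Nat.card F)
  co : Co M c
  act : ∀ i, ∀ l ∈ K i, ∃ A, M.Acts l A

/-- **Natural type.** -/
theorem yk_nat {F : Type} [Field F] [Finite F] [CharP F 2] {T H X B ZJ : Subgroup G} {AA : Set (Subgroup G)} {k : ℕ}
    (h : GE T H X AA) (b : BZ T X AA B ZJ) (N : NatKM F T H (zl T H) (cv T H) k) (hk : 0 < k)
    (hex : ∃ A ∈ AA, ¬ A ≤ o2 H) :
    ∃ K Nn c : Fin k → Subgroup G, YK T H ZJ B K (fun i => Wn (natC_of h.hm hk N.toNatK) i) Nn c ∧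
      NB' (natC_of h.hm hk N.toNatK) B ZJ K c := by
  classical
  set M := natC_of h.hm hk N.toNatK with hM
  have hTH := h.TH
  choose K hld hpb hsup hact using fun i => exists_ldb_all h b N hk hex i
  obtain ⟨c, hc, hcl⟩ := (hld ⟨0, hk⟩).exists_co'
  have hL := hld ⟨0, hk⟩
  have hy := hL.yb_aux hc fun i s hs t ht hsm htm => cyc_line h.hm N hk hs hsm ht htm
  set Nn := Ni M ZJ (K ⟨0, hk⟩) ⟨0, hk⟩ with hNn
  have hmv : ∀ t ∈ T, ∀ l m, MvI M t l m → Mv Nn c t l m := fun t ht l m hlm =>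
    ⟨hL.Ni_cj ht hlm, hc.conj t ht l m hlm⟩
  have hmv' : ∀ t ∈ T, ∀ l m, Mv Nn c t l m → MvI M t l m := fun t ht l m hlm => by
    obtain ⟨m', hm'⟩ := MvI.ex M (hTH ht) l
    rwa [hy.uniq hlm (hmv t ht l m' hm')]
  refine ⟨K, Nn, c, ?_, ⟨hld, hpb, hc, hact⟩⟩
  refine
    { yb := hy
      pb := fun l => ⟨_, _, _, hpb l⟩
      KY := fun l => (hld l).LH
      EY := fun l w hw => hw.1
      memN := fun l x hx => hL.mem_Ni_iff (hld l) hx
      mv := fun t ht l m hlm => ?_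
      line := fun l => hcl l
      cross := fun l m hlm x hx => ?_
      tr := fun l m => ?_
      sup := hsup }
  · have h1 := hmv' t ht l m hlm
    apply le_antisymm ((hld l).comm_cj (hact l) (hld m) ht h1)
    have h2 := cj_mono t ((hld m).comm_cj (hact m) (hld l) (inv_mem ht) (h1.inv (hTH ht)))
    rwa [cj_cj_inv] at h2
  · refine hL.comm_Ni hlm ?_
    have h1 : ⁅Wn M l, B⁆ ≤ Li M l := by
      rw [Subgroup.commutator_le]
      intro w hw b' hb'
      have h2 := (hpb l).quad b' hb' w⁻¹ (inv_mem hw)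
      obtain ⟨h3, h4⟩ := mem_inf.1 h2
      have h5 : ⁅w, b'⁆ ∈ Wn M l ⊓ ZJ := by
        have e : ⁅w, b'⁆ = w * (b' * w⁻¹ * b'⁻¹ * w⁻¹⁻¹) * w⁻¹ := by rw [commutatorElement_def]; group
        have e2 : w * (b' * w⁻¹ * b'⁻¹ * w⁻¹⁻¹) * w⁻¹ = b' * w⁻¹ * b'⁻¹ * w⁻¹⁻¹ := by
          rw [M.Vcomm hw.1 h3.1, mul_inv_cancel_right]
        rw [e, e2]
        exact h2
      obtain ⟨h6, h7⟩ := mem_inf.1 h5
      exact ⟨h6.1, h6.2, ((hld l).mem _ h6.1).1 h7 l⟩
    exact h1 hx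
  · obtain ⟨t, ht, htr⟩ := M.nat.trans l m
    exact ⟨t, ht, hmv t ht l m htr⟩

/-- **Symmetric type.** -/
theorem yk_sym {T H X B ZJ : Subgroup G} {AA : Set (Subgroup G)} {k m : ℕ}
    (h : GE T H X AA) (b : BZ T X AA B ZJ) (N : SymKM T H (zl T H) (cv T H) k m) (hk : 0 < k) (hm : 1 ≤ m)
    (hex : ∃ A ∈ AA, ¬ A ≤ o2 H) :
    ∃ (ι : Type) (_ : Finite ι) (_ : Nonempty ι) (W K : ι → Subgroup G) (d : ι → G),
      YK T H ZJ B K W (fun i => centralizer (K i : Set G)) (fun i => zpowers (d i)) ∧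
      (∀ i, PB B (K i) (W i) (zpowers (d i)) ⊥ 2) ∧ ∀ i, d i * d i = 1 := by
  obtain ⟨ι, hf, hne, W, K, d, hy, hperm, htr, hd1, hcard, hWV, hpb, hKH, hsup⟩ := YSym.exists_yb h b N hk hm hex
  have hd2 : ∀ i, d i * d i = 1 := fun i => by
    rw [← pow_two]
    exact hy.sq _ (hy.cX i (mem_zpowers _))
  have hmv : ∀ t ∈ T, ∀ l m, t * d l * t⁻¹ = d m → cj t (K l) = K m →
      Mv (fun i => centralizer (K i : Set G)) (fun i => zpowers (d i)) t l m := by
    intro t ht l m h1 h2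
    refine ⟨?_, ?_⟩
    · show cj t (centralizer (K l : Set G)) = _
      rw [cj_centralizer, h2]
    · show cj t (zpowers (d l)) = zpowers (d m)
      have h3 : cj t (zpowers (d l)) = zpowers (t * d l * t⁻¹) := by
        show Subgroup.map _ (zpowers (d l)) = _
        rw [MonoidHom.map_zpowers]
        rfl
      rw [h3, h1]
  refine ⟨ι, hf, hne, W, K, d, ?_, hpb, hd2⟩
  refine
    { yb := hy
      pb := fun l => ⟨_, _, _, hpb l⟩
      KY := hKH
      EY := hWV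
      memN := fun l x _ => ?_
      mv := fun t ht l m hlm => ?_
      line := fun l => ?_
      cross := fun l m hlm => ?_
      tr := fun l m => ?_
      sup := hsup }
  · show x ∈ centralizer (K l : Set G) ↔ _
    rw [mem_centralizer_iff]
    exact Iff.rfl
  · obtain ⟨m', h1, h2, h3⟩ := hperm t ht l
    have h4 := hy.uniq hlm (hmv t ht l m' h1 h2)
    subst h4
    rw [show cj t ⁅W l, K l⁆ = ⁅cj t (W l), cj t (K l)⁆ from Subgroup.map_commutator _ _ _, h2, h3]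
  · obtain ⟨v, hv, hv1⟩ := (hpb l).exists_v
    intro x hx
    obtain ⟨b', hb', n0, hn0, e⟩ := (hpb l).line hv hv1 hx
    rw [mem_bot.1 hn0, mul_one] at e
    rw [e]
    have h1 := inv_mem (commutator_mem_commutator hv hb')
    have e2 : ⁅v, b'⁆⁻¹ = b' * v * b'⁻¹ * v⁻¹ := by rw [commutatorElement_def]; group
    rwa [e2] at h1
  · refine le_trans ?_ (hy.comm l m hlm)
    rw [Subgroup.commutator_le]
    intro w hw b' hb'
    have h1 := (hpb l).quad b' hb' w hw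
    have h2 := inv_mem h1
    have e : (b' * w * b'⁻¹ * w⁻¹)⁻¹ = ⁅w, b'⁆ := by rw [commutatorElement_def]; group
    rwa [e] at h2
  · obtain ⟨t, ht, h1⟩ := htr l m
    obtain ⟨m', h2, h3, -⟩ := hperm t ht l
    refine ⟨t, ht, ?_⟩
    have h4 := hmv t ht l m' h2 h3
    have h5 : m' = m := by
      by_contra hne'
      have h6 := hy.comm m m' (Ne.symm hne')
      have h7 : zpowers (d m) = zpowers (d m') := by rw [← h1, h2]
      have h8 := hy.triv m'
      rw [inf_eq_left.2 (h7 ▸ h6)] at h8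
      exact hy.ne m' h8
    rwa [h5] at h4

/-- **The output of (4), (5), (W).** -/
structure OutN {ι : Type} (S : Sylow 2 G) (P : Subgroup G) (n : ℕ) (L W Z C A : ι → Subgroup G) (T Y : Subgroup G)
    (j : ℕ) {F : Type} [Field F] {k : ℕ} (M : NatC F T Y (zl T Y) (cv T Y) k) (K Nn c : Fin k → Subgroup G) :
    Prop where
  inp : Inp S P n L W Z C A T Y j K (fun i => Wn M i) Nn c
  nb : NB' M (LevB.BL (S : Subgroup G) j) (zc (lev (S : Subgroup G) j)) K c
  zT : ∀ l, ¬ zc T ≤ Nn l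
  wide : ∀ l, ∃ v ∈ zl (S : Subgroup G) P, ∃ a ∈ c l, a * v ∈ Nn l ∧ a ≠ 1 ∧
      ∃ v' ∈ zl (S : Subgroup G) P, ∃ a' ∈ c l, a' * v' ∈ Nn l ∧ a' ≠ 1 ∧ a ≠ a'

/-- **The output of (4), (5), (W), `q = 2`.** -/
theorem exists_out {ι : Type} [Finite ι] {S : Sylow 2 G} {P : Subgroup G} {n : ℕ} {L W Z C A : ι → Subgroup G}
    (h : Ln S P n L W Z C A 2) {T Y : Subgroup G} (hT : Syl T Y) (hB : SwapL.BL (S : Subgroup G) n ≤ T)
    (hP : IsMinPar T Y) (hc : Y ⊓ centralizer (o2 Y : Set G) ≤ o2 Y) (hZ : ¬ Y ≤ centralizer (zc T : Set G)) {j : ℕ}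
    (hj : j ≤ n) (hlow : ∀ i < j, lev (S : Subgroup G) i ≤ o2 Y) (hnj : ¬ lev (S : Subgroup G) j ≤ o2 Y) :
    ∃ (X : Subgroup G) (AA' : Set (Subgroup G)) (hge : GE T Y X AA')
      (_ : BZ T X AA' (LevB.BL (S : Subgroup G) j) (zc (lev (S : Subgroup G) j))) (_ : ∃ A ∈ AA', ¬ A ≤ o2 Y)
      (F : Type) (_ : Field F) (_ : Finite F) (_ : CharP F 2) (k : ℕ) (hk : 0 < k)
      (N : NatKM F T Y (zl T Y) (cv T Y) k) (K Nn c : Fin k → Subgroup G),
      OutN S P n L W Z C A T Y j (natC_of hge.hm hk N.toNatK) K Nn c := by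
  have hBj : LevB.BL (S : Subgroup G) j ≤ T := (BL_mono (S : Subgroup G) (by omega : j ≤ n + 1)).trans hB
  obtain ⟨X, AA', hge, hbz, hex, hcon⟩ := exists_ge S hT hBj hP hc hlow hnj hZ
  have hzT : ∀ {Λ : Type} {K E Nn c : Λ → Subgroup G},
      YK T Y (zc (lev (S : Subgroup G) j)) (LevB.BL (S : Subgroup G) j) K E Nn c → ∀ l, ¬ zc T ≤ Nn l := by
    intro Λ K E Nn c hyk l hle
    refine hZ ((hyk.sup l).trans (sup_le (NO3S.Level.le_centralizer_zc T) fun x hx => mem_centralizer_iff.2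
      fun z hz => ?_))
    have hzX : z ∈ zc (lev (S : Subgroup G) j) :=
      (isLev_le hT.2.1 hBj hz : z ∈ zc (lev (S : Subgroup G) j))
    exact ((hyk.memN l z hzX).1 (hle hz) x hx).symm
  rcases hcon with ⟨F, hF1, hF2, hF3, k, hk, ⟨N⟩⟩ | ⟨k, m, hk, hm, ⟨N⟩⟩
  · obtain ⟨K, Nn, c, hyk, hnb⟩ := yk_nat hge hbz N hk hex
    have hin : Inp S P n L W Z C A T Y j K (fun i => Wn (natC_of hge.hm hk N.toNatK) i) Nn c :=
      ⟨h, hT, hB, hj, hc, hlow, hyk⟩
    have hz := hzT hyk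
    exact ⟨X, AA', hge, hbz, hex, F, hF1, hF2, hF3, k, hk, N, K, Nn, c, hin, hnb, hz, hin.wide ⟨⟨0, hk⟩, hz _⟩⟩
  · exfalso
    obtain ⟨ι', hf, ⟨i⟩, W', K, d, hyk, hpb, hd2⟩ := yk_sym hge hbz N hk (by omega) hex
    have hin : Inp S P n L W Z C A T Y j K W' (fun i => centralizer (K i : Set G)) (fun i => zpowers (d i)) :=
      ⟨h, hT, hB, hj, hc, hlow, hyk⟩
    obtain ⟨v, -, a, ha, -, ha1, v', -, a', ha', -, ha1', hne⟩ := hin.wide ⟨i, hzT hyk i⟩ i
    have h1 : ∀ x ∈ zpowers (d i), x ≠ 1 → x = d i := by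
      intro x hx hx1
      obtain ⟨r, rfl⟩ := mem_zpowers_iff.1 hx
      rcases Int.even_or_odd r with ⟨s, rfl⟩ | ⟨s, rfl⟩
      · exfalso
        apply hx1
        rw [← two_mul, zpow_mul, zpow_ofNat, pow_two, hd2, one_zpow]
      · rw [zpow_add, zpow_mul, zpow_ofNat, pow_two, hd2, one_zpow, one_mul, zpow_one]
    exact hne ((h1 a ha ha1).trans (h1 a' ha' ha1').symm)
where
  isLev_le {S : Sylow 2 G} {T : Subgroup G} {j : ℕ} (hT : IsPGroup 2 T) (hB : LevB.BL (S : Subgroup G) j ≤ T) :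
      zc T ≤ zc (lev (S : Subgroup G) j) :=
    (LevB.isLev_T S hT ((LevB.lb S j).KB.trans hB)).zc_le

end Cfsg.Agent.Omega.OM.Lev.Low

end

section


/-!
# LEMMA QW: a quadratic four-group and a normal odd abelian subgroup

`K` acts on the elementary abelian 2-group `W`; `Z` is a normal abelian subgroup of odd order; `e, f` are commuting
involutions, `⟨e, f⟩` is quadratic on `W`. If `y ∈ W` is centralised by `e`, `f` and `C_Z(e, f)`, and `K / C_K(Z)` is
simple and generated by `⟨e, f⟩` and one involution of one conjugate `⟨e, f⟩^g`, then `Z` centralises `y` (`fix_abelian`).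

* `fix_of_five` : a vector `y` centralised by the stabiliser `N` of a point, `|K : N| = 5`, `⟨e, f⟩` regular on the
  other four points, is centralised by `K`.
-/

set_option autoImplicit false
set_option linter.unusedSectionVars false

namespace Cfsg.Agent.Omega.OM.Lev.Low.QW

open Subgroup

variable {K W : Type*} [Group K] [Finite K] [AddCommGroup W] [DistribMulAction K W]

/-- the norm -/
noncomputable def tr (N : Subgroup K) (w : W) : W := ∑ᶠ n : N, (n : K) • w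

theorem eq_of_add (h2 : ∀ w : W, w + w = 0) {a b : W} (h : a + b = 0) : a = b := by
  have h3 := h2 b
  have h4 : a + b = b + b := by rw [h, h3]
  exact add_right_cancel h4

theorem odd_nsmul (h2 : ∀ w : W, w + w = 0) {n : ℕ} (hn : Odd n) (w : W) : n • w = w := by
  obtain ⟨m, rfl⟩ := hn
  rw [add_nsmul, one_nsmul, mul_comm, mul_nsmul', two_nsmul, h2 w, nsmul_zero, zero_add]

theorem tr_fix (h2 : ∀ w : W, w + w = 0) {N : Subgroup K} (hN : Odd (Nat.card N)) {w : W}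
    (hw : ∀ n ∈ N, n • w = w) : tr N w = w := by
  classical
  have : Fintype N := Fintype.ofFinite N
  unfold tr
  rw [finsum_eq_sum_of_fintype, Finset.sum_congr rfl fun (n : N) _ => hw n n.2, Finset.sum_const, Finset.card_univ,
    ← Nat.card_eq_fintype_card]
  exact odd_nsmul h2 hN w

theorem smul_tr {N : Subgroup K} {k : K} (hk : k ∈ N) (w : W) : k • tr N w = tr N w := by
  classical
  have : Fintype N := Fintype.ofFinite N
  unfold tr
  rw [finsum_eq_sum_of_fintype, Finset.smul_sum]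
  refine Fintype.sum_equiv (Equiv.mulLeft (⟨k, hk⟩ : N)) _ _ fun n => ?_
  rw [← mul_smul]
  rfl

theorem tr_smul {N : Subgroup K} {k : K} (hk : ∀ n : K, n ∈ N ↔ k * n * k⁻¹ ∈ N) (w : W) :
    tr N (k • w) = k • tr N w := by
  classical
  have : Fintype N := Fintype.ofFinite N
  unfold tr
  rw [finsum_eq_sum_of_fintype, finsum_eq_sum_of_fintype, Finset.smul_sum]
  symm
  refine Fintype.sum_equiv
    { toFun := fun n : N => (⟨k * n * k⁻¹, (hk _).1 n.2⟩ : N)
      invFun := fun n : N => (⟨k⁻¹ * n * k, (hk _).2 (by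
        have : k * (k⁻¹ * (n : K) * k) * k⁻¹ = n := by group
        rw [this]; exact n.2)⟩ : N)
      left_inv := fun n => Subtype.ext (by change k⁻¹ * (k * (n : K) * k⁻¹) * k = n; group)
      right_inv := fun n => Subtype.ext (by change k * (k⁻¹ * (n : K) * k) * k⁻¹ = n; group) } _ _ fun n => ?_
  change k • (n : K) • w = (k * n * k⁻¹) • k • w
  rw [← mul_smul, ← mul_smul]
  congr 1
  group

theorem tr_add (N : Subgroup K) (v w : W) : tr N (v + w) = tr N v + tr N w := by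
  classical
  have : Fintype N := Fintype.ofFinite N
  unfold tr
  rw [finsum_eq_sum_of_fintype, finsum_eq_sum_of_fintype, finsum_eq_sum_of_fintype, ← Finset.sum_add_distrib]
  exact Finset.sum_congr rfl fun n _ => smul_add _ _ _

theorem tr_zero (N : Subgroup K) : tr N (0 : W) = 0 := by
  classical
  have : Fintype N := Fintype.ofFinite N
  unfold tr
  rw [finsum_eq_sum_of_fintype]
  exact Finset.sum_eq_zero fun n _ => smul_zero _

theorem odd_of_le {N Z : Subgroup K} (hZ : Odd (Nat.card Z)) (h : N ≤ Z) : Odd (Nat.card N) :=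
  hZ.of_dvd_nat (card_dvd_of_le h)

/-- `(a a) v = v` with `a` of odd order gives `a v = v`. -/
theorem odd_fix {Z : Subgroup K} (hZ : Odd (Nat.card Z)) {a : K} (ha : a ∈ Z) {v : W} (h : (a * a) • v = v) :
    a • v = v := by
  have h1 : a ^ Nat.card Z = 1 := by
    have h3 : (⟨a, ha⟩ : Z) ^ Nat.card Z = 1 := pow_card_eq_one'
    exact congrArg Subtype.val h3
  obtain ⟨m, hm⟩ := hZ
  have key : ∀ j : ℕ, (a ^ (2 * j)) • v = v := by
    intro j
    induction j with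
    | zero => simp
    | succ j ih => rw [mul_add, mul_one, pow_add, mul_smul, pow_two, h, ih]
  have h2 := key (m + 1)
  have e : a ^ (2 * (m + 1)) = a := by
    have : 2 * (m + 1) = Nat.card Z + 1 := by omega
    rw [this, pow_succ, h1, one_mul]
  rwa [e] at h2

section core

variable {Z : Subgroup K} {e f : K}

/-- **(S1)** -/
theorem s_one (h2 : ∀ w : W, w + w = 0) (hodd : Odd (Nat.card Z))
    (quad : ∀ w : W, w + e • w + f • w + (e * f) • w = 0) (hef : e * f = f * e) {d : K} (hd : d ∈ Z)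
    (hde : d * e = e * d) (hdf : f * d = d⁻¹ * f) (w : W) : e • (w + d • w) = w + d • w := by
  have hv : ∀ w : W, f • (w + e • w) = w + e • w := by
    intro w
    symm
    apply eq_of_add h2
    rw [smul_add, ← mul_smul, ← hef]
    have := quad w
    rw [← this]; abel
  have h3 : f • (d • (w + e • w)) = d • (w + e • w) := by
    have h4 := hv (d • w)
    rw [← mul_smul e d w, ← hde, mul_smul d e w, ← smul_add] at h4
    exact h4
  have h5 : (d * d) • (w + e • w) = w + e • w := by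
    rw [← mul_smul, hdf, mul_smul, hv w] at h3
    rw [mul_smul, ← h3, smul_inv_smul]
  have h6 := odd_fix hodd hd h5
  rw [smul_add, ← mul_smul, hde, mul_smul] at h6
  rw [smul_add]
  -- `d w + e d w = w + e w`
  have h7 : e • w + e • (d • w) = w + d • w := by
    have h8 : d • w + e • d • w + (d • w + e • w) = w + e • w + (d • w + e • w) := by rw [h6]
    have e1 : d • w + e • d • w + (d • w + e • w) = (d • w + d • w) + (e • w + e • d • w) := by abel
    have e2 : w + e • w + (d • w + e • w) = (e • w + e • w) + (w + d • w) := by abel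
    rw [e1, e2, h2, h2, zero_add, zero_add] at h8
    exact h8
  exact h7

/-- **(S2)** elements of `Z` inverted by `e` centralise `[W, d]`. -/
theorem s_two (h2 : ∀ w : W, w + w = 0) (hZ : ∀ a ∈ Z, ∀ b ∈ Z, a * b = b * a) (hodd : Odd (Nat.card Z))
    (quad : ∀ w : W, w + e • w + f • w + (e * f) • w = 0) (hef : e * f = f * e) {d : K} (hd : d ∈ Z)
    (hde : d * e = e * d) (hdf : f * d = d⁻¹ * f) {a : K} (ha : a ∈ Z) (hae : e * a = a⁻¹ * e) (w : W) :
    a • (w + d • w) = w + d • w := by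
  have h3 := s_one h2 hodd quad hef hd hde hdf
  have h4 : e • (a • (w + d • w)) = a • (w + d • w) := by
    have h5 := h3 (a • w)
    rw [← mul_smul d a w, hZ d hd a ha, mul_smul a d w, ← smul_add] at h5
    exact h5
  rw [← mul_smul, hae, mul_smul, h3 w] at h4
  refine odd_fix hodd ha ?_
  rw [mul_smul, ← h4, smul_inv_smul]

/-- The core: an element of `C_Z(e)` inverted by `f` centralises `y`. -/
theorem core (h2 : ∀ w : W, w + w = 0) (hn : Z.Normal) (hZ : ∀ a ∈ Z, ∀ b ∈ Z, a * b = b * a)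
    (hodd : Odd (Nat.card Z)) (he : e * e = 1) (hf : f * f = 1) (hef : e * f = f * e)
    (quad : ∀ w : W, w + e • w + f • w + (e * f) • w = 0) (g₀ : K)
    (hgen : ∀ H : Subgroup K, centralizer (Z : Set K) ≤ H → e ∈ H → f ∈ H →
      (g₀ * e * g₀⁻¹ ∈ H ∨ g₀ * f * g₀⁻¹ ∈ H ∨ g₀ * (e * f) * g₀⁻¹ ∈ H) → H = ⊤)
    (hsim : ∀ H : Subgroup K, H.Normal → centralizer (Z : Set K) ≤ H → e ∈ H → f ∈ H) {y : W}
    (hyC : ∀ z ∈ Z, z * e = e * z → z * f = f * z → z • y = y) {d : K} (hd : d ∈ Z)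
    (hde : d * e = e * d) (hdf : f * d = d⁻¹ * f) : d • y = y := by
  classical
  by_contra hne
  set y₁ : W := y + d • y with hy₁
  have hy10 : y₁ ≠ 0 := fun h0 => hne (eq_of_add h2 h0).symm
  have einv : e⁻¹ = e := inv_eq_of_mul_eq_one_left he
  have finv : f⁻¹ = f := inv_eq_of_mul_eq_one_left hf
  have trZ : ∀ k : K, ∀ w : W, tr Z (k • w) = k • tr Z w := fun k w => tr_smul (fun n =>
    ⟨fun h => hn.conj_mem _ h k, fun h => by
      have := hn.conj_mem _ h k⁻¹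
      have e1 : k⁻¹ * (k * n * k⁻¹) * k⁻¹⁻¹ = n := by group
      rwa [e1] at this⟩) w
  have conjZ : ∀ k : K, ∀ z ∈ Z, k * z * k⁻¹ ∈ Z := fun k z hz => hn.conj_mem _ hz k
  -- the stabiliser of `y₁` in `Z`
  set N₁ : Subgroup K := Z ⊓ MulAction.stabilizer K y₁ with hN₁
  have memN : ∀ {z : K}, z ∈ Z → z • y₁ = y₁ → z ∈ N₁ := fun hz h => mem_inf.2 ⟨hz, MulAction.mem_stabilizer_iff.2 h⟩
  have ha : ∀ z ∈ Z, e * z * e⁻¹ * z⁻¹ ∈ N₁ := by
    intro z hz
    have hm := mul_mem (conjZ e z hz) (inv_mem hz)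
    refine memN hm (s_two h2 hZ hodd quad hef hd hde hdf hm ?_ y)
    have e1 : e * (e * z * e⁻¹ * z⁻¹) = (e * e) * z * e⁻¹ * z⁻¹ := by group
    have e2 : (e * z * e⁻¹ * z⁻¹)⁻¹ * e = z * e * z⁻¹ * e⁻¹ * e := by group
    rw [e1, e2, he, einv]
    have e3 : z * e * z⁻¹ * e * e = z * e * z⁻¹ * (e * e) := by group
    rw [e3, he]; group
  have hb : ∀ z ∈ Z, z * (f * z * f⁻¹) ∈ N₁ := by
    intro z hz
    have hz' := conjZ f z hz
    have hm := mul_mem hz hz'
    set b := z * (f * z * f⁻¹) with hbd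
    refine memN hm (odd_fix hodd hm ?_)
    have hfb : f * b * f⁻¹ = b := by
      have e1 : f * b * f⁻¹ = (f * z * f⁻¹) * (f * f * z * (f⁻¹ * f⁻¹)) := by rw [hbd]; group
      rw [e1, hf, finv, hf]
      have : f * z * f ∈ Z := by rw [finv] at hz'; exact hz'
      rw [hbd, finv, mul_one, one_mul, hZ _ this _ hz]
    have heb := conjZ e b hm
    -- `c = b b^e`
    have hc : (b * (e * b * e⁻¹)) • y₁ = y₁ := by
      have hcZ := mul_mem hm heb
      have h3 : (b * (e * b * e⁻¹)) • y = y := by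
        refine hyC _ hcZ ?_ ?_
        · have e1 : e * (b * (e * b * e⁻¹)) = (e * b * e⁻¹) * (e * e * b * e⁻¹) := by group
          rw [e1, he, one_mul, hZ _ hm _ heb]
          have e2 : e * b * e⁻¹ * b * e = e * b * e⁻¹ * (b * e) := by group
          rw [e2, einv]
        · have h4 : f * (b * (e * b * e⁻¹)) * f⁻¹ = b * (e * b * e⁻¹) := by
            have e1 : f * (b * (e * b * e⁻¹)) * f⁻¹ = (f * b * f⁻¹) * ((f * e) * b * (e⁻¹ * f⁻¹)) := by group
            have e2 : e⁻¹ * f⁻¹ = f⁻¹ * e⁻¹ := by rw [einv, finv, hef]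
            rw [e1, ← hef, e2, hfb]
            have e3 : e * f * b * (f⁻¹ * e⁻¹) = e * (f * b * f⁻¹) * e⁻¹ := by group
            rw [e3, hfb]
          calc (b * (e * b * e⁻¹)) * f = (f * (b * (e * b * e⁻¹)) * f⁻¹) * f := by rw [h4]
            _ = f * (b * (e * b * e⁻¹)) := by group
      rw [hy₁, smul_add, h3, ← mul_smul, hZ _ hcZ _ hd, mul_smul, h3]
    have haa : (b * (e * b⁻¹ * e⁻¹)) • y₁ = y₁ := by
      have hm2 := mul_mem hm (conjZ e _ (inv_mem hm))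
      refine s_two h2 hZ hodd quad hef hd hde hdf hm2 ?_ y
      have e1 : e * (b * (e * b⁻¹ * e⁻¹)) = e * b * e * b⁻¹ * e⁻¹ := by group
      have e2 : (b * (e * b⁻¹ * e⁻¹))⁻¹ * e = e * b * e⁻¹ * b⁻¹ * e := by group
      rw [e1, e2, einv]
    have e4 : b * b = (b * (e * b * e⁻¹)) * (b * (e * b⁻¹ * e⁻¹)) := by
      have h5 := hZ _ heb _ hm
      have e5 : (b * (e * b * e⁻¹)) * (b * (e * b⁻¹ * e⁻¹)) = b * ((e * b * e⁻¹) * b) * (e * b⁻¹ * e⁻¹) := by group
      rw [e5, h5]; group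
    rw [e4, mul_smul, haa, hc]
  -- the maximal `N`
  let T : Set (Subgroup K) := {N | N ≤ Z ∧ ∃ w : W, w ≠ 0 ∧ (∀ n ∈ N, n • w = w) ∧ tr Z w = 0}
  have hT : N₁ ∈ T := by
    refine ⟨inf_le_left, y₁, hy10, fun n hn => MulAction.mem_stabilizer_iff.1 (mem_inf.1 hn).2, ?_⟩
    rw [hy₁, tr_add, trZ, smul_tr hd, h2]
  obtain ⟨N, hle, hmax⟩ := (Set.toFinite T).exists_le_maximal hT
  obtain ⟨hNZ, w, hw0, hw, hwZ⟩ := hmax.prop
  have hNodd := odd_of_le hodd hNZ
  -- `k ∉ N_K(N)`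
  have key : ∀ k : K, k ∉ normalizer (N : Set K) → tr N (k • w) = 0 := by
    intro k hk
    by_contra hu
    apply hk
    have hco : ∀ z ∈ Z, ∀ v : W, tr N (z • v) = z • tr N v := fun z hz v => tr_smul (fun n => by
      constructor
      · intro h
        have e1 : z * n * z⁻¹ = n := by rw [hZ z hz n (hNZ h)]; group
        rwa [e1]
      · intro h
        have h3 := hZ z⁻¹ (inv_mem hz) _ (hNZ h)
        have e1 : n = z⁻¹ * (z * n * z⁻¹) * z := by group
        rw [h3] at e1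
        have e2 : z * n * z⁻¹ * z⁻¹ * z = z * n * z⁻¹ := by group
        rw [e1, e2]
        exact h) v
    have hmem : N ⊔ N.map (MulAut.conj k).toMonoidHom ∈ T := by
      refine ⟨sup_le hNZ ?_, tr N (k • w), hu, ?_, ?_⟩
      · rintro _ ⟨n, hn', rfl⟩
        exact conjZ k n (hNZ hn')
      · have h3 : N ⊔ N.map (MulAut.conj k).toMonoidHom ≤ MulAction.stabilizer K (tr N (k • w)) := by
          refine sup_le (fun n hn' => MulAction.mem_stabilizer_iff.2 (smul_tr hn' _)) ?_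
          rintro _ ⟨n, hn', rfl⟩
          refine MulAction.mem_stabilizer_iff.2 ?_
          change (k * n * k⁻¹) • tr N (k • w) = _
          rw [← hco _ (conjZ k n (hNZ hn')), ← mul_smul]
          have e1 : k * n * k⁻¹ * k = k * n := by group
          rw [e1, mul_smul, hw n hn']
        exact fun n hn' => MulAction.mem_stabilizer_iff.1 (h3 hn')
      · have : Fintype N := Fintype.ofFinite N
        let φ : W →+ W :=
          { toFun := tr Z
            map_zero' := tr_zero Z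
            map_add' := tr_add Z }
        have e1 : tr N (k • w) = ∑ n : N, (n : K) • k • w := by
          unfold tr
          rw [finsum_eq_sum_of_fintype]
        have e2 : tr Z (tr N (k • w)) = φ (∑ n : N, (n : K) • k • w) := by rw [← e1]; rfl
        rw [e2, map_sum]
        refine Finset.sum_eq_zero fun n _ => ?_
        change tr Z ((n : K) • k • w) = 0
        rw [trZ, trZ, hwZ, smul_zero, smul_zero]
    have h4 := hmax.le_of_ge hmem le_sup_left
    have h5 : N.map (MulAut.conj k).toMonoidHom ≤ N := le_sup_right.trans h4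
    have h6 : N.map (MulAut.conj k).toMonoidHom = N := by
      refine Subgroup.eq_of_le_of_card_ge h5 ?_
      exact (Nat.card_congr (N.equivMapOfInjective (MulAut.conj k).toMonoidHom (MulAut.conj k).injective).toEquiv).le
    rw [mem_normalizer_iff]
    intro n
    constructor
    · intro hn'
      rw [← h6]
      exact ⟨n, hn', rfl⟩
    · intro hn'
      rw [← h6] at hn'
      obtain ⟨m, hm, e1⟩ := hn'
      change k * m * k⁻¹ = k * n * k⁻¹ at e1
      have e2 : m = n := by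
        have := congrArg (fun t => k⁻¹ * t * k) e1
        simpa [mul_assoc] using this
      rwa [← e2]
  -- some element of the conjugate normalises `N`
  have hex : g₀ * e * g₀⁻¹ ∈ normalizer (N : Set K) ∨ g₀ * f * g₀⁻¹ ∈ normalizer (N : Set K) ∨
      g₀ * (e * f) * g₀⁻¹ ∈ normalizer (N : Set K) := by
    by_contra hcon
    push Not at hcon
    obtain ⟨h3, h4, h5⟩ := hcon
    have h6 := congrArg (fun v => tr N (g₀ • v)) (quad (g₀⁻¹ • w))
    simp only [smul_add, smul_zero, tr_add, tr_zero, ← mul_smul] at h6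
    have e1 : g₀ * g₀⁻¹ = 1 := mul_inv_cancel _
    have e2 : g₀ * (e * g₀⁻¹) = g₀ * e * g₀⁻¹ := by group
    have e3 : g₀ * (f * g₀⁻¹) = g₀ * f * g₀⁻¹ := by group
    have e4 : g₀ * (e * f * g₀⁻¹) = g₀ * (e * f) * g₀⁻¹ := by group
    rw [e1, e2, e3, e4, one_smul, key _ h3, key _ h4, key _ h5, tr_fix h2 hNodd hw] at h6
    simp only [add_zero] at h6
    exact hw0 h6
  have heN : e ∈ normalizer (N : Set K) := by
    rw [mem_normalizer_iff]
    have h3 : ∀ n ∈ N, e * n * e⁻¹ ∈ N := by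
      intro n hn'
      have := mul_mem (hle (ha n (hNZ hn'))) hn'
      have e1 : e * n * e⁻¹ * n⁻¹ * n = e * n * e⁻¹ := by group
      rwa [e1] at this
    intro n
    refine ⟨h3 n, fun h => ?_⟩
    have h4 := h3 _ h
    have e1 : e * (e * n * e⁻¹) * e⁻¹ = (e * e) * n * (e⁻¹ * e⁻¹) := by group
    rw [e1, einv, he] at h4
    simpa using h4
  have hfN : f ∈ normalizer (N : Set K) := by
    rw [mem_normalizer_iff]
    have h3 : ∀ n ∈ N, f * n * f⁻¹ ∈ N := by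
      intro n hn'
      have := mul_mem (inv_mem hn') (hle (hb n (hNZ hn')))
      have e1 : n⁻¹ * (n * (f * n * f⁻¹)) = f * n * f⁻¹ := by group
      rwa [e1] at this
    intro n
    refine ⟨h3 n, fun h => ?_⟩
    have h4 := h3 _ h
    have e1 : f * (f * n * f⁻¹) * f⁻¹ = (f * f) * n * (f⁻¹ * f⁻¹) := by group
    rw [e1, finv, hf] at h4
    simpa using h4
  have htop : normalizer (N : Set K) = ⊤ := by
    refine hgen _ (fun c hc => ?_) heN hfN hex
    rw [mem_normalizer_iff]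
    have h3 : ∀ z ∈ Z, c * z * c⁻¹ = z := fun z hz => by
      rw [← mem_centralizer_iff.1 hc z hz]; group
    intro n
    constructor
    · intro h
      rw [h3 n (hNZ h)]; exact h
    · intro h
      have h4 : c⁻¹ * (c * n * c⁻¹) * c = c * n * c⁻¹ := by
        rw [mul_assoc, mem_centralizer_iff.1 hc _ (hNZ h)]; group
      have e1 : c⁻¹ * (c * n * c⁻¹) * c = n := by group
      rw [← e1, h4]
      exact h
  have hNn : ∀ k : K, ∀ n ∈ N, k * n * k⁻¹ ∈ N := fun k n h => by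
    have h3 : k ∈ normalizer (N : Set K) := by rw [htop]; exact mem_top k
    exact (mem_normalizer_iff.1 h3 n).1 h
  -- the centraliser of `Z / N`
  let H : Subgroup K :=
    { carrier := {k | ∀ z ∈ Z, k * z * k⁻¹ * z⁻¹ ∈ N}
      one_mem' := fun z _ => by simp [one_mem]
      mul_mem' := by
        intro k l hk hl z hz
        have h3 := mul_mem (hk _ (conjZ l z hz)) (hl z hz)
        have e1 : k * (l * z * l⁻¹) * k⁻¹ * (l * z * l⁻¹)⁻¹ * (l * z * l⁻¹ * z⁻¹) =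
          k * l * z * (k * l)⁻¹ * z⁻¹ := by group
        rwa [e1] at h3
      inv_mem' := by
        intro k hk z hz
        have h3 := inv_mem (hk _ (conjZ k⁻¹ z hz))
        have e1 : (k * (k⁻¹ * z * k⁻¹⁻¹) * k⁻¹ * (k⁻¹ * z * k⁻¹⁻¹)⁻¹)⁻¹ = k⁻¹ * z * k⁻¹⁻¹ * z⁻¹ := by group
        rwa [e1] at h3 }
  have hHn : H.Normal := ⟨fun k hk g z hz => by
    have h3 := hNn g _ (hk _ (conjZ g⁻¹ z hz))
    have e1 : g * (k * (g⁻¹ * z * g⁻¹⁻¹) * k⁻¹ * (g⁻¹ * z * g⁻¹⁻¹)⁻¹) * g⁻¹ =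
      g * k * g⁻¹ * z * (g * k * g⁻¹)⁻¹ * z⁻¹ := by group
    rwa [e1] at h3⟩
  have hfH : f ∈ H := by
    refine hsim H hHn (fun c hc z hz => ?_) fun z hz => hle (ha z hz)
    have e1 : c * z * c⁻¹ * z⁻¹ = 1 := by
      rw [← mem_centralizer_iff.1 hc z hz]; group
    rw [e1]
    exact one_mem _
  apply hw0
  rw [← hwZ, tr_fix h2 hodd]
  intro z hz
  refine odd_fix hodd hz (hw _ ?_)
  have h3 := mul_mem (hle (hb z hz)) (inv_mem (hfH z hz))
  have e1 : z * (f * z * f⁻¹) * (f * z * f⁻¹ * z⁻¹)⁻¹ = z * ((f * z * f⁻¹) * z) * (f * z * f⁻¹)⁻¹ := by group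
  rw [e1, hZ _ (conjZ f z hz) _ hz] at h3
  have e2 : z * (z * (f * z * f⁻¹)) * (f * z * f⁻¹)⁻¹ = z * z := by group
  rwa [e2] at h3

/-- splitting of a square under an involution -/
theorem split_pm (hn : Z.Normal) (hZ : ∀ a ∈ Z, ∀ b ∈ Z, a * b = b * a) {k z : K} (hk : k * k = 1) (hz : z ∈ Z) :
    ∃ p ∈ Z, ∃ m ∈ Z, p * m = z * z ∧ k * p = p * k ∧ k * m = m⁻¹ * k ∧
      p = z * (k * z * k⁻¹) ∧ m = z * (k * z⁻¹ * k⁻¹) := by
  have kinv : k⁻¹ = k := inv_eq_of_mul_eq_one_left hk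
  have h1 : k * z * k⁻¹ ∈ Z := hn.conj_mem _ hz k
  have h2 : k * z⁻¹ * k⁻¹ ∈ Z := hn.conj_mem _ (inv_mem hz) k
  refine ⟨z * (k * z * k⁻¹), mul_mem hz h1, z * (k * z⁻¹ * k⁻¹), mul_mem hz h2, ?_, ?_, ?_, rfl, rfl⟩
  · have e1 : z * (k * z * k⁻¹) * (z * (k * z⁻¹ * k⁻¹)) = z * ((k * z * k⁻¹) * z) * (k * z⁻¹ * k⁻¹) := by group
    rw [e1, hZ _ h1 _ hz]; group
  · have e1 : k * (z * (k * z * k⁻¹)) = (k * z * k⁻¹) * (k * k * z * k⁻¹) := by group
    have e2 : z * (k * z * k⁻¹) * k = z * (k * z) := by group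
    have h3 : k * z * k ∈ Z := by rw [kinv] at h1; exact h1
    rw [e1, hk, one_mul, e2, kinv]
    have e3 : k * z * k * (z * k) = (k * z * k * z) * k := by group
    rw [e3, hZ _ h3 _ hz]
    have e4 : z * (k * z * k) * k = z * (k * z * (k * k)) := by group
    rw [e4, hk, mul_one]
  · have e1 : k * (z * (k * z⁻¹ * k⁻¹)) = (k * z * k⁻¹) * (k * k * z⁻¹ * k⁻¹) := by group
    have e2 : (z * (k * z⁻¹ * k⁻¹))⁻¹ * k = (k * z * k⁻¹) * z⁻¹ * k := by group
    rw [e1, e2, hk, one_mul, kinv]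
    group

theorem inh_fix {e f z : K} (hef : e * f = f * e) (h : e * z = z * e) :
    e * (z * (f * z * f⁻¹)) = z * (f * z * f⁻¹) * e ∧ e * (z * (f * z⁻¹ * f⁻¹)) = z * (f * z⁻¹ * f⁻¹) * e := by
  have c1 : Commute e z := h
  have c2 : Commute e f := hef
  exact ⟨(c1.mul_right ((c2.mul_right c1).mul_right c2.inv_right)).eq,
    (c1.mul_right ((c2.mul_right c1.inv_right).mul_right c2.inv_right)).eq⟩

theorem inh_inv (hn : Z.Normal) (hZ : ∀ a ∈ Z, ∀ b ∈ Z, a * b = b * a) {e f z : K} (hz : z ∈ Z)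
    (hef : e * f = f * e) (h : e * z = z⁻¹ * e) :
    e * (z * (f * z * f⁻¹)) = (z * (f * z * f⁻¹))⁻¹ * e ∧
      e * (z * (f * z⁻¹ * f⁻¹)) = (z * (f * z⁻¹ * f⁻¹))⁻¹ * e := by
  have h1 : e * z * e⁻¹ = z⁻¹ := by rw [h]; group
  have h1' : e * z⁻¹ * e⁻¹ = z := by
    have : (e * z * e⁻¹)⁻¹ = z⁻¹⁻¹ := by rw [h1]
    rw [inv_inv] at this
    have e1 : e * z⁻¹ * e⁻¹ = (e * z * e⁻¹)⁻¹ := by group
    rw [e1, this]
  have c : e⁻¹ * f⁻¹ = f⁻¹ * e⁻¹ := by
    have := congrArg (fun t => t⁻¹) hef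
    simpa using this.symm
  have m1 : f * z⁻¹ * f⁻¹ ∈ Z := hn.conj_mem _ (inv_mem hz) f
  have m2 : f * z * f⁻¹ ∈ Z := hn.conj_mem _ hz f
  constructor
  · have e1 : e * (z * (f * z * f⁻¹)) = (e * z * e⁻¹) * ((e * f) * z * (f⁻¹ * e⁻¹)) * e := by group
    rw [e1, hef, ← c, h1]
    have e2 : f * e * z * (e⁻¹ * f⁻¹) = f * (e * z * e⁻¹) * f⁻¹ := by group
    rw [e2, h1, hZ _ (inv_mem hz) _ m1]
    group
  · have e1 : e * (z * (f * z⁻¹ * f⁻¹)) = (e * z * e⁻¹) * ((e * f) * z⁻¹ * (f⁻¹ * e⁻¹)) * e := by group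
    rw [e1, hef, ← c, h1]
    have e2 : f * e * z⁻¹ * (e⁻¹ * f⁻¹) = f * (e * z⁻¹ * e⁻¹) * f⁻¹ := by group
    rw [e2, h1', hZ _ (inv_mem hz) _ m2]
    group

/-- **LEMMA QW.** -/
theorem fix_abelian (h2 : ∀ w : W, w + w = 0) (hn : Z.Normal) (hZ : ∀ a ∈ Z, ∀ b ∈ Z, a * b = b * a)
    (hodd : Odd (Nat.card Z)) (he : e * e = 1) (hf : f * f = 1) (hef : e * f = f * e)
    (quad : ∀ w : W, w + e • w + f • w + (e * f) • w = 0) (g₀ : K)
    (hgen : ∀ H : Subgroup K, centralizer (Z : Set K) ≤ H → e ∈ H → f ∈ H →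
      (g₀ * e * g₀⁻¹ ∈ H ∨ g₀ * f * g₀⁻¹ ∈ H ∨ g₀ * (e * f) * g₀⁻¹ ∈ H) → H = ⊤)
    (hsim : ∀ H : Subgroup K, H.Normal → centralizer (Z : Set K) ≤ H → (e ∈ H ∨ f ∈ H ∨ e * f ∈ H) →
      e ∈ H ∧ f ∈ H) {y : W}
    (hyC : ∀ z ∈ Z, z * e = e * z → z * f = f * z → z • y = y) : ∀ z ∈ Z, z • y = y := by
  have hfe := hef.symm
  -- the three cores
  have ce : ∀ d ∈ Z, e * d = d * e → f * d = d⁻¹ * f → d • y = y := fun d hd h3 h4 =>
    core h2 hn hZ hodd he hf hef quad g₀ hgen (fun H h5 h6 h7 => (hsim H h5 h6 (Or.inl h7)).2) hyC hd h3.symm h4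
  have cf : ∀ d ∈ Z, f * d = d * f → e * d = d⁻¹ * e → d • y = y := fun d hd h3 h4 => by
    refine core h2 hn hZ hodd hf he hfe (fun w => ?_) g₀ (fun H h5 h6 h7 h8 => hgen H h5 h7 h6 ?_)
      (fun H h5 h6 h7 => (hsim H h5 h6 (Or.inr (Or.inl h7))).1) (fun z hz h5 h6 => hyC z hz h6 h5) hd h3.symm h4
    · rw [← hef, ← quad w]; abel
    · rw [← hef] at h8
      rcases h8 with h8 | h8 | h8
      · exact Or.inr (Or.inl h8)
      · exact Or.inl h8
      · exact Or.inr (Or.inr h8)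
  have cg : ∀ d ∈ Z, (e * f) * d = d * (e * f) → f * d = d⁻¹ * f → d • y = y := fun d hd h3 h4 => by
    have hg1 : e * f * (e * f) = 1 := by
      rw [mul_assoc, ← mul_assoc f e f, ← hef, mul_assoc e f f, hf, mul_one, he]
    have hg2 : e * f * f = f * (e * f) := by rw [← mul_assoc f, ← hef]
    have hg3 : e * f * f = e := by rw [mul_assoc, hf, mul_one]
    refine core h2 hn hZ hodd hg1 hf hg2 (fun w => ?_) g₀ (fun H h5 h6 h7 h8 => hgen H h5 ?_ h7 ?_)
      (fun H h5 h6 h7 => (hsim H h5 h6 (Or.inr (Or.inr h7))).2) (fun z hz h5 h6 => hyC z hz ?_ h6) hd h3.symm h4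
    · rw [hg3, ← quad w]; abel
    · have := mul_mem h6 h7
      rwa [hg3] at this
    · rw [hg3] at h8
      rcases h8 with h8 | h8 | h8
      · exact Or.inr (Or.inr h8)
      · exact Or.inr (Or.inl h8)
      · exact Or.inl h8
    · have c1 : Commute z (e * f) := h5
      have c2 : Commute z f := h6
      have := c1.mul_right c2
      rw [hg3] at this
      exact this.eq
  -- elements fixed by `e`
  have he1 : ∀ z ∈ Z, e * z = z * e → z • y = y := by
    intro z hz h3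
    obtain ⟨p, hp, m, hm, e1, h4, h5, rfl, rfl⟩ := split_pm hn hZ hf hz
    obtain ⟨h6, h7⟩ := inh_fix hef h3
    refine odd_fix hodd hz ?_
    rw [← e1, mul_smul, ce _ hm h7 h5]
    exact hyC _ hp h6.symm h4.symm
  have he2 : ∀ z ∈ Z, e * z = z⁻¹ * e → z • y = y := by
    intro z hz h3
    obtain ⟨p, hp, m, hm, e1, h4, h5, rfl, rfl⟩ := split_pm hn hZ hf hz
    obtain ⟨h6, h7⟩ := inh_inv hn hZ hz hef h3
    refine odd_fix hodd hz ?_
    rw [← e1, mul_smul]
    rw [cg _ hm ?_ h5]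
    · exact cf _ hp h4 h6
    · generalize z * (f * z⁻¹ * f⁻¹) = m at h5 h7
      have e2 : e * m⁻¹ = m * e := by
        have : e * m * e⁻¹ = m⁻¹ := by rw [h7]; group
        have h8 : (e * m * e⁻¹)⁻¹ = m⁻¹⁻¹ := by rw [this]
        rw [inv_inv] at h8
        have e3 : e * m⁻¹ = (e * m * e⁻¹)⁻¹ * e := by group
        rw [e3, h8]
      rw [mul_assoc, h5, ← mul_assoc, e2, mul_assoc]
  intro z hz
  obtain ⟨p, hp, m, hm, e1, h4, h5, -, -⟩ := split_pm hn hZ he hz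
  refine odd_fix hodd hz ?_
  rw [← e1, mul_smul, he2 _ hm h5, he1 _ hp h4]

end core

/-- A vector centralised by a subgroup `N` of index 5 is centralised by `K` if a quadratic four-group is regular on the
other four points. -/
theorem fix_of_five {e f : K} (he : e * e = 1) (hf : f * f = 1) (hef : e * f = f * e)
    (quad : ∀ w : W, w + e • w + f • w + (e * f) • w = 0) {N : Subgroup K} (h5 : N.index = 5)
    (hreg : ∀ g : K, g ∉ N → g⁻¹ * e * g ∉ N ∧ g⁻¹ * f * g ∉ N ∧ g⁻¹ * (e * f) * g ∉ N)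
    (heN : e ∈ N) (hfN : f ∈ N) {y : W} (hy : ∀ n ∈ N, n • y = y) (k : K) : k • y = y := by
  classical
  have : Fintype (K ⧸ N) := Fintype.ofFinite _
  have hY : ∀ a b : K, (a : K ⧸ N) = b → a • y = b • y := by
    intro a b h
    have h3 := QuotientGroup.eq.1 h
    have h4 := hy _ h3
    have h6 : a • (a⁻¹ * b) • y = a • y := by rw [h4]
    rw [← mul_smul] at h6
    rw [← h6]
    congr 1
    group
  let Y : K ⧸ N → W := fun p => (Quotient.out p : K) • y
  have hYa : ∀ a : K, Y (a : K ⧸ N) = a • y := fun a => hY _ _ (QuotientGroup.out_eq' _)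
  -- the total sum is fixed by `K`
  have hsum : ∀ g : K, g • ∑ p : K ⧸ N, Y p = ∑ p : K ⧸ N, Y p := by
    intro g
    rw [Finset.smul_sum]
    refine Fintype.sum_equiv (MulAction.toPerm g) _ _ fun p => ?_
    obtain ⟨a, rfl⟩ := QuotientGroup.mk_surjective p
    rw [hYa]
    change g • a • y = Y (g • (a : K ⧸ N))
    have : g • (a : K ⧸ N) = ((g * a : K) : K ⧸ N) := rfl
    rw [this, hYa, mul_smul]
  -- it is `y`
  have hcard : Fintype.card (K ⧸ N) = 5 := by rw [← Nat.card_eq_fintype_card]; exact h5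
  obtain ⟨g, hg⟩ : ∃ g : K, g ∉ N := by
    by_contra hcon
    push Not at hcon
    have : N = ⊤ := (eq_top_iff' _).2 hcon
    rw [this, index_top] at h5
    norm_num at h5
  obtain ⟨r1, r2, r3⟩ := hreg g hg
  have einv : e⁻¹ = e := inv_eq_of_mul_eq_one_left he
  have finv : f⁻¹ = f := inv_eq_of_mul_eq_one_left hf
  have ne1 : ∀ t ∈ N, ((t * g : K) : K ⧸ N) ≠ ((1 : K) : K ⧸ N) := by
    intro t ht h
    have h3 := QuotientGroup.eq.1 h
    rw [mul_one] at h3
    have h4 := inv_mem h3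
    rw [inv_inv] at h4
    apply hg
    have h6 := mul_mem (inv_mem ht) h4
    rwa [← mul_assoc, inv_mul_cancel, one_mul] at h6
  have ne2 : ∀ s t : K, g⁻¹ * (s⁻¹ * t) * g ∉ N → ((s * g : K) : K ⧸ N) ≠ ((t * g : K) : K ⧸ N) := by
    intro s t hst h
    apply hst
    have h3 := QuotientGroup.eq.1 h
    have e1 : (s * g)⁻¹ * (t * g) = g⁻¹ * (s⁻¹ * t) * g := by group
    rwa [e1] at h3
  have hs : (Finset.univ : Finset (K ⧸ N)) =
      {((1 : K) : K ⧸ N), ((1 * g : K) : K ⧸ N), ((e * g : K) : K ⧸ N), ((f * g : K) : K ⧸ N),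
        ((e * f * g : K) : K ⧸ N)} := by
    symm
    apply Finset.eq_univ_of_card
    rw [hcard, Finset.card_insert_of_notMem, Finset.card_insert_of_notMem, Finset.card_insert_of_notMem,
      Finset.card_insert_of_notMem, Finset.card_singleton]
    · simp only [Finset.mem_singleton]
      refine ne2 _ _ ?_
      have e1 : g⁻¹ * (f⁻¹ * (e * f)) * g = g⁻¹ * e * g := by rw [hef]; group
      rwa [e1]
    · simp only [Finset.mem_insert, Finset.mem_singleton, not_or]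
      refine ⟨ne2 _ _ ?_, ne2 _ _ ?_⟩
      · rwa [einv]
      · have e1 : g⁻¹ * (e⁻¹ * (e * f)) * g = g⁻¹ * f * g := by group
        rwa [e1]
    · simp only [Finset.mem_insert, Finset.mem_singleton, not_or]
      refine ⟨ne2 _ _ ?_, ne2 _ _ ?_, ne2 _ _ ?_⟩ <;> rw [inv_one, one_mul]
      · exact r1
      · exact r2
      · exact r3
    · simp only [Finset.mem_insert, Finset.mem_singleton, not_or]
      exact ⟨(ne1 1 (one_mem _)).symm, (ne1 e heN).symm, (ne1 f hfN).symm, (ne1 _ (mul_mem heN hfN)).symm⟩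
  have htot : ∑ p : K ⧸ N, Y p = y := by
    rw [hs, Finset.sum_insert, Finset.sum_insert, Finset.sum_insert, Finset.sum_insert, Finset.sum_singleton,
      hYa, hYa, hYa, hYa, hYa, one_smul, one_mul]
    · have := quad (g • y)
      rw [← mul_smul, ← mul_smul, ← mul_smul] at this
      have e1 : g • y + ((e * g) • y + ((f * g) • y + (e * f * g) • y)) =
        g • y + (e * g) • y + (f * g) • y + (e * f * g) • y := by abel
      rw [e1, this, add_zero]
    · simp only [Finset.mem_singleton]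
      refine ne2 _ _ ?_
      have e1 : g⁻¹ * (f⁻¹ * (e * f)) * g = g⁻¹ * e * g := by rw [hef]; group
      rwa [e1]
    · simp only [Finset.mem_insert, Finset.mem_singleton, not_or]
      refine ⟨ne2 _ _ ?_, ne2 _ _ ?_⟩
      · rwa [einv]
      · have e1 : g⁻¹ * (e⁻¹ * (e * f)) * g = g⁻¹ * f * g := by group
        rwa [e1]
    · simp only [Finset.mem_insert, Finset.mem_singleton, not_or]
      refine ⟨ne2 _ _ ?_, ne2 _ _ ?_, ne2 _ _ ?_⟩ <;> rw [inv_one, one_mul]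
      · exact r1
      · exact r2
      · exact r3
    · simp only [Finset.mem_insert, Finset.mem_singleton, not_or]
      exact ⟨(ne1 1 (one_mem _)).symm, (ne1 e heN).symm, (ne1 f hfN).symm, (ne1 _ (mul_mem heN hfN)).symm⟩
  rw [← htot]
  exact hsum k

end Cfsg.Agent.Omega.OM.Lev.Low.QW

end
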