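import Cfsg.Agent.Mrg.Omega.OM.Lev.Low.SetS
import Cfsg.Agent.Mrg.Omega.OM.Lev.Low.TwoBlk


/-!
# TORUS, `k = 2 = q` (helper109 #23071, (F)): the exact `A` and (five) over the frame `Res`, every stage

* `exists_UA` : `Res` at stage `j`, `⟨K, S⟩` local, `K ≤ N(lev S i)` if `j = i + 1`: a normal elementary abelian `U ≥ ⁅M, K⁆`
  of `⟨K, S⟩`, `U ≤ B₀`, and `A ≤ B₀` with `B₀ = A C_B₀(⁅M, K⁆)`, `U = ⁅M, K⁆ C_U(A)`; (five) for all `t ∈ S`.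
-/

set_option autoImplicit false
set_option linter.unusedSectionVars false

namespace Cfsg.Agent.Omega.OM.Lev.Low.SetS

open Subgroup Cfsg Cfsg.Agent.ZN Cfsg.Agent.ZN.ChoiceBase
open Cfsg.Agent.Omega.MinPar (IsLoc)
open Cfsg.Agent.Omega.NO3S.Level (lev)
open Cfsg.Agent.Omega.NO3S.Level.Claim (cB)
open Cfsg.Agent.Omega.OM.LevB (BL)
open Cfsg.Agent.Omega.OM.Lev.Low.TwoRes (Res)

universe u

variable {G : Type u} [Group G] [Finite G]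

/-- **`U`, `A` and (five)** -/
theorem exists_UA {S : Sylow 2 G} {j : ℕ} {B M N1 D K c : Subgroup G} {z z1 z2 : G}
    (R : Res S B (BL (S : Subgroup G) j) (zc (lev (S : Subgroup G) j)) M N1 D K c z z1 z2)
    (hK : ∀ n, j = n + 1 → K ≤ normalizer (lev (S : Subgroup G) n : Set G)) (hG : IsCharacteristicTwoType G)
    (hL : IsLoc (S : Subgroup G) (K ⊔ (S : Subgroup G))) :
    ∃ U A : Subgroup G, K ⊔ (S : Subgroup G) ≤ normalizer (U : Set G) ∧ IsElementaryAbelian 2 U ∧ ⁅M, K⁆ ≤ U ∧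
      U ≤ BL (S : Subgroup G) j ∧ A ≤ BL (S : Subgroup G) j ∧ ¬ A ≤ centralizer ((⁅M, K⁆ : Subgroup G) : Set G) ∧
      (∀ b ∈ BL (S : Subgroup G) j, ∃ a ∈ A, ∃ p ∈ cB (BL (S : Subgroup G) j) ⁅M, K⁆, b = a * p) ∧
      (∀ u ∈ U, ∃ v ∈ ⁅M, K⁆, ∃ w ∈ U, (∀ a ∈ A, a * w = w * a) ∧ u = v * w) ∧
      ⁅U, A⁆ = ⁅⁅M, K⁆, BL (S : Subgroup G) j⁆ ∧
      ∀ t ∈ (S : Subgroup G), cj t ⁅⁅M, K⁆, BL (S : Subgroup G) j⁆ = ⁅⁅M, K⁆, BL (S : Subgroup G) j⁆ ∨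
        cj t ⁅⁅M, K⁆, BL (S : Subgroup G) j⁆ ≤ centralizer (K : Set G) := by
  have hz : ¬ K ≤ centralizer (zc (S : Subgroup G) : Set G) := fun h1 => R.zK
    (mem_centralizer_iff.2 fun k hk => (mem_centralizer_iff.1 (h1 hk) z R.zz).symm)
  obtain ⟨s, hs, hsB⟩ := R.ne
  obtain ⟨h1, h2, ⟨A, h3, h4, h5, h6, -, h8⟩, h9⟩ := out S R.pb (H := K ⊔ (S : Subgroup G)) le_sup_left le_sup_right le_rfl
    hz (fun _ => ⟨hL.char2 S hG, X_le_UU (R.sup_eq hs hsB).ge R.cV (mem_sup_right hs)⟩)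
    fun n hn => sup_le (hK n hn) (S_norm_lev S n)
  exact ⟨_, A, UU_norm _ _, h1, le_UU _ _, h2, h3, h4, h6, h5, h8, h9⟩

end Cfsg.Agent.Omega.OM.Lev.Low.SetS
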